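import Cfsg.Agent.Lib.Fischer3Tv.Chart

/-!
# Centres of perps and relations in the groups of type M22
-/

set_option autoImplicit false
set_option linter.unusedSectionVars false
set_option linter.style.haveILetI false

namespace Cfsg.Agent.Fischer3Tv

open Cfsg ClassK Fischer3 Fischer3Rel AutPSU

universe u

variable {G : Type u} [Group G] [Finite G] {D : Set G}

section

variable (hG : IsThreeTranspositionGroup D) (hprim : IsPrimitiveUnderConj D) (hM : IsOfTypeM22 G D)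
include hG hprim hM

theorem exists_perp {d : G} (hd : d ∈ D) : ∃ y, y ∈ perp D d := by
  obtain ⟨F, _, _, ⟨C⟩⟩ := exists_chart hG hprim hM hd
  obtain ⟨x, hx, hxx⟩ := exists_isotropic (F := F) (q := 2) (n := 6) (by norm_num)
  obtain ⟨y, -⟩ := C.surj ⟨x, hx, hxx⟩
  exact ⟨y, y.2⟩

theorem pCore_two_bot : pCore 2 G = ⊥ := by
  obtain ⟨d, hd, -⟩ := hprim.2.1
  obtain ⟨y, hy⟩ := exists_perp hG hprim hM hd
  exact le_bot_iff.1 (hM.1 ▸
    (pCores_central_of_primitive hG hprim ⟨d, hd, y, hy.1, hy.2.1.symm, hy.2.2⟩).1)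

theorem perp_flip {d y : G} (hd : d ∈ D) (hy : y ∈ perp D d) : d ∈ perp D y :=
  ⟨hd, hy.2.1.symm, hy.2.2.symm⟩

/-- An element of the group of a perp centralising the perp is trivial or is the member itself. -/
theorem central_perp {a z : G} (ha : a ∈ D) (hz : z ∈ H D a)
    (hzc : ∀ x ∈ perp D a, Commute z x) : z = 1 ∨ z = a := by
  have hza : Commute z a := Subgroup.mem_centralizer_singleton_iff.1
    ((Subgroup.closure_le _).2
      (fun x hx => Subgroup.mem_centralizer_singleton_iff.2 hx.2.2.eq.symm) hz :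
        z ∈ Subgroup.centralizer {a})
  obtain ⟨y, hy⟩ := exists_perp hG hprim hM ha
  obtain ⟨F, _, _, ⟨C⟩⟩ := exists_chart hG hprim hM hy.1
  set u := C.pt ⟨a, perp_flip hG hprim hM ha hy⟩ with hu
  -- a member not commuting with `a` in the perp of `y`
  obtain ⟨w, hw, hww⟩ := exists_partner (q := 2) u.2.1 u.2.2
  have hw0 : w ≠ 0 := fun e => by rw [e, H_zero_left] at hw; exact zero_ne_one hw
  obtain ⟨c, hc⟩ := C.surj ⟨w, hw0, hww⟩
  have hac : ¬ Commute a (c : G) := fun h => by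
    have h1 : Commute (tp u) (tp (C.pt c)) :=
      (tp_comm_iff _ _).2 ((C.comm ⟨a, perp_flip hG hprim hM ha hy⟩ c).1 h)
    rw [hc] at h1
    exact one_ne_zero (hw.symm.trans (H_eq_zero_comm.1 ((tp_comm_iff u _).1 h1)))
  have huv : Cfsg.hermForm 6 F 2 u.1 (C.pt c).1 ≠ 0 := fun h =>
    hac ((C.comm ⟨a, perp_flip hG hprim hM ha hy⟩ c).2 h)
  have hCls := class_of_primitive hG hprim
  have gen : ∀ g : G, Commute g a → (∀ x ∈ perp D a, Commute g x) → Commute g (c : G) → g = 1 := by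
    intro g hga hgp hgc
    obtain ⟨h2, h3⟩ := pCores_central_of_primitive hG hprim
      ⟨a, ha, y, hy.1, hy.2.1.symm, hy.2.2⟩
    obtain ⟨L, hn, hL, -⟩ := exists_component_data hCls hprim.2.1 h2 h3
    have hidx := index_le_two_of_connected hCls hL
      (connected_of_primitive hG hprim ⟨a, ha, y, hy.1, hy.2.1.symm, hy.2.2⟩)
    set T := {x : G | x ∈ D ∧ Commute a x} ∪ {(c : G)}
    have hT : IsDSubgroup D (Subgroup.closure T) := le_antisymm
      ((Subgroup.closure_le _).2 fun x hx => hx.2)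
      (Subgroup.closure_mono fun x hx => ⟨hx.elim (fun h => h.1) (fun h => h.symm ▸ c.2.1),
        Subgroup.subset_closure hx⟩)
    have hle : Subgroup.closure T ≤ Subgroup.centralizer {g} := by
      refine (Subgroup.closure_le _).2 fun x hx => Subgroup.mem_centralizer_singleton_iff.2 ?_
      rcases hx with ⟨hx, hax⟩ | rfl
      · by_cases e : x = a
        · exact e ▸ hga.eq.symm
        · exact (hgp x ⟨hx, e, hax⟩).eq.symm
      · exact hgc.eq.symm
    rcases perp_maximal hCls hprim.2.1 h2 h3 hL hidx ha hT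
        (Subgroup.closure_mono Set.subset_union_left) with e | e
    · have hcl : Subgroup.closure {x : G | x ∈ D ∧ Commute a x} ≤ Subgroup.centralizer {a} :=
        (Subgroup.closure_le _).2 fun x hx => Subgroup.mem_centralizer_singleton_iff.2 hx.2.eq.symm
      exact absurd (Subgroup.mem_centralizer_singleton_iff.1
        (hcl (e ▸ Subgroup.subset_closure (Or.inr rfl : (c : G) ∈ T)))).symm hac
    · have : g ∈ Subgroup.center G := Subgroup.mem_center_iff.2 fun x =>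
        Subgroup.mem_centralizer_singleton_iff.1 (hle (e ▸ Subgroup.mem_top x))
      rwa [hM.1, Subgroup.mem_bot] at this
  by_cases hzcc : z * (c : G) * z⁻¹ = c
  · exact Or.inl (gen z hza hzc (mul_inv_eq_iff_eq_mul.1 hzcc))
  refine Or.inr ?_
  -- the two images of `c` in the chart
  have hzy : Commute z y := hzc y hy
  have mk : ∀ g : G, Commute g a → Commute g y → g * (c : G) * g⁻¹ ∈ perp D y ∧
      ¬ Commute a (g * (c : G) * g⁻¹) := fun g hga hgy => by
    have h1 := perp_conj hG g c.2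
    rw [conj_eq_of_commute hgy] at h1
    refine ⟨h1, fun h => hac ?_⟩
    rw [← conj_eq_of_commute hga, commute_conj_iff] at h
    exact h
  obtain ⟨hs, hs'⟩ := mk z hza hzy
  obtain ⟨ht, ht'⟩ := mk a (Commute.refl a) hy.2.2
  have comm_x : ∀ g : G, (∀ x ∈ perp D a, Commute g x) → ∀ hg : g * (c : G) * g⁻¹ ∈ perp D y,
      ∀ p : Pt F, Cfsg.hermForm 6 F 2 p.1 u.1 = 0 → Cfsg.hermForm 6 F 2 p.1 (C.pt c).1 = 0 →
        Cfsg.hermForm 6 F 2 p.1 (C.pt ⟨_, hg⟩).1 = 0 := by
    intro g hgp hg p hpu hpc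
    obtain ⟨x, hx⟩ := C.surj p
    have t : ∀ r : Pt F, Cfsg.hermForm 6 F 2 p.1 r.1 = 0 ↔ Cfsg.hermForm 6 F 2 (C.pt x).1 r.1 = 0 :=
      fun r => by rw [← tp_comm_iff, ← tp_comm_iff, hx]
    have hxa : Commute (x : G) a := (C.comm x ⟨a, perp_flip hG hprim hM ha hy⟩).2 ((t u).1 hpu)
    have hxc : Commute (x : G) c := (C.comm x c).2 ((t _).1 hpc)
    have hne : (x : G) ≠ a := fun e => hac (e ▸ hxc)
    refine (t _).2 ((C.comm x ⟨_, hg⟩).1 ?_)
    rw [← conj_eq_of_commute (hgp x ⟨x.2.1, hne, hxa.symm⟩)]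
    exact commute_conj g hxc
  have ind : ∀ (g : G) (hg : g * (c : G) * g⁻¹ ∈ perp D y), ¬ Commute a (g * (c : G) * g⁻¹) →
      g * (c : G) * g⁻¹ ≠ c → Indep u (C.pt ⟨_, hg⟩) ∧ Indep (C.pt c) (C.pt ⟨_, hg⟩) := by
    intro g hg hn hne
    refine ⟨indep_iff.2 fun e => hn ?_, indep_iff.2 fun e => hne ?_⟩
    · have h0 : a = g * (c : G) * g⁻¹ := congrArg Subtype.val (C.inj _ _ e)
      rw [← h0]
    · exact (congrArg Subtype.val (C.inj _ _ e)).symm
  have htne : a * (c : G) * a⁻¹ ≠ c := fun e => hac (mul_inv_eq_iff_eq_mul.1 e)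
  obtain ⟨i1, i2⟩ := ind z hs hs' hzcc
  obtain ⟨i3, i4⟩ := ind a ht ht' htne
  have hnot := hyp_third huv (comm_x z hzc hs) (comm_x a (fun x hx => hx.2.2) ht) i1 i2 i3 i4
  rw [indep_iff, not_not] at hnot
  have heq : z * (c : G) * z⁻¹ = a * (c : G) * a⁻¹ := congrArg Subtype.val (C.inj _ _ hnot)
  have h1 : a⁻¹ * z = 1 := gen _ ((Commute.refl a).inv_left.mul_left hza)
    (fun x hx => hx.2.2.inv_left.mul_left (hzc x hx)) (by
      refine mul_inv_eq_iff_eq_mul.1 ?_
      rw [mul_inv_rev, inv_inv, show a⁻¹ * z * (c : G) * (z⁻¹ * a) = a⁻¹ * (z * c * z⁻¹) * a by group,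
        heq]
      group)
  exact (inv_mul_eq_one.1 h1).symm

/-- No five commuting members have trivial product. -/
theorem no_five {L : List G} (hL : IsRel D L) (hlen : L.length = 5) : False :=
  m22_five (class_of_primitive hG hprim) (pCore_two_bot hG hprim hM) hM hL hlen

end

variable {d : G} {F : Type} [Field F] [QField F 2]

/-- A trivial product of points lifts to a product equal to one or to the member. -/
theorem Chart.prod_cases (hG : IsThreeTranspositionGroup D) (hprim : IsPrimitiveUnderConj D)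
    (hM : IsOfTypeM22 G D) (hd : d ∈ D) (C : Chart D d F) {L : List ↥(perp D d)}
    (h : (L.map (tp ∘ C.pt)).prod = 1) :
    (L.map Subtype.val).prod = 1 ∨ (L.map Subtype.val).prod = d :=
  central_perp hG hprim hM hd
    (list_prod_mem fun x hx => by
      obtain ⟨y, -, rfl⟩ := List.mem_map.1 hx
      exact Subgroup.subset_closure y.2)
    ((C.rel L).1 h)

/-- The five members over a totally isotropic line. -/
theorem line (hG : IsThreeTranspositionGroup D) (hprim : IsPrimitiveUnderConj D)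
    (hM : IsOfTypeM22 G D) {d y z : G} (hd : d ∈ D) (hy : y ∈ perp D d) (hz : z ∈ perp D d)
    (hne : y ≠ z) (hyz : Commute y z) :
    ∃ p q r : G, [y, z, p, q, r].Nodup ∧ (∀ x ∈ [y, z, p, q, r], x ∈ perp D d) ∧
      (∀ x ∈ [y, z, p, q, r], ∀ x' ∈ [y, z, p, q, r], Commute x x') ∧
      [y, z, p, q, r].prod = d ∧
      ∀ s t v : G, s ∈ perp D d → t ∈ perp D d → v ∈ perp D d → [y, z, s, t, v].Nodup →
        (∀ x ∈ [y, z, s, t, v], ∀ x' ∈ [y, z, s, t, v], Commute x x') →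
        [y, z, s, t, v].prod = d → s = p ∨ s = q ∨ s = r := by
  obtain ⟨F, _, _, ⟨C⟩⟩ := exists_chart hG hprim hM hd
  obtain ⟨w, hw, hw0, hw1⟩ := exists_om F
  set Y : ↥(perp D d) := ⟨y, hy⟩
  set Z : ↥(perp D d) := ⟨z, hz⟩
  set a := C.pt Y
  set b := C.pt Z
  have hab : Indep a b := indep_iff.2 fun e => hne (congrArg Subtype.val (C.inj _ _ e))
  have ho : Cfsg.hermForm 6 F 2 a.1 b.1 = 0 := (C.comm Y Z).1 hyz
  let P : F → Pt F := fun k => ⟨a.1 + k • b.1, line_pt a b hab ho k⟩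
  obtain ⟨X₁, h₁⟩ := C.surj (P 1)
  obtain ⟨X₂, h₂⟩ := C.surj (P w)
  obtain ⟨X₃, h₃⟩ := C.surj (P (w + 1))
  have hap : ∀ k : F, k ≠ 0 → tp a ≠ tp (P k) ∧ tp b ≠ tp (P k) := fun k hk => by
    refine ⟨indep_iff.1 fun c hc => ?_, indep_iff.1 fun c hc => ?_⟩ <;>
      change a.1 + k • b.1 = c • _ at hc
    · exact hk (hab.eq_zero (a := 1 - c) (b := k) (by linear_combination (norm := module) hc)).2
    · exact one_ne_zero (α := F)
        (hab.eq_zero (a := 1) (b := k - c) (by linear_combination (norm := module) hc)).1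
  have hpp : ∀ k k' : F, tp (P k) = tp (P k') → k = k' := fun k k' e => by
    obtain ⟨c, hc⟩ := (tp_eq_iff _ _).1 e
    change a.1 + k' • b.1 = c • (a.1 + k • b.1) at hc
    obtain ⟨e1, e2⟩ := hab.eq_zero (a := 1 - c) (b := k' - c * k)
      (by linear_combination (norm := module) hc)
    rw [← sub_eq_zero.1 e1, one_mul] at e2
    exact (sub_eq_zero.1 e2).symm
  have hw1' : w + 1 ≠ 0 := fun e => hw1 (eq_of_add_eq_zero e)
  have h1w : (1 : F) ≠ w + 1 := fun e => hw0 (by linear_combination -e)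
  have hww : w ≠ w + 1 := fun e => one_ne_zero (α := F) (by linear_combination -e)
  have hnd : [tp a, tp b, tp (P 1), tp (P w), tp (P (w + 1))].Nodup := by
    simp only [List.nodup_cons, List.mem_cons, List.not_mem_nil, or_false, not_or, List.nodup_nil,
      not_false_eq_true, and_true]
    exact ⟨⟨indep_iff.1 hab, (hap 1 one_ne_zero).1, (hap w hw0).1, (hap _ hw1').1⟩,
      ⟨(hap 1 one_ne_zero).2, (hap w hw0).2, (hap _ hw1').2⟩,
      ⟨fun e => hw1 (hpp _ _ e).symm, fun e => h1w (hpp _ _ e)⟩, fun e => hww (hpp _ _ e)⟩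
  have hmap : [Y, Z, X₁, X₂, X₃].map (tp ∘ C.pt) = [a, b, P 1, P w, P (w + 1)].map tp := by
    simp [a, b, h₁, h₂, h₃]
  have hnd' : ([Y, Z, X₁, X₂, X₃].map Subtype.val).Nodup := by
    refine List.Nodup.map Subtype.val_injective (List.Nodup.of_map (tp ∘ C.pt) ?_)
    rw [hmap]; exact hnd
  have horth : ∀ x ∈ [a, b, P 1, P w, P (w + 1)], ∀ x' ∈ [a, b, P 1, P w, P (w + 1)],
      Cfsg.hermForm 6 F 2 x.1 x'.1 = 0 := by
    intro x hx x' hx'
    have sp : ∀ x ∈ [a, b, P 1, P w, P (w + 1)], ∃ k l : F, x.1 = k • a.1 + l • b.1 := by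
      intro x hx
      simp only [List.mem_cons, List.not_mem_nil, or_false] at hx
      rcases hx with rfl | rfl | rfl | rfl | rfl
      exacts [⟨1, 0, by simp⟩, ⟨0, 1, by simp⟩, ⟨1, 1, by simp [P]⟩, ⟨1, w, by simp [P]⟩,
        ⟨1, w + 1, by simp [P]⟩]
    obtain ⟨k, l, e⟩ := sp x hx
    obtain ⟨k', l', e'⟩ := sp x' hx'
    simp [e, e', a.2.2, b.2.2, ho, H_eq_zero_comm.1 ho]
  have hcm : ∀ x ∈ [Y, Z, X₁, X₂, X₃], ∀ x' ∈ [Y, Z, X₁, X₂, X₃], Commute (x : G) x' := by
    intro x hx x' hx'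
    obtain ⟨u, hu, eu⟩ := List.mem_map.1
      (hmap ▸ List.mem_map_of_mem (f := tp ∘ C.pt) hx : (tp ∘ C.pt) x ∈ _)
    obtain ⟨u', hu', eu'⟩ := List.mem_map.1
      (hmap ▸ List.mem_map_of_mem (f := tp ∘ C.pt) hx' : (tp ∘ C.pt) x' ∈ _)
    refine (C.comm x x').2 ((tp_comm_iff _ _).1 ?_)
    rw [show tp (C.pt x) = tp u from eu.symm, show tp (C.pt x') = tp u' from eu'.symm]
    exact (tp_comm_iff _ _).2 (horth u hu u' hu')
  have hprod : ([Y, Z, X₁, X₂, X₃].map Subtype.val).prod = d := by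
    refine (C.prod_cases hG hprim hM hd ?_).resolve_left fun e => ?_
    · rw [hmap]
      exact (prod_tp_iff horth).2 (line_S a b hw _ _ _ rfl rfl rfl)
    · refine no_five hG hprim hM (L := [Y, Z, X₁, X₂, X₃].map Subtype.val)
        ⟨hnd', fun x hx => ?_, fun x hx x' hx' => ?_, e⟩ (by simp)
      · obtain ⟨v, -, rfl⟩ := List.mem_map.1 hx
        exact v.2.1
      · obtain ⟨v, hv, rfl⟩ := List.mem_map.1 hx
        obtain ⟨v', hv', rfl⟩ := List.mem_map.1 hx'
        exact hcm v hv v' hv'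
  refine ⟨X₁, X₂, X₃, hnd', ?_, ?_, hprod, ?_⟩
  · intro x hx
    simp only [List.mem_cons, List.not_mem_nil, or_false] at hx
    rcases hx with rfl | rfl | rfl | rfl | rfl
    exacts [hy, hz, X₁.2, X₂.2, X₃.2]
  · intro x hx x' hx'
    obtain ⟨v, hv, rfl⟩ := List.mem_map.1
      (show x ∈ [Y, Z, X₁, X₂, X₃].map Subtype.val by exact hx)
    obtain ⟨v', hv', rfl⟩ := List.mem_map.1
      (show x' ∈ [Y, Z, X₁, X₂, X₃].map Subtype.val by exact hx')
    exact hcm v hv v' hv'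
  intro s t v hs ht hv hn hc hp
  set S' : ↥(perp D d) := ⟨s, hs⟩
  set T' : ↥(perp D d) := ⟨t, ht⟩
  set V' : ↥(perp D d) := ⟨v, hv⟩
  have hort : ∀ x ∈ [Y, Z, S', T', V'].map C.pt, ∀ x' ∈ [Y, Z, S', T', V'].map C.pt,
      Cfsg.hermForm 6 F 2 x.1 x'.1 = 0 := by
    intro x hx x' hx'
    obtain ⟨g, hg, rfl⟩ := List.mem_map.1 hx
    obtain ⟨g', hg', rfl⟩ := List.mem_map.1 hx'
    exact (C.comm g g').1 (hc _ (List.mem_map_of_mem (f := Subtype.val) hg :
      (g : G) ∈ [Y, Z, S', T', V'].map Subtype.val) _ (List.mem_map_of_mem (f := Subtype.val) hg' :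
      (g' : G) ∈ [Y, Z, S', T', V'].map Subtype.val))
  have hS := (prod_tp_iff hort).1 (by
    rw [List.map_map]
    refine (C.rel _).2 fun x hx => ?_
    rw [show ([Y, Z, S', T', V'].map Subtype.val).prod = d from hp]
    exact hx.2.2)
  have hnd2 : ∀ g g' : ↥(perp D d), (g : G) ≠ g' → Indep (C.pt g) (C.pt g') := fun g g' h =>
    indep_iff.2 fun e => h (congrArg Subtype.val (C.inj _ _ e))
  simp only [List.nodup_cons, List.mem_cons, List.not_mem_nil, or_false, not_or] at hn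
  obtain ⟨⟨-, hys, -, -⟩, ⟨hzs, -, -⟩, ⟨hst, -⟩, -⟩ := hn
  obtain ⟨k, l, e⟩ := five_span hab (hnd2 T' S' (Ne.symm hst)) hS
  obtain ⟨m, hm, c, hcs⟩ := span_cases hw (hnd2 Y S' hys) (hnd2 Z S' hzs) e
  have heq : tp (C.pt S') = tp (P m) := ((tp_eq_iff (P m) _).2 ⟨c, hcs⟩).symm
  rcases hm with rfl | rfl | rfl
  · exact Or.inl (congrArg Subtype.val (C.inj S' X₁ (heq.trans h₁.symm)))
  · exact Or.inr (Or.inl (congrArg Subtype.val (C.inj S' X₂ (heq.trans h₂.symm))))
  · exact Or.inr (Or.inr (congrArg Subtype.val (C.inj S' X₃ (heq.trans h₃.symm))))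

end Cfsg.Agent.Fischer3Tv
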