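import Cfsg.Agent.Lib.Fischer3Tv.Triples
import Cfsg.Agent.Lib.Fischer3.PrimitiveIff
import Cfsg.Agent.Lib.Fischer3Rel.Perp

/-!
# The perp of a member of a group of type M22 is quasisimple
-/

set_option autoImplicit false
set_option linter.unusedSectionVars false
set_option linter.style.haveILetI false

namespace Cfsg.Agent.Fischer3Tv

open Cfsg ClassK Fischer3 Fischer3Rel AutPSU
open scoped commutatorElement

universe u

variable {G : Type u} [Group G] [Finite G] {D : Set G}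

variable (hG : IsThreeTranspositionGroup D) (hprim : IsPrimitiveUnderConj D) (hM : IsOfTypeM22 G D)
include hG hprim hM

/-- A member lies in the derived group of the group of its perp. -/
theorem mem_commutator_perp {d : G} (hd : d ∈ D) :
    ∃ h : d ∈ H D d, (⟨d, h⟩ : ↥(H D d)) ∈ commutator ↥(H D d) := by
  classical
  have hS := hG.1
  obtain ⟨F, _, _, ⟨C⟩⟩ := exists_chart hG hprim hM hd
  obtain ⟨w, hw, hw0, hw1⟩ := exists_om F
  have hw1' : w + 1 ≠ 0 := fun e => hw1 (eq_of_add_eq_zero e)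
  -- the three base members
  obtain ⟨E₁, he₁⟩ := C.surj (plane 1 0 0 (Or.inl one_ne_zero))
  obtain ⟨E₂, he₂⟩ := C.surj (plane 0 1 0 (Or.inr (Or.inl one_ne_zero)))
  obtain ⟨E₃, he₃⟩ := C.surj (plane 0 0 1 (Or.inr (Or.inr one_ne_zero)))
  have sep : ∀ a b c a' b' c' : F, ∀ h h', ∀ Y Z : ↥(perp D d),
      tp (C.pt Y) = tp (plane a b c h) → tp (C.pt Z) = tp (plane a' b' c' h') → (Y : G) = Z →
      ∃ m : F, a' = m * a ∧ b' = m * b ∧ c' = m * c := by
    intro a b c a' b' c' h h' Y Z hY hZ e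
    obtain rfl := Subtype.ext e
    obtain ⟨m, hm⟩ := (tp_eq_iff _ _).1 (hY.symm.trans hZ)
    refine ⟨m, ?_, ?_, ?_⟩
    · simpa [plane, planeVec] using congrFun hm 0
    · simpa [plane, planeVec] using congrFun hm 2
    · simpa [plane, planeVec] using congrFun hm 4
  have comm : ∀ a b c a' b' c' : F, ∀ h h', ∀ Y Z : ↥(perp D d),
      tp (C.pt Y) = tp (plane a b c h) → tp (C.pt Z) = tp (plane a' b' c' h') →
      Commute (Y : G) Z := by
    intro a b c a' b' c' h h' Y Z hY hZ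
    refine (C.comm Y Z).2 ((tp_comm_iff _ _).1 ?_)
    rw [hY, hZ]
    exact (tp_comm_iff _ _).2 (plane_H a b c a' b' c')
  -- the hexads through them
  have hexad : ∀ k : F, k ≠ 0 → ∃ X Y Z : ↥(perp D d),
      tp (C.pt X) = tp (plane 1 1 k (Or.inl one_ne_zero)) ∧
      [(E₁ : G), E₂, E₃].Nodup ∧ [(X : G), Y, Z].Nodup ∧
      (∀ u ∈ [(E₁ : G), E₂, E₃] ++ [(X : G), Y, Z], ∀ v ∈ [(E₁ : G), E₂, E₃] ++ [(X : G), Y, Z],
        Commute u v) ∧
      ([(E₁ : G), E₂, E₃, X, Y, Z].prod = 1 ∨ [(E₁ : G), E₂, E₃, X, Y, Z].prod = d) ∧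
      (∀ u ∈ [(X : G), Y, Z], u ∉ [(E₁ : G), E₂, E₃]) ∧
      (∀ k' : F, k' ≠ k → ∀ X' : ↥(perp D d),
        tp (C.pt X') = tp (plane 1 1 k' (Or.inl one_ne_zero)) → (X' : G) ∉ [(X : G), Y, Z]) := by
    intro k hk
    obtain ⟨X, hX⟩ := C.surj (plane 1 1 k (Or.inl one_ne_zero))
    obtain ⟨Y, hY⟩ := C.surj (plane 1 w ((w + 1) * k) (Or.inl one_ne_zero))
    obtain ⟨Z, hZ⟩ := C.surj (plane 1 (w + 1) (w * k) (Or.inl one_ne_zero))
    refine ⟨X, Y, Z, hX, ?_, ?_, ?_, ?_, ?_, ?_⟩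
    · simp only [List.nodup_cons, List.mem_cons, List.not_mem_nil, or_false, not_or, List.nodup_nil,
        not_false_eq_true, and_true]
      refine ⟨⟨fun e => ?_, fun e => ?_⟩, fun e => ?_⟩
      · obtain ⟨m, h1, h2, h3⟩ := sep _ _ _ _ _ _ _ _ _ _ he₁ he₂ e; simp at h2
      · obtain ⟨m, h1, h2, h3⟩ := sep _ _ _ _ _ _ _ _ _ _ he₁ he₃ e; simp at h3
      · obtain ⟨m, h1, h2, h3⟩ := sep _ _ _ _ _ _ _ _ _ _ he₂ he₃ e; simp at h3
    · simp only [List.nodup_cons, List.mem_cons, List.not_mem_nil, or_false, not_or, List.nodup_nil,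
        not_false_eq_true, and_true]
      refine ⟨⟨fun e => ?_, fun e => ?_⟩, fun e => ?_⟩
      · obtain ⟨m, h1, h2, h3⟩ := sep _ _ _ _ _ _ _ _ _ _ hX hY e
        exact hw1 (h2.trans h1.symm)
      · obtain ⟨m, h1, h2, h3⟩ := sep _ _ _ _ _ _ _ _ _ _ hX hZ e
        exact hw0 (by linear_combination h2.trans h1.symm)
      · obtain ⟨m, h1, h2, h3⟩ := sep _ _ _ _ _ _ _ _ _ _ hY hZ e
        rw [mul_one] at h1
        rw [← h1, one_mul] at h2
        simp at h2
    · intro u hu v hv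
      simp only [List.mem_append, List.mem_cons, List.not_mem_nil, or_false] at hu hv
      have t : ∀ u : G, (u = E₁ ∨ u = E₂ ∨ u = E₃) ∨ (u = X ∨ u = Y ∨ u = Z) →
          ∃ (a b c : F) (h : a ≠ 0 ∨ b ≠ 0 ∨ c ≠ 0) (U : ↥(perp D d)),
            u = U ∧ tp (C.pt U) = tp (plane a b c h) := by
        rintro u ((rfl | rfl | rfl) | (rfl | rfl | rfl))
        exacts [⟨_, _, _, _, E₁, rfl, he₁⟩, ⟨_, _, _, _, E₂, rfl, he₂⟩, ⟨_, _, _, _, E₃, rfl, he₃⟩,
          ⟨_, _, _, _, X, rfl, hX⟩, ⟨_, _, _, _, Y, rfl, hY⟩, ⟨_, _, _, _, Z, rfl, hZ⟩]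
      obtain ⟨a, b, c, h, U, rfl, hU⟩ := t u hu
      obtain ⟨a', b', c', h', U', rfl, hU'⟩ := t v hv
      exact comm _ _ _ _ _ _ _ _ _ _ hU hU'
    · refine C.prod_cases hG hprim hM hd (L := [E₁, E₂, E₃, X, Y, Z]) ?_
      rw [show [E₁, E₂, E₃, X, Y, Z].map (tp ∘ C.pt) =
        [plane 1 0 0 (Or.inl one_ne_zero), plane 0 1 0 (Or.inr (Or.inl one_ne_zero)),
          plane 0 0 1 (Or.inr (Or.inr one_ne_zero)), plane 1 1 k (Or.inl one_ne_zero),
          plane 1 w ((w + 1) * k) (Or.inl one_ne_zero),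
          plane 1 (w + 1) (w * k) (Or.inl one_ne_zero)].map tp by simp [he₁, he₂, he₃, hX, hY, hZ]]
      refine (prod_tp_iff ?_).2 (hexad_S hw hk _ _ _ _ _ _ rfl rfl rfl rfl rfl rfl)
      intro x hx y hy
      simp only [List.mem_cons, List.not_mem_nil, or_false] at hx hy
      rcases hx with rfl | rfl | rfl | rfl | rfl | rfl <;>
        rcases hy with rfl | rfl | rfl | rfl | rfl | rfl <;> exact plane_H _ _ _ _ _ _
    · have t : ∀ U : ↥(perp D d), ∀ b c : F, ∀ h, b ≠ 0 →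
          tp (C.pt U) = tp (plane 1 b c h) → (U : G) ∉ [(E₁ : G), E₂, E₃] := by
        intro U b c h hb hU hmem
        simp only [List.mem_cons, List.not_mem_nil, or_false] at hmem
        rcases hmem with e | e | e
        · obtain ⟨m, h1, h2, h3⟩ := sep _ _ _ _ _ _ _ _ _ _ he₁ hU e.symm; exact hb (by rw [h2, mul_zero])
        · obtain ⟨m, h1, h2, h3⟩ := sep _ _ _ _ _ _ _ _ _ _ he₂ hU e.symm; simp at h1
        · obtain ⟨m, h1, h2, h3⟩ := sep _ _ _ _ _ _ _ _ _ _ he₃ hU e.symm; simp at h1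
      intro u hu
      simp only [List.mem_cons, List.not_mem_nil, or_false] at hu
      rcases hu with rfl | rfl | rfl
      exacts [t X _ _ _ one_ne_zero hX, t Y _ _ _ hw0 hY, t Z _ _ _ hw1' hZ]
    · intro k' hk' X' hX' hmem
      simp only [List.mem_cons, List.not_mem_nil, or_false] at hmem
      rcases hmem with e | e | e
      · obtain ⟨m, h1, h2, h3⟩ := sep _ _ _ _ _ _ _ _ _ _ hX' hX e
        rw [mul_one] at h1
        rw [← h1, one_mul] at h3
        exact hk' h3.symm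
      · obtain ⟨m, h1, h2, h3⟩ := sep _ _ _ _ _ _ _ _ _ _ hX' hY e
        exact hw1 (h2.trans h1.symm)
      · obtain ⟨m, h1, h2, h3⟩ := sep _ _ _ _ _ _ _ _ _ _ hX' hZ e
        exact hw0 (by linear_combination h2.trans h1.symm)
  obtain ⟨X, Y, Z, hX, hE, hXYZ, hcomm, hprod, hdis, -⟩ := hexad 1 one_ne_zero
  obtain ⟨X', Y', Z', hX', -, hXYZ', hcomm', hprod', hdis', hne'⟩ := hexad w hw0
  -- the five members of a line
  have hE' := hE
  simp only [List.nodup_cons, List.mem_cons, List.not_mem_nil, or_false, not_or] at hE'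
  obtain ⟨p, q, r, -, hper, -, hline, -⟩ :=
    line hG hprim hM hd E₁.2 E₂.2 hE'.1.1 (hcomm E₁ (by simp) E₂ (by simp))
  have hdH : d ∈ H D d := by
    have hin : [(E₁ : G), E₂, p, q, r].prod ∈ H D d :=
      list_prod_mem fun x hx => Subgroup.subset_closure (hper x hx)
    rwa [hline] at hin
  refine ⟨hdH, ?_⟩
  by_contra hdK
  set π := QuotientGroup.mk' (commutator ↥(H D d))
  have habel : ∀ x y : ↥(H D d) ⧸ commutator ↥(H D d), x * y = y * x := by
    intro x y
    obtain ⟨x, rfl⟩ := QuotientGroup.mk'_surjective _ x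
    obtain ⟨y, rfl⟩ := QuotientGroup.mk'_surjective _ y
    rw [← map_mul, ← map_mul, QuotientGroup.mk'_eq_mk']
    refine ⟨⁅y⁻¹, x⁻¹⁆, ?_, ?_⟩
    · exact Subgroup.commutator_mem_commutator (Subgroup.mem_top _) (Subgroup.mem_top _)
    · rw [commutatorElement_def]; group
  set ι : ↥(perp D d) → ↥(H D d) := fun y => ⟨y, Subgroup.subset_closure y.2⟩
  have hone : ∀ U V : ↥(perp D d), π (ι U) = π (ι V) := by
    intro U V
    obtain ⟨k, hk, e⟩ := perp_orbit hG hprim hM.1 hd U.2 V.2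
    rw [show ι V = (⟨k, hk⟩ : ↥(H D d)) * ι U * (⟨k, hk⟩ : ↥(H D d))⁻¹ from Subtype.ext e.symm,
      map_mul, map_mul, map_inv, habel (π _) (π (ι U)), mul_inv_cancel_right]
  set t := π (ι E₁) with ht
  have ht2 : t * t = 1 := by
    rw [ht, ← map_mul, show ι E₁ * ι E₁ = 1 from Subtype.ext (tt_mul_self hS E₁.2.1), map_one]
  have hpow : ∀ L : List ↥(perp D d), π ((L.map ι).prod) = t ^ L.length := by
    intro L
    induction L with
    | nil => simp
    | cons U L ih => rw [List.map_cons, List.prod_cons, map_mul, ih, hone U E₁, List.length_cons, pow_succ']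
  have hval : ∀ L : List ↥(perp D d), (((L.map ι).prod : ↥(H D d)) : G) = (L.map Subtype.val).prod :=
    fun L => by rw [← Subgroup.coe_subtype, map_list_prod, List.map_map]; rfl
  have hd5 : π ⟨d, hdH⟩ = t := by
    have hl : (⟨d, hdH⟩ : ↥(H D d)) = ([E₁, E₂, ⟨p, hper p (by simp)⟩, ⟨q, hper q (by simp)⟩,
        ⟨r, hper r (by simp)⟩].map ι).prod := Subtype.ext (by rw [hval]; exact hline.symm)
    rw [hl, hpow]
    simp [pow_succ, ht2]
  have hsix : ∀ U V W : ↥(perp D d),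
      ([(E₁ : G), E₂, E₃, U, V, W].prod = 1 ∨ [(E₁ : G), E₂, E₃, U, V, W].prod = d) →
      [(E₁ : G), E₂, E₃, U, V, W].prod = 1 := by
    intro U V W h
    refine h.resolve_right fun e => hdK ((QuotientGroup.eq_one_iff _).1 (hd5.trans ?_))
    have hl : (⟨d, hdH⟩ : ↥(H D d)) = ([E₁, E₂, E₃, U, V, W].map ι).prod :=
      Subtype.ext (by rw [hval]; exact e.symm)
    have h6 := hpow [E₁, E₂, E₃, U, V, W]
    rw [← hl, hd5] at h6
    rw [h6]
    simp [pow_succ, ht2]
  -- three factorisations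
  have fac : ∀ U V W : ↥(perp D d), [(U : G), V, W].Nodup →
      (∀ u ∈ [(E₁ : G), E₂, E₃] ++ [(U : G), V, W], ∀ v ∈ [(E₁ : G), E₂, E₃] ++ [(U : G), V, W],
        Commute u v) → [(E₁ : G), E₂, E₃, U, V, W].prod = 1 →
      IsFac D 3 ([(E₁ : G), E₂, E₃].prod⁻¹) [(U : G), V, W] := by
    intro U V W hn hc hp
    refine ⟨hn, rfl, ?_, fun u hu v hv =>
      hc u (List.mem_append_right _ hu) v (List.mem_append_right _ hv), ?_⟩
    · intro x hx
      simp only [List.mem_cons, List.not_mem_nil, or_false] at hx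
      rcases hx with rfl | rfl | rfl
      exacts [U.2.1, V.2.1, W.2.1]
    · refine eq_inv_of_mul_eq_one_right ?_
      simpa [mul_assoc] using hp
  have f1 := fac X Y Z hXYZ hcomm (hsix X Y Z hprod)
  have f2 := fac X' Y' Z' hXYZ' hcomm' (hsix X' Y' Z' hprod')
  have f0 : IsFac D 3 ([(E₁ : G), E₂, E₃].prod⁻¹) [(E₁ : G), E₂, E₃] := by
    refine ⟨hE, rfl, ?_, fun u hu v hv =>
      hcomm u (List.mem_append_left _ hu) v (List.mem_append_left _ hv), ?_⟩
    · intro x hx
      simp only [List.mem_cons, List.not_mem_nil, or_false] at hx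
      rcases hx with rfl | rfl | rfl
      exacts [E₁.2.1, E₂.2.1, E₃.2.1]
    · have c12 : Commute (E₁ : G) E₂ := hcomm _ (by simp) _ (by simp)
      have c13 : Commute (E₁ : G) E₃ := hcomm _ (by simp) _ (by simp)
      have c23 : Commute (E₂ : G) E₃ := hcomm _ (by simp) _ (by simp)
      simp only [List.prod_cons, List.prod_nil, mul_one, mul_inv_rev, tt_inv hS E₁.2.1,
        tt_inv hS E₂.2.1, tt_inv hS E₃.2.1]
      rw [(c12.mul_right c13).eq, c23.eq]
  obtain ⟨m, -, -, hall⟩ := two_triples hG hprim hM f0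
  have hm : ∀ U V W : ↥(perp D d), (∀ u ∈ [(U : G), V, W], u ∉ [(E₁ : G), E₂, E₃]) →
      IsFac D 3 ([(E₁ : G), E₂, E₃].prod⁻¹) [(U : G), V, W] →
      ∀ x, x ∈ [(U : G), V, W] ↔ x ∈ m := fun U V W hdis hf =>
    (hall _ hf).resolve_left fun e => hdis U (by simp) ((e U).1 (by simp))
  exact hne' 1 (fun e => hw1 e.symm) X hX
    ((hm X' Y' Z' hdis' f2 X).2 ((hm X Y Z hdis f1 X).1 (by simp)))

/-- The group of a perp is quasisimple with centre generated by the member. -/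
theorem quasi {d : G} (hd : d ∈ D) :
    d ∈ H D d ∧ IsQuasisimple ↥(H D d) ∧
      Subgroup.center ↥(H D d) = (Subgroup.zpowers d).subgroupOf (H D d) := by
  obtain ⟨hdH, hdK⟩ := mem_commutator_perp hG hprim hM hd
  have hS := hG.1
  have hcen : Subgroup.center ↥(H D d) = (Subgroup.zpowers d).subgroupOf (H D d) := by
    ext x
    constructor
    · intro hx
      rcases central_perp hG hprim hM hd x.2 fun y hy => commute_of_mem_center hx hy with e | e <;>
        rw [Subgroup.mem_subgroupOf, e]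
      exacts [one_mem _, Subgroup.mem_zpowers d]
    · intro hx
      obtain ⟨i, hi⟩ := Subgroup.mem_zpowers_iff.1 (Subgroup.mem_subgroupOf.1 hx)
      exact mem_center_closure x fun y hy => hi ▸ hy.2.2.zpow_left i
  obtain ⟨F, _, _, ⟨C⟩⟩ := exists_chart hG hprim hM hd
  have hsimp : IsSimpleGroup (↥(H D d) ⧸ Subgroup.center ↥(H D d)) := by
    obtain ⟨-, w, hw, c, hc, -, ⟨F, _, _, hF, ⟨eP⟩⟩, -⟩ := hM
    haveI := simple_psu hF
    obtain ⟨g, hg⟩ := class_exists_conj (class_of_primitive hG hprim) hw hd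
    let e₁ : ↥(H D w) ≃* ↥(H D d) :=
      ((H D w).equivMapOfInjective (MulAut.conj g).toMonoidHom (MulAut.conj g).injective).trans
        (MulEquiv.subgroupCongr ((H_conj hG g w).trans (by rw [hg])))
    exact ((QuotientGroup.congr _ _ e₁ (by
      ext x
      simp only [Subgroup.mem_map]
      exact ⟨fun ⟨y, hy, e⟩ => e ▸ MulEquivClass.apply_mem_center e₁ hy,
        fun hx => ⟨e₁.symm x, MulEquivClass.apply_mem_center e₁.symm hx, e₁.apply_symm_apply x⟩⟩)).symm.trans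
      eP).isSimpleGroup
  refine ⟨hdH, ⟨?_, hsimp⟩, hcen⟩
  rw [Group.isPerfect_def]
  obtain ⟨⟨q, hq, r, hr, hqr⟩, -⟩ := simple_quot hS hsimp
  set π := QuotientGroup.mk' (Subgroup.center ↥(H D d))
  have hZK : Subgroup.center ↥(H D d) ≤ commutator ↥(H D d) := fun x hx => by
    rw [hcen, Subgroup.mem_subgroupOf] at hx
    obtain ⟨i, hi⟩ := Subgroup.mem_zpowers_iff.1 hx
    rw [show x = (⟨d, hdH⟩ : ↥(H D d)) ^ i from Subtype.ext (by simpa using hi.symm)]
    exact zpow_mem hdK i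
  haveI := hsimp
  rcases Subgroup.Normal.eq_bot_or_eq_top
    ((inferInstance : (commutator ↥(H D d)).Normal).map π (QuotientGroup.mk'_surjective _)) with e | e
  · exfalso
    set a : ↥(H D d) := ⟨q, Subgroup.subset_closure hq⟩
    set b : ↥(H D d) := ⟨r, Subgroup.subset_closure hr⟩
    have hc : ⁅a, b⁆ ∈ commutator ↥(H D d) :=
      Subgroup.commutator_mem_commutator (Subgroup.mem_top _) (Subgroup.mem_top _)
    have h1 : π ⁅a, b⁆ = 1 := Subgroup.mem_bot.1 (e ▸ Subgroup.mem_map_of_mem π hc)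
    have hz := (QuotientGroup.eq_one_iff _).1 h1
    have hab : ((⁅a, b⁆ : ↥(H D d)) : G) = (q * r) ^ 2 := by
      simp [a, b, commutatorElement_def, tt_inv hS hq.1, tt_inv hS hr.1, sq, mul_assoc]
    have h4 : (q * r) ^ 4 = 1 := by
      rcases central_perp hG hprim hM hd (⁅a, b⁆ : ↥(H D d)).2
        (fun y hy => commute_of_mem_center hz hy) with e | e <;> rw [hab] at e <;>
        rw [show (q * r) ^ 4 = ((q * r) ^ 2) ^ 2 by rw [← pow_mul], e]
      · rw [one_pow]
      · rw [sq, tt_mul_self hS hd]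
    have h0 : q * r = 1 := by
      simpa using pow_gcd_eq_one.2 ⟨h4, tt_noncommute_cube hS hq.1 hr.1 hqr⟩
    exact hqr (by rw [show q = r by rw [eq_inv_of_mul_eq_one_left h0, tt_inv hS hr.1]])
  · refine eq_top_iff.2 fun x _ => ?_
    obtain ⟨y, hy, hxy⟩ : π x ∈ (commutator ↥(H D d)).map π := e ▸ Subgroup.mem_top _
    have := hZK (QuotientGroup.eq.1 hxy)
    simpa using mul_mem hy this

/-- The group is simple. -/
theorem simple : IsSimpleGroup G := by
  obtain ⟨d, hd, -⟩ := hprim.2.1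
  obtain ⟨y, hy⟩ := exists_perp hG hprim hM hd
  have hs := (simple_iff_primitive (class_of_primitive hG hprim) hM.1
    ⟨d, hd, y, hy.1, hy.2.1.symm, hy.2.2⟩).1.2 hprim
  have htop : commutator G = ⊤ := by
    rw [eq_top_iff, ← hG.2.2, Subgroup.closure_le]
    intro x hx
    obtain ⟨hxH, hxK⟩ := mem_commutator_perp hG hprim hM hx
    have := Subgroup.mem_map_of_mem (H D x).subtype hxK
    rw [commutator_def, Subgroup.map_commutator] at this
    exact Subgroup.commutator_mono le_top le_top this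
  haveI := hs
  exact ((MulEquiv.subgroupCongr htop).trans Subgroup.topEquiv).symm.isSimpleGroup

end Cfsg.Agent.Fischer3Tv
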