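import Cfsg.Agent.Lib.Fischer3Tv.Stab
import Cfsg.Agent.Lib.Fischer3Tv.Facts
import Cfsg.Agent.Lib.Fischer3Tv.Quasi
import Cfsg.Agent.Lib.Fischer3Srg.Below

/-!
# The perps in the groups of type M22
-/

set_option autoImplicit false
set_option linter.unusedSectionVars false
set_option linter.style.haveILetI false

namespace Cfsg.Agent.Fischer3Tv

open Cfsg ClassK Fischer3 Fischer3Rel AutPSU Fischer3Srg

universe u

variable {G : Type u} [Group G] [Finite G] {D : Set G}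

section chart

variable {d : G} {F : Type} [Field F] [QField F 2] (C : Chart D d F)

theorem Chart.ne_iff (y z : ↥(perp D d)) : (y : G) ≠ z ↔ tp (C.pt y) ≠ tp (C.pt z) :=
  ⟨fun h e => h (congrArg Subtype.val (C.inj _ _ e)), fun h e => h (by rw [Subtype.ext e])⟩

theorem Chart.orth_tp {p q : Pt F} (r : Pt F) (h : tp p = tp q) :
    Cfsg.hermForm 6 F 2 p.1 r.1 = 0 ↔ Cfsg.hermForm 6 F 2 q.1 r.1 = 0 := by
  rw [← tp_comm_iff, ← tp_comm_iff, h]

/-- Counting members is counting transvections. -/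
theorem Chart.ncard_eq {s : Set G} {T : Set (Cfsg.PSU 6 F 2)} (hs : s ⊆ perp D d)
    (hT : T ⊆ Q fun _ => True) (h : ∀ y : ↥(perp D d), (y : G) ∈ s ↔ tp (C.pt y) ∈ T) :
    s.ncard = T.ncard :=
  Set.ncard_congr (fun y hy => tp (C.pt ⟨y, hs hy⟩)) (fun y hy => (h ⟨y, hs hy⟩).1 hy)
    (fun _ _ _ _ e => congrArg Subtype.val (C.inj _ _ e)) fun g hg => by
      obtain ⟨p, -, rfl⟩ := hT hg
      obtain ⟨y, hy⟩ := C.surj p
      exact ⟨y, (h y).2 (hy ▸ hg), hy⟩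

theorem Chart.mem_Q (y : ↥(perp D d)) (r : Pt F) :
    tp (C.pt y) ∈ Q (fun v => Cfsg.hermForm 6 F 2 v r.1 = 0) ↔
      Cfsg.hermForm 6 F 2 (C.pt y).1 r.1 = 0 :=
  ⟨fun ⟨_, hp, e⟩ => (Chart.orth_tp r e).1 hp, fun h => ⟨C.pt y, h, rfl⟩⟩

theorem Chart.mem_Q2 (y : ↥(perp D d)) (r r' : Pt F) :
    tp (C.pt y) ∈ Q (fun v => Cfsg.hermForm 6 F 2 v r.1 = 0 ∧ Cfsg.hermForm 6 F 2 v r'.1 = 0) ↔
      Cfsg.hermForm 6 F 2 (C.pt y).1 r.1 = 0 ∧ Cfsg.hermForm 6 F 2 (C.pt y).1 r'.1 = 0 :=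
  ⟨fun ⟨_, hp, e⟩ => ⟨(Chart.orth_tp r e).1 hp.1, (Chart.orth_tp r' e).1 hp.2⟩,
    fun h => ⟨C.pt y, h, rfl⟩⟩

/-- Equal products have equal images. -/
theorem Chart.prod_congr (L M : List ↥(perp D d))
    (h : ∀ x ∈ perp D d, Commute ((L ++ M.reverse).map Subtype.val).prod x) :
    (L.map (tp ∘ C.pt)).prod = (M.map (tp ∘ C.pt)).prod := by
  have hrev : ∀ N : List ↥(perp D d),
      (N.reverse.map (tp ∘ C.pt)).prod = ((N.map (tp ∘ C.pt)).prod)⁻¹ := fun N => by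
    rw [List.prod_inv_reverse, List.map_reverse, List.map_map]
    refine congrArg (fun l : List _ => l.reverse.prod) (List.map_congr_left fun y _ => ?_)
    exact (inv_eq_of_mul_eq_one_right (tp_sq (C.pt y))).symm
  have h1 := (C.rel _).2 h
  rw [List.map_append, List.prod_append, hrev, mul_inv_eq_one] at h1
  exact h1

end chart

/-- An isotropic point of the complement of an isotropic point in four dimensions. -/
theorem exists_orth_four {F : Type} [Field F] [QField F 2] {x : Fin 4 → F} (hx : x ≠ 0)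
    (hxx : Cfsg.hermForm 4 F 2 x x = 0) :
    ∃ z : Fin 4 → F, Cfsg.hermForm 4 F 2 z z = 0 ∧ Cfsg.hermForm 4 F 2 z x = 0 ∧
      ∀ c : F, z ≠ c • x := by
  obtain ⟨g, hg⟩ := S0283.exists_map_vec (q := 2) (by norm_num) hx
    (fun e => one_ne_zero (α := F) (by simpa [rE] using congrFun e 0)) hxx (rE_iso (F := F))
  refine ⟨app g⁻¹ ![0, 0, 1, 1], ?_, ?_, fun c hc => ?_⟩
  · rw [app_H]; simp [H_eq, Fin.sum_univ_four, add_self]
  · rw [← app_H g, app_inv', hg]; simp [rE, H_eq, Fin.sum_univ_four]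
  · have := congrArg (app g) hc
    rw [app_inv', app_smul, hg] at this
    simpa [rE] using congrFun this 2

section

variable (hG : IsThreeTranspositionGroup D) (hprim : IsPrimitiveUnderConj D) (hM : IsOfTypeM22 G D)
include hG hprim hM

theorem local_base : Local D 693 180 51 45 := by
  refine ⟨fun d hd => ?_, fun d hd b hb => ?_, fun d hd b hb x hx => ?_,
    fun d hd b hb e he hbe => ?_⟩ <;> obtain ⟨F, _, _, ⟨C⟩⟩ := exists_chart hG hprim hM hd <;>
    haveI : Finite F := finite_field (F := F) (q := 2)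
  · rw [C.ncard_eq subset_rfl subset_rfl fun y => ⟨fun _ => ⟨C.pt y, trivial, rfl⟩, fun _ => y.2⟩,
      card_all]
  · set u := C.pt ⟨b, hb⟩
    rw [C.ncard_eq (T := Q (fun v => Cfsg.hermForm 6 F 2 v u.1 = 0) \ {tp u}) Set.inter_subset_left
      (fun g hg => Set.image_mono (fun _ _ => trivial) hg.1) fun y => ?_]
    · have := Set.ncard_sdiff_singleton_add_one (s := Q (fun v => Cfsg.hermForm 6 F 2 v u.1 = 0))
        ⟨u, u.2.2, rfl⟩ (Set.toFinite _)
      rw [card_orth] at this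
      omega
    · rw [Set.mem_sdiff, C.mem_Q, Set.mem_singleton_iff, ← C.comm y ⟨b, hb⟩, ← ne_eq, ← C.ne_iff]
      exact ⟨fun h => ⟨h.2.2.2.symm, h.2.2.1⟩, fun h => ⟨y.2, y.2.1, h.2, h.1.symm⟩⟩
  · set u := C.pt ⟨b, hb⟩
    set r := C.pt ⟨x, hx.1⟩
    have hne : tp u ≠ tp r := (C.ne_iff _ _).1 hx.2.2.1.symm
    have ho : Cfsg.hermForm 6 F 2 u.1 r.1 = 0 := (C.comm _ _).1 hx.2.2.2
    set T₀ := Q (fun v => Cfsg.hermForm 6 F 2 v u.1 = 0 ∧ Cfsg.hermForm 6 F 2 v r.1 = 0)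
    rw [C.ncard_eq (T := T₀ \ {tp u, tp r}) (fun z hz => hz.1.1)
      (fun g hg => Set.image_mono (fun _ _ => trivial) hg.1) fun y => ?_]
    · have hmu : tp u ∈ T₀ := ⟨u, ⟨u.2.2, ho⟩, rfl⟩
      have hmr : tp r ∈ T₀ := ⟨r, ⟨H_eq_zero_comm.1 ho, r.2.2⟩, rfl⟩
      have := Set.ncard_sdiff_add_ncard_of_subset (s := {tp u, tp r}) (t := T₀)
        (Set.insert_subset_iff.2 ⟨hmu, Set.singleton_subset_iff.2 hmr⟩)
      rw [card_orth_two (fun c hc => hne ((tp_eq_iff _ _).2 ⟨c, hc⟩)) ho, Set.ncard_pair hne] at this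
      omega
    · rw [Set.mem_sdiff, C.mem_Q2, Set.mem_insert_iff, Set.mem_singleton_iff, not_or,
        ← C.comm y ⟨b, hb⟩, ← C.comm y ⟨x, hx.1⟩, ← ne_eq, ← ne_eq, ← C.ne_iff, ← C.ne_iff]
      exact ⟨fun h => ⟨⟨h.1.2.2.2.symm, h.2.2.2.symm⟩, h.1.2.2.1, h.2.2.1⟩, fun h =>
        ⟨⟨y.2, y.2.1, h.2.1, h.1.1.symm⟩, y.2.1, h.2.2, h.1.2.symm⟩⟩
  · set u := C.pt ⟨b, hb⟩
    set r := C.pt ⟨e, he⟩
    have ho : Cfsg.hermForm 6 F 2 u.1 r.1 ≠ 0 := fun h => hbe ((C.comm ⟨b, hb⟩ ⟨e, he⟩).2 h)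
    rw [C.ncard_eq (T := Q fun v => Cfsg.hermForm 6 F 2 v u.1 = 0 ∧ Cfsg.hermForm 6 F 2 v r.1 = 0)
      (fun z hz => hz.1.1) (Set.image_mono fun _ _ => trivial) fun y => ?_]
    · exact card_nonorth_two ho
    · rw [C.mem_Q2, ← C.comm y ⟨b, hb⟩, ← C.comm y ⟨e, he⟩]
      exact ⟨fun h => ⟨h.1.2.2.2.symm, h.2.2.2.symm⟩, fun h =>
        ⟨⟨y.2, y.2.1, fun q => hbe (q ▸ h.2), h.1.symm⟩, y.2.1, fun q => hbe (q ▸ h.1).symm, h.2.symm⟩⟩

theorem quad_base {d b x y : G} (hd : d ∈ D) (hb : b ∈ perp D d) (hx : x ∈ perp D d ∩ perp D b)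
    (hy : y ∈ perp D d ∩ perp D b) (hxy : ¬ Commute x y) :
    ∃ z, z ∈ perp D d ∩ perp D b ∩ (perp D x ∩ perp D y) := by
  obtain ⟨F, _, _, ⟨C⟩⟩ := exists_chart hG hprim hM hd
  obtain ⟨w, hw, -, -⟩ := exists_frame (F := F)
  set u := C.pt ⟨b, hb⟩
  set p := C.pt ⟨x, hx.1⟩
  set q := C.pt ⟨y, hy.1⟩
  have hn : Cfsg.hermForm 6 F 2 p.1 q.1 ≠ 0 := fun h => hxy ((C.comm ⟨x, hx.1⟩ ⟨y, hy.1⟩).2 h)
  obtain ⟨s, c, hc, hp, hq⟩ := pair_std hw hn
  obtain ⟨i, j, v, hu⟩ := mk_surj (app s u.1)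
  have h1 : Cfsg.hermForm 6 F 2 u.1 p.1 = 0 := (C.comm ⟨b, hb⟩ ⟨x, hx.1⟩).1 hx.2.2.2
  have h2 : Cfsg.hermForm 6 F 2 u.1 q.1 = 0 := (C.comm ⟨b, hb⟩ ⟨y, hy.1⟩).1 hy.2.2.2
  have h3 := u.2.2
  rw [← app_H s, hp, hu, vE_H] at h1
  rw [← app_H s, hq, hu, H_smul_right, mul_eq_zero, or_iff_right ((map_ne_zero _).2 hc), vF, mk_H,
    H_zero_right, add_zero] at h2
  rw [← app_H s, hu, mk_H] at h3
  obtain rfl := eq_of_add_eq_zero h1
  have hi : i = 0 := by
    rw [map_add, map_one] at h2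
    linear_combination h2 - i * qb 2 w * two_zero (F := F)
  subst hi
  simp only [map_zero, mul_zero, zero_add] at h3
  have hv0 : v ≠ 0 := fun e => u.2.1 (app_injective s (by rw [app_zero, hu, e, mk_zero]))
  obtain ⟨z, hzz, hzv, hzc⟩ := exists_orth_four hv0 h3
  have hz0 : z ≠ 0 := fun e => hzc 0 (by rw [e, zero_smul])
  let P : Pt F := (wPt z hz0 hzz).move s⁻¹
  obtain ⟨m, hm⟩ := C.surj P
  have e : ∀ r : Pt F, Cfsg.hermForm 6 F 2 (C.pt m).1 r.1 = 0 ↔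
      Cfsg.hermForm 6 F 2 (mk 0 0 z) (app s r.1) = 0 := fun r => by
    rw [Chart.orth_tp r hm]
    conv_lhs => rw [← app_H s]
    simp only [P, Pt.move, wPt, app_inv']
  have cb : Commute (m : G) b := (C.comm m ⟨b, hb⟩).2 ((e u).2 (by rw [hu, mk_H]; simp [hzv]))
  have cx : Commute (m : G) x := (C.comm m ⟨x, hx.1⟩).2 ((e p).2 (by rw [hp, vE_H, add_zero]))
  have cy : Commute (m : G) y := (C.comm m ⟨y, hy.1⟩).2 ((e q).2 (by rw [hq, H_smul_right, vF, mk_H]; simp))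
  have hnb : (m : G) ≠ b := fun h => by
    have h4 : tp P = tp u := by rw [← hm, show m = ⟨b, hb⟩ from Subtype.ext h]
    obtain ⟨k, hk⟩ := (tp_eq_iff P u).1 h4
    have h5 := congrArg (app s) hk
    simp only [P, Pt.move, wPt, app_smul, app_inv', hu, mk_smul] at h5
    have h6 := (mk_inj h5).2.2
    have hk0 : k ≠ 0 := fun e => hv0 (by rw [h6, e, zero_smul])
    exact hzc k⁻¹ (by rw [h6, smul_smul, inv_mul_cancel₀ hk0, one_smul])
  exact ⟨m, ⟨m.2, m.2.1, hnb, cb.symm⟩, ⟨m.2.1, fun h => hxy (h ▸ cy), cx.symm⟩,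
    ⟨m.2.1, fun h => hxy (h ▸ cx).symm, cy.symm⟩⟩

theorem u3_base {a c : G} (ha : a ∈ D) (hc : c ∈ D) (hac : ¬ Commute a c)
    (hy : ∃ y, y ∈ perp D a ∩ perp D c) {t : G} (ht : t ∈ D) (hat : ¬ Commute a t)
    (hsub : perp D a ∩ perp D c ⊆ perp D t) : t = c ∨ t = a * c * a⁻¹ := by
  obtain ⟨y, hya, hyc⟩ := hy
  obtain ⟨F, _, _, ⟨C⟩⟩ := exists_chart hG hprim hM hya.1
  by_contra! hne
  set a' : ↥(perp D y) := ⟨a, Fischer3Srg.perp_symm ha hya⟩
  set c' : ↥(perp D y) := ⟨c, Fischer3Srg.perp_symm hc hyc⟩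
  set t' : ↥(perp D y) := ⟨t, Fischer3Srg.perp_symm ht (hsub ⟨hya, hyc⟩)⟩
  set s' : ↥(perp D y) := ⟨a * c * a⁻¹, conj_perp hG (Subgroup.subset_closure a'.2) c'.2⟩
  have mem : ∀ x : Pt F, Cfsg.hermForm 6 F 2 x.1 (C.pt a').1 = 0 →
      Cfsg.hermForm 6 F 2 x.1 (C.pt c').1 = 0 → ∀ r : ↥(perp D y),
        (∀ g ∈ perp D a ∩ perp D c, Commute g (r : G)) → Cfsg.hermForm 6 F 2 x.1 (C.pt r).1 = 0 := by
    intro x hxa hxc r hr
    obtain ⟨m, hm⟩ := C.surj x
    rw [← Chart.orth_tp _ hm] at hxa hxc ⊢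
    rw [← C.comm] at hxa hxc ⊢
    exact hr m ⟨⟨m.2.1, fun h => hac (h ▸ hxc), hxa.symm⟩, ⟨m.2.1, fun h => hac (h ▸ hxa).symm, hxc.symm⟩⟩
  refine hyp_third (u := C.pt a') (v := C.pt c') (s := C.pt t') (t := C.pt s')
    (fun h => hac ((C.comm a' c').2 h))
    (fun x h1 h2 => mem x h1 h2 t' fun g hg => (hsub hg).2.2.symm)
    (fun x h1 h2 => mem x h1 h2 s' fun g hg => ?_) ?_ ?_ ?_ ?_ ?_
  · exact (hg.1.2.2.symm.mul_right hg.2.2.2.symm).mul_right hg.1.2.2.symm.inv_right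
  all_goals rw [indep_iff, ← C.ne_iff]
  · exact fun h => hat ((show a = t from h) ▸ Commute.refl a)
  · exact hne.1.symm
  · intro h
    exact hac (mul_left_cancel ((mul_inv_eq_iff_eq_mul.1 h.symm)) ▸ Commute.refl a)
  · intro h
    exact hac (mul_inv_eq_iff_eq_mul.1 h.symm)
  · exact hne.2

theorem key_base {d b x : G} (hd : d ∈ D) (hb : b ∈ perp D d) (hx : x ∈ H D b) (hxd : Commute x d) :
    x ∈ H D d := by
  classical
  obtain ⟨F, _, _, ⟨C⟩⟩ := exists_chart hG hprim hM hb.1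
  set d' : ↥(perp D b) := ⟨d, Fischer3Srg.perp_symm hd hb⟩
  obtain ⟨L, hL⟩ : ∃ L : List ↥(perp D b), (L.map Subtype.val).prod = x := by
    obtain ⟨l, hl, hlp⟩ := Submonoid.exists_list_of_mem_closure ((Subgroup.closure_toSubmonoid _).le hx)
    have hl' : ∀ g ∈ l, g ∈ perp D b := fun g hg => (hl g hg).elim id fun h => by
      have h' : g⁻¹ ∈ perp D b := h
      rwa [← tt_inv hG.1 h'.1, inv_inv] at h'
    exact ⟨l.pmap Subtype.mk hl', by rw [List.map_pmap]; simpa using hlp⟩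
  set g := (L.map (tp ∘ C.pt)).prod
  have hg : Commute g (tp (C.pt d')) := by
    have := C.prod_congr (L ++ [d']) (d' :: L) fun y hy => by
      have hrev : (L.reverse.map Subtype.val).prod = x⁻¹ := by
        rw [← hL, List.prod_inv_reverse, List.map_reverse, List.map_map]
        exact congrArg (fun l : List G => l.reverse.prod)
          (List.map_congr_left fun z _ => (tt_inv hG.1 z.2.1).symm)
      rw [List.map_append, List.prod_append, List.map_append, List.prod_append, List.reverse_cons,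
        List.map_append, List.prod_append, hrev]
      simp only [hL, List.map_cons, List.map_nil, List.prod_cons, List.prod_nil, mul_one, d']
      rw [hxd.eq, show d * x * (x⁻¹ * d) = d * d by group, tt_mul_self hG.1 hd]
      exact Commute.one_left y
    simpa [g, List.map_append, List.prod_append, Commute, SemiconjBy] using this
  -- a lift inside the group of the perp of `d`
  obtain ⟨M, hM', hMg⟩ : ∃ M : List ↥(perp D b), (∀ m ∈ M, (m : G) ∈ H D d) ∧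
      (M.map (tp ∘ C.pt)).prod = g := by
    obtain ⟨l, hl, hlp⟩ := Submonoid.exists_list_of_mem_closure
      ((Subgroup.closure_toSubmonoid _).le (stab_point _ hg))
    rw [← hlp]
    clear hlp
    induction l with
    | nil => exact ⟨[], by simp, rfl⟩
    | cons a l ih =>
      obtain ⟨M, h1, h2⟩ := ih fun z hz => hl z (List.mem_cons_of_mem _ hz)
      obtain ⟨p, hp, ha⟩ : ∃ p : Pt F, Cfsg.hermForm 6 F 2 p.1 (C.pt d').1 = 0 ∧ tp p = a := by
        rcases hl a (List.mem_cons_self ..) with ⟨p, hp, e⟩ | ⟨p, hp, e⟩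
        · exact ⟨p, hp, e⟩
        · exact ⟨p, hp, by rw [← inv_inv a, ← e, inv_eq_of_mul_eq_one_right (tp_sq p)]⟩
      obtain ⟨m, hm⟩ := C.surj p
      refine ⟨m :: M, fun z hz => ?_, by simp [h2, hm, ha]⟩
      rcases List.mem_cons.1 hz with rfl | hz
      · by_cases e : (z : G) = d
        · exact e ▸ (quasi hG hprim hM hd).1
        · exact Subgroup.subset_closure ⟨z.2.1, e,
            ((C.comm z d').2 ((Chart.orth_tp _ hm).2 hp)).symm⟩
      · exact h1 z hz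
  set y := (M.map Subtype.val).prod with hy
  have hyd : y ∈ H D d := list_prod_mem fun z hz => by
    obtain ⟨m, hm, rfl⟩ := List.mem_map.1 hz
    exact hM' m hm
  have hyb : y ∈ H D b := list_prod_mem fun z hz => by
    obtain ⟨m, hm, rfl⟩ := List.mem_map.1 hz
    exact Subgroup.subset_closure m.2
  have hrel := (C.rel (L ++ M.reverse)).1 (by
    rw [List.map_append, List.prod_append]
    have : (M.reverse.map (tp ∘ C.pt)).prod = ((M.map (tp ∘ C.pt)).prod)⁻¹ := by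
      rw [List.prod_inv_reverse, List.map_reverse, List.map_map]
      exact congrArg (fun l : List _ => l.reverse.prod)
        (List.map_congr_left fun m _ => (inv_eq_of_mul_eq_one_right (tp_sq (C.pt m))).symm)
    rw [this, hMg, mul_inv_cancel])
  have hval : ((L ++ M.reverse).map Subtype.val).prod = x * y⁻¹ := by
    rw [List.map_append, List.prod_append, hL, hy, List.prod_inv_reverse, List.map_reverse,
      List.map_map]
    exact congrArg (fun l : List G => x * l.reverse.prod)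
      (List.map_congr_left fun m _ => (tt_inv hG.1 m.2.1).symm)
  rw [hval] at hrel
  have := central_perp hG hprim hM hb.1 (mul_mem hx (inv_mem hyb)) hrel
  rcases this with e | e
  · exact mul_inv_eq_one.1 e ▸ hyd
  · exact mul_inv_eq_iff_eq_mul.1 e ▸ mul_mem (Subgroup.subset_closure hb) hyd

theorem below_base : Below D 693 180 51 45 :=
  ⟨local_base hG hprim hM, fun _ hd _ hb _ hx _ hy hxy => quad_base hG hprim hM hd hb hx hy hxy,
    fun _ ha _ hc hac hy _ ht hat hsub => u3_base hG hprim hM ha hc hac hy ht hat hsub,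
    fun _ hd _ hz hzc => central_perp hG hprim hM hd hz hzc,
    fun _ hd _ hb _ hx hxd => key_base hG hprim hM hd hb hx hxd,
    fun _ hd => (quasi hG hprim hM hd).1⟩

end

end Cfsg.Agent.Fischer3Tv
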