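import Cfsg.Agent.Lib.Fischer3Tv.Width

/-!
# Maximal commuting sets of members in a group of type M22
-/

set_option autoImplicit false
set_option linter.unusedSectionVars false
set_option linter.style.haveILetI false

namespace Cfsg.Agent.Fischer3Tv

open Cfsg ClassK Fischer3 Fischer3Rel AutPSU Fischer3Srg

universe u

section space

variable {F : Type} [Field F] [hQ : QField F 2]
include hQ

local notation "V" => Fin 6 → F
local notation "H₆" => Cfsg.hermForm 6 F 2

/-- The points of a totally isotropic subspace. -/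
theorem card_sub (K : Submodule F V) (hK : ∀ u ∈ K, H₆ u u = 0) :
    3 * (Q fun v : V => v ∈ K).ncard + 1 = 4 ^ Module.finrank F K := by
  classical
  haveI := finite_field (F := F) (q := 2)
  haveI := Fintype.ofFinite F
  rw [card_Q (F := F) (fun v : V => v ∈ K) fun c v _ hv => K.smul_mem c hv,
    show (4 : ℕ) ^ Module.finrank F K = Nat.card K by
      rw [Module.natCard_eq_pow_finrank (K := F), card_four]]
  let f : {v : V // v ∈ K ∧ v ≠ 0 ∧ H₆ v v = 0} ≃ {u : K // u ≠ 0} :=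
    { toFun := fun v => ⟨⟨v.1, v.2.1⟩, fun e => v.2.2.1 (congrArg Subtype.val e)⟩
      invFun := fun u => ⟨u.1.1, u.1.2, fun e => u.2 (Subtype.ext e), hK _ u.1.2⟩
      left_inv := fun _ => rfl
      right_inv := fun _ => rfl }
  rw [Nat.card_congr f, Nat.card_eq_fintype_card, Nat.card_eq_fintype_card, Fintype.card_subtype_compl,
    Fintype.card_subtype_eq]
  have : 0 < Fintype.card K := Fintype.card_pos
  omega

/-- A maximal set of orthogonal points is a plane. -/
theorem max_orth (T : Set (Cfsg.PSU 6 F 2)) (hT : T ⊆ Q fun _ : V => True)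
    (ho : ∀ p r : Pt F, tp p ∈ T → tp r ∈ T → H₆ p.1 r.1 = 0)
    (hmax : ∀ p : Pt F, (∀ r : Pt F, tp r ∈ T → H₆ p.1 r.1 = 0) → tp p ∈ T) :
    T.ncard = 21 ∧ ∀ p : Pt F, tp p ∉ T → (T ∩ Q fun v : V => H₆ v p.1 = 0).ncard = 5 := by
  haveI := finite_field (F := F) (q := 2)
  set U := Submodule.span F {v : V | ∃ r : Pt F, tp r ∈ T ∧ r.1 = v} with hUdef
  have hperp : ∀ v : V, (∀ r : Pt F, tp r ∈ T → H₆ r.1 v = 0) → ∀ u ∈ U, H₆ u v = 0 := fun v hv u hu =>
    LinearMap.mem_ker.1 ((Submodule.span_le (p := LinearMap.ker (Hl (q := 2) v))).2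
      (by rintro _ ⟨r, hr, rfl⟩; exact LinearMap.mem_ker.2 (hv r hr)) hu)
  have hU : ∀ u ∈ U, ∀ v ∈ U, H₆ u v = 0 := fun u hu v hv =>
    hperp v (fun r hr => H_eq_zero_comm.1 (hperp r.1 (fun s hs => ho s r hs hr) v hv)) u hu
  have hTU : T = Q fun v : V => v ∈ U := by
    apply Set.Subset.antisymm
    · intro x hx
      obtain ⟨r, -, rfl⟩ := hT hx
      exact ⟨r, Submodule.subset_span ⟨r, hx, rfl⟩, rfl⟩
    · rintro _ ⟨p, hp, rfl⟩
      exact hmax p fun r hr => hU _ hp _ (Submodule.subset_span ⟨r, hr, rfl⟩)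
  have hcard := card_sub U fun u hu => hU u hu u hu
  rw [← hTU] at hcard
  have hle := finrank_le_three U hU
  have h3 : Module.finrank F U = 3 := by
    by_contra hne
    have h4 : Module.finrank F U ≤ 2 := by omega
    have h5 : T.ncard ≤ 5 := by
      have := Nat.pow_le_pow_right (show 4 > 0 by norm_num) h4
      omega
    obtain ⟨x, hx, hxx⟩ := exists_isotropic (F := F) (q := 2) (n := 6) (by norm_num)
    have hTne : T.Nonempty := by
      by_contra h0
      exact h0 ⟨_, hmax ⟨x, hx, hxx⟩ fun r hr => absurd ⟨_, hr⟩ h0⟩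
    obtain ⟨t, ht⟩ := hTne
    obtain ⟨p, -, rfl⟩ := hT ht
    by_cases hone : ∀ r : Pt F, tp r ∈ T → tp r = tp p
    · have h6 : (Q fun v : V => H₆ v p.1 = 0) ⊆ T := by
        rintro _ ⟨q', hq', rfl⟩
        refine hmax q' fun r hr => ?_
        rw [H_eq_zero_comm, Chart.orth_tp q' (hone r hr), H_eq_zero_comm]
        exact hq'
      have := Set.ncard_le_ncard h6
      rw [card_orth] at this
      omega
    · push Not at hone
      obtain ⟨r, hr, hne'⟩ := hone
      have hind : Indep p r := indep_iff.2 fun e => hne' e.symm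
      have hli : LinearIndependent F ![p.1, r.1] := LinearIndependent.pair_iff.2 fun a b e => hind.eq_zero e
      have hspan : U = Submodule.span F (Set.range ![p.1, r.1]) := by
        refine (Submodule.eq_of_le_of_finrank_le ?_ ?_).symm
        · refine Submodule.span_le.2 ?_
          rintro _ ⟨i, rfl⟩
          fin_cases i
          exacts [Submodule.subset_span ⟨p, ht, rfl⟩, Submodule.subset_span ⟨r, hr, rfl⟩]
        · rw [finrank_span_eq_card hli, Fintype.card_fin]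
          exact h4
      have h6 : (Q fun v : V => H₆ v p.1 = 0 ∧ H₆ v r.1 = 0) ⊆ T := by
        rintro _ ⟨q', hq', rfl⟩
        refine hmax q' fun s hs => ?_
        have hsU : s.1 ∈ U := Submodule.subset_span ⟨s, hs, rfl⟩
        rw [hspan] at hsU
        refine H_eq_zero_comm.1 (LinearMap.mem_ker.1
          ((Submodule.span_le (p := LinearMap.ker (Hl (q := 2) q'.1))).2 ?_ hsU))
        rintro _ ⟨i, rfl⟩
        fin_cases i
        exacts [LinearMap.mem_ker.2 (H_eq_zero_comm.1 hq'.1), LinearMap.mem_ker.2 (H_eq_zero_comm.1 hq'.2)]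
      have := Set.ncard_le_ncard h6
      rw [card_orth_two hind (ho p r ht hr)] at this
      omega
  rw [h3] at hcard
  refine ⟨by omega, fun p hp => ?_⟩
  set W := LinearMap.ker (Hl (n := 6) (q := 2) p.1)
  have hW : 5 ≤ Module.finrank F W := by
    show 5 ≤ Module.finrank F (LinearMap.ker (Hl (n := 6) (q := 2) p.1))
    have h1 := (Hl (n := 6) (q := 2) p.1).finrank_range_add_finrank_ker
    have h2 := Submodule.finrank_le (LinearMap.range (Hl (n := 6) (q := 2) p.1))
    rw [Module.finrank_self] at h2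
    rw [Module.finrank_fin_fun] at h1
    omega
  have hlt : U ⊓ W < U := lt_of_le_of_ne inf_le_left fun e => hp (hmax p fun r hr =>
    H_eq_zero_comm.1 (LinearMap.mem_ker.1
      ((inf_eq_left.1 e) (Submodule.subset_span ⟨r, hr, rfl⟩))))
  have hK : Module.finrank F (U ⊓ W : Submodule F V) = 2 := by
    have h1 := Submodule.finrank_lt_finrank_of_lt hlt
    have h2 := Submodule.finrank_sup_add_finrank_inf_eq U W
    have h4 := Submodule.finrank_le (U ⊔ W)
    rw [Module.finrank_fin_fun] at h4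
    omega
  have := card_sub (U ⊓ W) fun u hu => hU u hu.1 u hu.1
  rw [hK] at this
  rw [show (T ∩ Q fun v : V => H₆ v p.1 = 0) = Q fun v : V => v ∈ U ⊓ W from ?_]
  · omega
  ext x
  constructor
  · rintro ⟨hx, s, hs, rfl⟩
    refine ⟨s, ⟨?_, LinearMap.mem_ker.2 hs⟩, rfl⟩
    exact Submodule.subset_span ⟨s, hx, rfl⟩
  · rintro ⟨s, hs, rfl⟩
    exact ⟨hTU ▸ ⟨s, hs.1, rfl⟩, s, LinearMap.mem_ker.1 hs.2, rfl⟩

end space

variable {G : Type u} [Group G] [Finite G] {D : Set G}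

/-- A maximal commuting set has 22 members, and the others commute with none or six of them. -/
theorem base_set (hG : IsThreeTranspositionGroup D) (hprim : IsPrimitiveUnderConj D)
    (hM : IsOfTypeM22 G D) {B : Set G} (hBD : B ⊆ D) (hBc : ∀ a ∈ B, ∀ b ∈ B, Commute a b)
    (hmax : ∀ x ∈ D, (∀ a ∈ B, Commute x a) → x ∈ B) :
    B.ncard = 22 ∧ (∀ a ∈ B, (perp D a \ B).ncard = 672) ∧
      ∀ x ∈ D, x ∉ B → (perp D x ∩ B).ncard = 0 ∨ (perp D x ∩ B).ncard = 6 := by
  classical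
  have key : ∀ a ∈ B, (B \ {a}).ncard = 21 ∧ ∀ x ∈ perp D a, x ∉ B → ((B \ {a}) ∩ perp D x).ncard = 5 := by
    intro a ha
    obtain ⟨F, _, _, ⟨C⟩⟩ := exists_chart hG hprim hM (hBD ha)
    have hsub : ∀ y ∈ B \ {a}, y ∈ perp D a := fun y hy => ⟨hBD hy.1, hy.2, hBc a ha y hy.1⟩
    set T : Set (Cfsg.PSU 6 F 2) := {t | ∃ y : ↥(perp D a), (y : G) ∈ B ∧ tp (C.pt y) = t}
    have hmem : ∀ y : ↥(perp D a), (y : G) ∈ B \ {a} ↔ tp (C.pt y) ∈ T := fun y => ⟨fun h => ⟨y, h.1, rfl⟩,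
      fun ⟨z, hz, e⟩ => by rw [C.inj _ _ e] at hz; exact ⟨hz, y.2.2.1⟩⟩
    have hT : T ⊆ Q fun _ : Fin 6 → F => True := by
      rintro _ ⟨y, -, rfl⟩
      exact ⟨C.pt y, trivial, rfl⟩
    obtain ⟨h21, h5⟩ := max_orth T hT (fun p r ⟨y, hy, ey⟩ ⟨z, hz, ez⟩ => by
        rw [← Chart.orth_tp r ey, H_eq_zero_comm, ← Chart.orth_tp _ ez, H_eq_zero_comm]
        exact (C.comm y z).1 (hBc _ hy _ hz))
      (fun p hp => by
        obtain ⟨y, hy⟩ := C.surj p
        refine ⟨y, hmax y y.2.1 fun b hb => ?_, hy⟩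
        by_cases e : b = a
        · exact e ▸ y.2.2.2.symm
        set Z : ↥(perp D a) := ⟨b, hsub b ⟨hb, e⟩⟩
        refine (C.comm y Z).2 ((Chart.orth_tp _ hy).2 ?_)
        exact hp (C.pt Z) ⟨Z, hb, rfl⟩)
    refine ⟨by rw [C.ncard_eq hsub hT hmem, h21], fun x hx hxB => ?_⟩
    set X : ↥(perp D a) := ⟨x, hx⟩
    rw [← h5 (C.pt X) fun ⟨z, hz, e⟩ => hxB (by rw [C.inj _ _ e] at hz; exact hz)]
    refine C.ncard_eq (fun z hz => hsub z hz.1) (fun z hz => hT hz.1) fun y => ?_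
    rw [Set.mem_inter_iff, Set.mem_inter_iff, hmem, Chart.mem_Q, ← C.comm y X]
    exact ⟨fun h => ⟨h.1, h.2.2.2.symm⟩, fun h => ⟨h.1, y.2.1,
      fun e => hxB (e ▸ ((hmem y).2 h.1).1), h.2.symm⟩⟩
  obtain ⟨d, hd, -⟩ := hprim.2.1
  obtain ⟨a₀, ha₀⟩ : B.Nonempty := by
    by_contra h0
    exact h0 ⟨d, hmax d hd fun a ha => absurd ⟨a, ha⟩ h0⟩
  refine ⟨?_, fun a ha => ?_, fun x hx hxB => ?_⟩
  · have := Set.ncard_sdiff_singleton_add_one ha₀ (Set.toFinite B)
    rw [(key a₀ ha₀).1] at this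
    omega
  · have h1 : perp D a ∩ B = B \ {a} := by
      ext y
      exact ⟨fun h => ⟨h.2, h.1.2.1⟩, fun h => ⟨⟨hBD h.1, h.2, hBc a ha y h.1⟩, h.1⟩⟩
    have := Set.ncard_inter_add_ncard_sdiff_eq_ncard (perp D a) B (Set.toFinite _)
    rw [h1, (key a ha).1, (local_base hG hprim hM).size a (hBD ha)] at this
    omega
  · rcases (perp D x ∩ B).eq_empty_or_nonempty with e | ⟨a, hax, haB⟩
    · left; rw [e, Set.ncard_empty]
    · right
      have h1 : perp D x ∩ B = insert a ((B \ {a}) ∩ perp D x) := by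
        ext y
        by_cases e : y = a
        · subst e; exact iff_of_true ⟨hax, haB⟩ (Or.inl rfl)
        · exact ⟨fun h => Or.inr ⟨⟨h.2, e⟩, h.1⟩, fun h =>
            (h.resolve_left e).elim fun h1 h2 => ⟨h2, h1.1⟩⟩
      rw [h1, Set.ncard_insert_of_notMem (fun h => h.1.2 rfl),
        (key a haB).2 x (perp_flip hG hprim hM hx hax) hxB]

end Cfsg.Agent.Fischer3Tv
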