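import Cfsg.Agent.Lib.AutPSU.Pair
import Cfsg.Agent.Lib.AutPSU.Rigid
import Cfsg.Agent.Lib.Invol.U32

/-!
# Points and transvections of the six-dimensional unitary space over four elements
-/

set_option autoImplicit false
set_option linter.unusedSectionVars false

namespace Cfsg.Agent.Fischer3Tv

open AutPSU

universe u

variable {F : Type u} [Field F] [hQ : QField F 2]
include hQ

local notation "σ" => qb (F := F) 2
local notation "V" => Fin 6 → F
set_option quotPrecheck false in
local notation "SU6" => ↥(Cfsg.SU 6 F 2)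
local notation "H" => Cfsg.hermForm 6 F 2

theorem two_zero : (2 : F) = 0 := by
  haveI := finite_field (F := F) (q := 2)
  haveI := Fintype.ofFinite F
  have h := hQ.card
  rw [Nat.card_eq_fintype_card] at h
  exact (U32.exists_omega (h.trans (by norm_num))).choose_spec.2

theorem charTwo : CharP F 2 := (CharP.charP_iff_prime_eq_zero Nat.prime_two).2 (by
  exact_mod_cast two_zero (F := F))

theorem add_self (x : F) : x + x = 0 := by linear_combination x * two_zero (F := F)

theorem vadd_self (v : V) : v + v = 0 := funext fun i => add_self (v i)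

theorem eq_of_add_eq_zero {x y : F} (h : x + y = 0) : x = y := by
  linear_combination h - add_self y

theorem sigma_sq (x : F) : σ x = x * x := by rw [qb_apply, sq]

theorem cube {x : F} (hx : x ≠ 0) : x * x * x = 1 := by
  haveI := finite_field (F := F) (q := 2)
  haveI := Fintype.ofFinite F
  have h := hQ.card
  rw [Nat.card_eq_fintype_card] at h
  have := FiniteField.pow_card_sub_one_eq_one x hx
  rw [h] at this
  linear_combination this

theorem norm_one {x : F} (hx : x ≠ 0) : x * σ x = 1 := by
  rw [sigma_sq, ← mul_assoc, cube hx]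

variable (F) in
/-- An element which is neither zero nor one. -/
theorem exists_om : ∃ w : F, w * w = w + 1 ∧ w ≠ 0 ∧ w ≠ 1 := by
  haveI := finite_field (F := F) (q := 2)
  haveI := Fintype.ofFinite F
  have h := hQ.card
  rw [Nat.card_eq_fintype_card] at h
  obtain ⟨w, hw, -⟩ := U32.exists_omega (h.trans (by norm_num : (2 : ℕ) ^ 2 = 4))
  refine ⟨w, hw, fun e => ?_, fun e => ?_⟩ <;> subst e
  · simp at hw
  · simp [add_self] at hw

theorem four {w : F} (hw : w * w = w + 1) (x : F) : x = 0 ∨ x = 1 ∨ x = w ∨ x = w + 1 := by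
  rcases eq_or_ne x 0 with rfl | hx
  · exact Or.inl rfl
  rcases eq_or_ne x 1 with rfl | hx1
  · exact Or.inr (Or.inl rfl)
  have h : x * x + x + 1 = 0 := (mul_eq_zero.1 (show (x - 1) * (x * x + x + 1) = 0 by
    linear_combination cube hx)).resolve_left (sub_ne_zero.2 hx1)
  have h' : (x + w) * (x + (w + 1)) = 0 := by linear_combination h + hw + x * w * two_zero (F := F) + w * two_zero (F := F)
  exact (mul_eq_zero.1 h').elim (fun e => Or.inr (Or.inr (Or.inl (eq_of_add_eq_zero e))))
    fun e => Or.inr (Or.inr (Or.inr (eq_of_add_eq_zero e)))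

theorem trace_zero {x : F} (h : x + σ x = 0) : x = 0 ∨ x = 1 := by
  rw [sigma_sq] at h
  exact (mul_eq_zero.1 (show x * (x + 1) = 0 by linear_combination h)).imp id eq_of_add_eq_zero

variable (F) in
/-- An isotropic non-zero vector. -/
def Pt : Type u := {v : V // v ≠ 0 ∧ H v v = 0}

theorem isT_one (p : Pt F) : IsT 2 p.1 1 := ⟨p.2.2, by rw [map_one, add_self]⟩

/-- The transvection of a point. -/
noncomputable def T (p : Pt F) : SU6 := tr p.1 1 (isT_one p)

/-- The transvection of a point in the projective group. -/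
noncomputable def tp (p : Pt F) : Cfsg.PSU 6 F 2 := proj 6 F 2 (T p)

theorem T_apply (p : Pt F) (v : V) : app (T p) v = v + H v p.1 • p.1 := by simp [T]

theorem T_sq (p : Pt F) : T p * T p = 1 := su_ext fun v => by
  show app (T p * T p) v = app 1 v
  rw [app_mul, app_one, T_apply, T_apply, H_add_left, H_smul_left, p.2.2, mul_zero, add_zero,
    add_assoc, vadd_self, add_zero]

theorem tp_sq (p : Pt F) : tp p * tp p = 1 := by rw [tp, ← map_mul, T_sq, map_one]

theorem tp_comm_iff (p p' : Pt F) : Commute (tp p) (tp p') ↔ H p.1 p'.1 = 0 := by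
  haveI := charTwo (F := F)
  haveI : Fact (Nat.Prime 2) := ⟨Nat.prime_two⟩
  exact proj_commute_iff 2 (by norm_num) p.2.1 p'.2.1 one_ne_zero one_ne_zero

theorem tp_eq_iff (p p' : Pt F) : tp p = tp p' ↔ ∃ c : F, p'.1 = c • p.1 := by
  haveI := charTwo (F := F)
  haveI : Fact (Nat.Prime 2) := ⟨Nat.prime_two⟩
  refine ⟨fun e => proj_tr_eq 2 (by norm_num) p.2.1 one_ne_zero e, fun ⟨c, hc⟩ => ?_⟩
  refine congrArg (proj 6 F 2) (su_ext fun v => ?_)
  show app (T p) v = app (T p') v
  have hc0 : c ≠ 0 := fun e => p'.2.1 (by rw [hc, e, zero_smul])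
  rw [T_apply, T_apply, hc, H_smul_right, smul_smul, mul_right_comm, mul_comm (σ c) c,
    norm_one hc0, one_mul]

/-- The image of a point. -/
noncomputable def Pt.move (s : SU6) (p : Pt F) : Pt F :=
  ⟨app s p.1, fun e => p.2.1 (app_injective s (e.trans (app_zero s).symm)), by rw [app_H]; exact p.2.2⟩

theorem T_conj (s : SU6) (p : Pt F) : s * T p * s⁻¹ = T (p.move s) := tr_conj s (isT_one p)

theorem tp_conj (s : SU6) (p : Pt F) :
    proj 6 F 2 s * tp p * (proj 6 F 2 s)⁻¹ = tp (p.move s) := by
  rw [tp, tp, ← map_inv, ← map_mul, ← map_mul, T_conj]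

theorem tp_braid (p p' : Pt F) (h : H p.1 p'.1 ≠ 0) : tp p * tp p' * tp p = tp p' * tp p * tp p' := by
  have inv : ∀ r : Pt F, (tp r)⁻¹ = tp r := fun r => inv_eq_of_mul_eq_one_right (tp_sq r)
  have e : ∀ a b : Pt F, tp a * tp b * tp a = tp (b.move (T a)) := fun a b => by
    conv_lhs => arg 2; rw [← inv a]
    exact tp_conj (T a) b
  rw [e, e, tp_eq_iff]
  refine ⟨H p.1 p'.1, ?_⟩
  show app (T p') p.1 = H p.1 p'.1 • app (T p) p'.1
  rw [T_apply, T_apply, smul_add, smul_smul, ← H_flip p.1 p'.1, norm_one h, one_smul, add_comm]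

/-- The sum of the rank one maps of a list of points. -/
def S (L : List (Pt F)) (v : V) : V := (L.map fun x => H v x.1 • x.1).sum

theorem app_prod {L : List (Pt F)} (h : ∀ x ∈ L, ∀ y ∈ L, H x.1 y.1 = 0) (v : V) :
    app (L.map T).prod v = v + S L v := by
  induction L with
  | nil => simp [S, app_one]
  | cons x L ih =>
    have hx : ∀ M : List (Pt F), (∀ y ∈ M, H y.1 x.1 = 0) → H (S M v) x.1 = 0 := by
      intro M
      induction M with
      | nil => simp [S]
      | cons y M ihM =>
        intro hM
        have := ihM fun z hz => hM z (List.mem_cons_of_mem _ hz)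
        simp only [S, List.map_cons, List.sum_cons, H_add_left, H_smul_left] at this ⊢
        rw [hM y (by simp), mul_zero, zero_add, this]
    rw [List.map_cons, List.prod_cons, app_mul,
      ih (fun a ha b hb => h a (List.mem_cons_of_mem _ ha) b (List.mem_cons_of_mem _ hb)), T_apply,
      H_add_left, hx L (fun y hy => h y (List.mem_cons_of_mem _ hy) x (by simp)), add_zero]
    simp only [S, List.map_cons, List.sum_cons]
    abel

theorem S_point {L : List (Pt F)} (h : ∀ x ∈ L, ∀ y ∈ L, H x.1 y.1 = 0) {p : Pt F} (hp : p ∈ L) :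
    S L p.1 = 0 := List.sum_eq_zero fun z hz => by
  obtain ⟨y, hy, rfl⟩ := List.mem_map.1 hz
  rw [h p hp y hy, zero_smul]

/-- When a product of commuting transvections is trivial. -/
theorem prod_tp_iff {L : List (Pt F)} (h : ∀ x ∈ L, ∀ y ∈ L, H x.1 y.1 = 0) :
    (L.map tp).prod = 1 ↔ ∀ v : V, S L v = 0 := by
  rw [show L.map tp = (L.map T).map (proj 6 F 2) by simp [tp, List.map_map, Function.comp_def],
    ← map_list_prod, proj_eq_one_iff]
  constructor
  · intro hz v
    obtain ⟨c, hc⟩ := scalar_of_mem_center (n := 6) (by norm_num) hz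
    rcases L with _ | ⟨x, L⟩
    · rfl
    have hx := hc x.1
    rw [app_prod h, S_point h (List.mem_cons_self ..), add_zero] at hx
    have hc1 : c = 1 := smul_left_injective F x.2.1 (show c • x.1 = (1 : F) • x.1 by
      rw [one_smul]; exact hx.symm)
    have := hc v
    rwa [app_prod h, hc1, one_smul, add_eq_left] at this
  · intro hS
    exact mem_center_of_scalar (c := 1) fun v => by rw [app_prod h, hS, add_zero, one_smul]

end Cfsg.Agent.Fischer3Tv
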