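import Cfsg.Agent.Lib.Fischer3Tv.Basic

/-!
# Totally isotropic lines, hyperbolic lines and hexagonal sets in totally isotropic planes
-/

set_option autoImplicit false
set_option linter.unusedSectionVars false

namespace Cfsg.Agent.Fischer3Tv

open AutPSU

universe u

variable {F : Type u} [Field F] [hQ : QField F 2]
include hQ

local notation "σ" => qb (F := F) 2
local notation "V" => Fin 6 → F
local notation "H" => Cfsg.hermForm 6 F 2

/-- Different points. -/
def Indep (p r : Pt F) : Prop := ∀ c : F, r.1 ≠ c • p.1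

theorem Indep.symm {p r : Pt F} (h : Indep p r) : Indep r p := fun c hc => by
  have hc0 : c ≠ 0 := fun e => p.2.1 (by rw [hc, e, zero_smul])
  exact h c⁻¹ (by rw [hc, smul_smul, inv_mul_cancel₀ hc0, one_smul])

theorem indep_iff {p r : Pt F} : Indep p r ↔ tp p ≠ tp r := by
  rw [Ne, tp_eq_iff]; exact not_exists.symm

/-- Linear combinations of two points are independent. -/
theorem Indep.eq_zero {p r : Pt F} (h : Indep p r) {a b : F} (e : a • p.1 + b • r.1 = 0) :
    a = 0 ∧ b = 0 := by
  have hb : b = 0 := by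
    by_contra hb
    refine h (-(b⁻¹ * a)) ?_
    have h1 := congrArg (fun x : V => b⁻¹ • x) e
    simp only [smul_add, smul_smul, inv_mul_cancel₀ hb, one_smul, smul_zero] at h1
    rw [neg_smul]
    exact eq_neg_of_add_eq_zero_right h1
  refine ⟨?_, hb⟩
  rw [hb, zero_smul, add_zero, smul_eq_zero] at e
  exact e.resolve_right p.2.1

/-- A vector killed by the common orthogonal of two vectors is in their span. -/
theorem mem_span_of_orth {x y w : V} (h : ∀ v, H v x = 0 → H v y = 0 → H v w = 0) :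
    ∃ a b : F, w = a • x + b • y := by
  have := mem_span_of_iInf_ker_le_ker (L := ![Hl (q := 2) x, Hl (q := 2) y]) (K := Hl (q := 2) w) (by
    intro v hv
    rw [Submodule.mem_iInf] at hv
    have h0 := hv 0
    have h1 := hv 1
    simp only [LinearMap.mem_ker, Matrix.cons_val_zero, Matrix.cons_val_one, Hl_apply] at h0 h1 ⊢
    exact h v h0 h1)
  rw [Matrix.range_cons, Matrix.range_cons, Matrix.range_empty, Set.union_empty,
    Set.singleton_union, Submodule.mem_span_pair] at this
  obtain ⟨a, b, e⟩ := this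
  refine ⟨σ a, σ b, eq_of_sub_eq_zero (eq_zero_of_orth (q := 2) fun v => ?_)⟩
  have := congrArg (fun f => f v) e
  simp only [LinearMap.add_apply, LinearMap.smul_apply, Hl_apply, smul_eq_mul] at this
  simp only [H_sub_right, H_add_right, H_smul_right, qb_qb]
  linear_combination -this

/-- Five points with trivial sum lie on the line of any two of them. -/
theorem five_span {u1 u2 u3 u4 u5 : Pt F} (h12 : Indep u1 u2) (h34 : Indep u4 u3) (hS : ∀ v, S [u1, u2, u3, u4, u5] v = 0) :
    ∃ a b : F, u3.1 = a • u1.1 + b • u2.1 := by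
  by_contra hc
  have hS' : ∀ v, H v u1.1 • u1.1 + (H v u2.1 • u2.1 + (H v u3.1 • u3.1 +
      (H v u4.1 • u4.1 + H v u5.1 • u5.1))) = (0 : V) := fun v => by
    simpa [S] using hS v
  obtain ⟨v, hv1, hv2, hv3⟩ : ∃ v, H v u1.1 = 0 ∧ H v u2.1 = 0 ∧ H v u3.1 ≠ 0 := by
    by_contra! h
    exact hc (mem_span_of_orth h)
  have e := hS' v
  rw [hv1, hv2, zero_smul, zero_smul, zero_add, zero_add] at e
  obtain ⟨p, r, hp⟩ : ∃ p r : F, u3.1 = p • u4.1 + r • u5.1 := by
    refine ⟨-((H v u3.1)⁻¹ * H v u4.1), -((H v u3.1)⁻¹ * H v u5.1), ?_⟩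
    have h1 := congrArg (fun x : V => (H v u3.1)⁻¹ • x) e
    simp only [smul_add, smul_smul, inv_mul_cancel₀ hv3, one_smul, smul_zero] at h1
    rw [neg_smul, neg_smul, ← neg_add]
    exact eq_neg_of_add_eq_zero_left h1
  have hr : r ≠ 0 := fun h0 => by
    rw [h0, zero_smul, add_zero] at hp
    exact h34 p hp
  -- the first two are orthogonal to everything orthogonal to the line
  have key : ∀ v, H v u4.1 = 0 → H v u5.1 = 0 → H v u1.1 = 0 ∧ H v u2.1 = 0 := fun v h4 h5 => by
    have h3 : H v u3.1 = 0 := by rw [hp, H_add_right, H_smul_right, H_smul_right, h4, h5]; simp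
    have e := hS' v
    rw [h3, h4, h5, zero_smul, zero_smul, zero_smul, add_zero, add_zero, add_zero] at e
    exact h12.eq_zero e
  obtain ⟨a, b, ha⟩ := mem_span_of_orth fun v h4 h5 => (key v h4 h5).1
  obtain ⟨c, d, hd⟩ := mem_span_of_orth fun v h4 h5 => (key v h4 h5).2
  have hdet : a * d - b * c ≠ 0 := by
    intro h0
    by_cases hb : b = 0
    · rw [hb, zero_smul, add_zero] at ha
      have had : a * d = 0 := by rw [hb, zero_mul, sub_zero] at h0; exact h0
      have ha0 : a ≠ 0 := fun e => u1.2.1 (by rw [ha, e, zero_smul])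
      rw [(mul_eq_zero.1 had).resolve_left ha0, zero_smul, add_zero] at hd
      exact h12 (c * a⁻¹) (by rw [ha, smul_smul, inv_mul_cancel_right₀ ha0, hd])
    · refine h12 (d / b) ?_
      rw [ha, hd, smul_add, smul_smul, smul_smul, div_mul_cancel₀ _ hb,
        show d / b * a = c by field_simp; linear_combination h0]
  refine hc ⟨(p * d - r * c) / (a * d - b * c), (a * r - b * p) / (a * d - b * c), ?_⟩
  have e : (a * d - b * c) • u3.1 = (p * d - r * c) • u1.1 + (a * r - b * p) • u2.1 := by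
    rw [ha, hd, hp]; module
  rw [div_eq_inv_mul, div_eq_inv_mul, ← smul_smul, ← smul_smul, ← smul_add, ← e, smul_smul,
    inv_mul_cancel₀ hdet, one_smul]

/-- A point of a line other than the two spanning it is one of three. -/
theorem span_cases {p r s : Pt F} {w : F} (hw : w * w = w + 1) (hp : Indep p s) (hr : Indep r s)
    {a b : F} (e : s.1 = a • p.1 + b • r.1) :
    ∃ k : F, (k = 1 ∨ k = w ∨ k = w + 1) ∧ ∃ c : F, s.1 = c • (p.1 + k • r.1) := by
  have ha : a ≠ 0 := fun h => hr b (by rw [e, h, zero_smul, zero_add])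
  have hb : b ≠ 0 := fun h => hp a (by rw [e, h, zero_smul, add_zero])
  exact ⟨b / a, (four hw (b / a)).resolve_left (div_ne_zero hb ha), a, by
    rw [e, smul_add, smul_smul, mul_div_cancel₀ _ ha]⟩

/-- The third points of the totally isotropic line. -/
def lineVec (p r : Pt F) (k : F) : V := p.1 + k • r.1

theorem line_pt (p r : Pt F) (h : Indep p r) (ho : H p.1 r.1 = 0) (k : F) :
    p.1 + k • r.1 ≠ 0 ∧ H (p.1 + k • r.1) (p.1 + k • r.1) = 0 := by
  refine ⟨fun e => one_ne_zero (α := F) (h.eq_zero (a := 1) (b := k) (by rw [one_smul]; exact e)).1, ?_⟩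
  simp [p.2.2, r.2.2, ho, H_eq_zero_comm.1 ho]

/-- The five points of a totally isotropic line. -/
theorem line_S (p r : Pt F) {w : F} (hw : w * w = w + 1) (x y z : Pt F)
    (hx : x.1 = p.1 + (1 : F) • r.1) (hy : y.1 = p.1 + w • r.1) (hz : z.1 = p.1 + (w + 1) • r.1)
    (v : V) : S [p, r, x, y, z] v = 0 := by
  simp only [S, List.map_cons, List.map_nil, List.sum_cons, List.sum_nil, hx, hy, hz, H_add_right,
    H_smul_right, sigma_sq]
  match_scalars <;> grind [two_zero (F := F)]

/-- The third point of a hyperbolic line is unique. -/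
theorem hyp_third {u v s t : Pt F} (huv : H u.1 v.1 ≠ 0)
    (hs : ∀ x : Pt F, H x.1 u.1 = 0 → H x.1 v.1 = 0 → H x.1 s.1 = 0)
    (ht : ∀ x : Pt F, H x.1 u.1 = 0 → H x.1 v.1 = 0 → H x.1 t.1 = 0)
    (hus : Indep u s) (hvs : Indep v s) (hut : Indep u t) (hvt : Indep v t) : ¬ Indep s t := by
  set h := H u.1 v.1
  have hh : (h⁻¹ • u.1 : V) ≠ 0 := smul_ne_zero (inv_ne_zero huv) u.2.1
  have hp : HPair 2 (h⁻¹ • u.1) v.1 :=
    ⟨by simp [u.2.2], v.2.2, by rw [H_smul_left, inv_mul_cancel₀ huv]⟩
  obtain ⟨x, hxW, hx0, hxx⟩ := (w_cases (by norm_num) hp).resolve_right (fun e => by simp at e)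
  obtain ⟨x', hxW', hx'x, hx'x'⟩ := exists_partner_W hp hxW hx0 hxx
  have hxx' : H x x' = 1 := by rw [← H_flip x' x, hx'x, map_one]
  -- each of the two is in the span
  have key : ∀ s : Pt F, (∀ x : Pt F, H x.1 u.1 = 0 → H x.1 v.1 = 0 → H x.1 s.1 = 0) →
      Indep u s → Indep v s → ∃ c : F, s.1 = c • (u.1 + h • v.1) := by
    intro s hs hus hvs
    have hW : ∀ y : V, InW 2 (h⁻¹ • u.1) v.1 y → H y y = 0 → H y s.1 = 0 := by
      intro y hy hyy
      rcases eq_or_ne y 0 with rfl | hy0
      · simp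
      refine hs ⟨y, hy0, hyy⟩ ?_ hy.2
      have := hy.1
      rwa [H_smul_right, mul_eq_zero, or_iff_right ((map_ne_zero σ).2 (inv_ne_zero huv))] at this
    set y := pW 2 (h⁻¹ • u.1) v.1 s.1 with hy
    have hyW : InW 2 (h⁻¹ • u.1) v.1 y := hp.pW_mem _
    have hsy : ∀ z, InW 2 (h⁻¹ • u.1) v.1 z → H z z = 0 → H z y = 0 := fun z hz hzz => by
      rw [hy, H_pW_left hz]; exact hW z hz hzz
    have hy0 : y = 0 := by
      by_contra hy0
      by_cases hyy : H y y = 0
      · obtain ⟨y', hy'W, hy'y, hy'y'⟩ := exists_partner_W hp hyW hy0 hyy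
        exact one_ne_zero (α := F) (hy'y.symm.trans (hsy y' hy'W hy'y'))
      · have h1 := hsy x hxW hxx
        have h2 := hsy x' hxW' hx'x'
        obtain ⟨c, hc⟩ := exists_trace (F := F) (q := 2) (c := H y y) (H_self_fixed y)
        have h3 := hsy (x + c • x' + y) ((hxW.add (hxW'.smul c)).add hyW) (by
          simp only [H_add_left, H_add_right, H_smul_left, H_smul_right, hxx, hxx', hx'x, hx'x', h1,
            h2, H_eq_zero_comm.1 h1, H_eq_zero_comm.1 h2]
          linear_combination hc + H y y * two_zero (F := F))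
        simp only [H_add_left, H_smul_left, h1, h2, mul_zero, zero_add] at h3
        exact hyy h3
    obtain ⟨a, b, e⟩ : ∃ a b : F, s.1 = a • u.1 + b • v.1 := by
      refine ⟨H s.1 v.1 * h⁻¹, H s.1 (h⁻¹ • u.1), ?_⟩
      have e : s.1 - H s.1 v.1 • (h⁻¹ • u.1) - H s.1 (h⁻¹ • u.1) • v.1 = 0 := hy0
      rw [← smul_smul]
      linear_combination (norm := module) e
    have ha : a ≠ 0 := fun h0 => hvs b (by rw [e, h0, zero_smul, zero_add])
    have hb : b ≠ 0 := fun h0 => hus a (by rw [e, h0, zero_smul, add_zero])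
    refine ⟨a, ?_⟩
    have hk : (σ (b / a) * h) + σ (σ (b / a) * h) = 0 := by
      have hss := s.2.2
      rw [e] at hss
      simp only [H_add_left, H_add_right, H_smul_left, H_smul_right, u.2.2, v.2.2] at hss
      rw [← H_flip u.1 v.1] at hss
      simp only [map_mul, map_div₀, qb_qb]
      have ha' : σ a ≠ 0 := (map_ne_zero σ).2 ha
      field_simp
      linear_combination hss
    have hk1 : σ (b / a) * h = 1 := (trace_zero hk).resolve_left
      (mul_ne_zero ((map_ne_zero σ).2 (div_ne_zero hb ha)) huv)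
    have hkh : b / a = h := by
      have := congrArg σ hk1
      rw [map_mul, qb_qb, map_one] at this
      calc b / a = b / a * (h * σ h) := by rw [norm_one huv, mul_one]
        _ = h := by linear_combination h * this
    rw [e, smul_add, smul_smul, ← hkh, mul_div_cancel₀ _ ha]
  obtain ⟨c, hc⟩ := key s hs hus hvs
  obtain ⟨d, hd⟩ := key t ht hut hvt
  have hc0 : c ≠ 0 := fun e => s.2.1 (by rw [hc, e, zero_smul])
  exact fun hi => hi (d * c⁻¹) (by rw [hd, hc, smul_smul, inv_mul_cancel_right₀ hc0])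

variable (F) in
/-- Points of a totally isotropic plane. -/
def planeVec (a b c : F) : V := ![a, a, b, b, c, c]

theorem plane_H (a b c a' b' c' : F) : H (planeVec F a b c) (planeVec F a' b' c') = 0 := by
  simp only [H_eq, planeVec, Fin.sum_univ_six]
  simp
  linear_combination (a * σ a' + b * σ b' + c * σ c') * two_zero (F := F)

theorem plane_ne (a b c : F) (h : a ≠ 0 ∨ b ≠ 0 ∨ c ≠ 0) : planeVec F a b c ≠ 0 := by
  intro e
  have e0 := congrFun e 0
  have e2 := congrFun e 2
  have e4 := congrFun e 4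
  simp [planeVec] at e0 e2 e4
  exact h.elim (fun h => h e0) (fun h => h.elim (fun h => h e2) fun h => h e4)

/-- A point of the plane. -/
def plane (a b c : F) (h : a ≠ 0 ∨ b ≠ 0 ∨ c ≠ 0) : Pt F :=
  ⟨planeVec F a b c, plane_ne a b c h, plane_H a b c a b c⟩

theorem hexad_S {w k : F} (hw : w * w = w + 1) (hk : k ≠ 0) (x y z e₁ e₂ e₃ : Pt F)
    (h1 : e₁.1 = planeVec F 1 0 0) (h2 : e₂.1 = planeVec F 0 1 0) (h3 : e₃.1 = planeVec F 0 0 1)
    (hx : x.1 = planeVec F 1 1 k) (hy : y.1 = planeVec F 1 w ((w + 1) * k))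
    (hz : z.1 = planeVec F 1 (w + 1) (w * k)) (v : V) : S [e₁, e₂, e₃, x, y, z] v = 0 := by
  have hc := cube hk
  simp only [S, List.map_cons, List.map_nil, List.sum_cons, List.sum_nil, h1, h2, h3, hx, hy, hz]
  funext i
  simp only [H_eq, planeVec, Fin.sum_univ_six, Pi.add_apply, Pi.smul_apply, smul_eq_mul, Pi.zero_apply]
  fin_cases i <;> simp [sigma_sq] <;> grind [two_zero (F := F)]

end Cfsg.Agent.Fischer3Tv
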