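import Cfsg.Agent.Lib.Fischer3Tv.Member
import Cfsg.Agent.Lib.Fischer3Tv.Geom
import Cfsg.Agent.Lib.Fischer3Rel.Main

/-!
# The perp of a member of a group of type M22 as the points of a unitary space
-/

set_option autoImplicit false
set_option linter.unusedSectionVars false
set_option linter.style.haveILetI false

namespace Cfsg.Agent.Fischer3Tv

open Cfsg ClassK Fischer3 Fischer3Rel AutPSU

universe u

variable {G : Type u} [Group G] [Finite G] {D : Set G}

/-- The perp of `d` as the points of the unitary space. -/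
structure Chart (D : Set G) (d : G) (F : Type) [Field F] [QField F 2] where
  /-- The point of a member. -/
  pt : ↥(perp D d) → Pt F
  surj : ∀ p : Pt F, ∃ y, tp (pt y) = tp p
  comm : ∀ y z : ↥(perp D d), Commute (y : G) (z : G) ↔ Cfsg.hermForm 6 F 2 (pt y).1 (pt z).1 = 0
  inj : ∀ y z : ↥(perp D d), tp (pt y) = tp (pt z) → y = z
  rel : ∀ L : List ↥(perp D d), (L.map (tp ∘ pt)).prod = 1 ↔
    ∀ x ∈ perp D d, Commute (L.map Subtype.val).prod x

/-- Every member has a chart. -/
theorem exists_chart (hG : IsThreeTranspositionGroup D) (hprim : IsPrimitiveUnderConj D)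
    (hM : IsOfTypeM22 G D) {d : G} (hd : d ∈ D) :
    ∃ (F : Type) (_ : Field F) (_ : QField F 2), Nonempty (Chart D d F) := by
  obtain ⟨hZ, w, hw, c, hc, -, ⟨F, _, _, hF, ⟨eP⟩⟩, -⟩ := hM
  haveI : QField F 2 := QField.of_card (hF.trans (by norm_num))
  refine ⟨F, inferInstance, inferInstance, ?_⟩
  haveI := simple_psu hF
  have hC := class_of_primitive hG hprim
  obtain ⟨g, hg⟩ := class_exists_conj hC hw hd
  -- the map onto the unitary group
  obtain ⟨e₁⟩ : Nonempty (↥(H D w) ≃* ↥(H D d)) :=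
    ⟨((H D w).equivMapOfInjective (MulAut.conj g).toMonoidHom (MulAut.conj g).injective).trans
      (MulEquiv.subgroupCongr ((H_conj hG g w).trans (by rw [hg])))⟩
  let φ : ↥(H D d) →* Cfsg.PSU 6 F 2 :=
    (eP.toMonoidHom.comp (QuotientGroup.mk' (Subgroup.center ↥(H D w)))).comp e₁.symm.toMonoidHom
  have hφ : Function.Surjective φ :=
    (eP.surjective.comp (QuotientGroup.mk'_surjective _)).comp e₁.symm.surjective
  have hker : ∀ x, φ x = 1 ↔ ∀ y ∈ perp D d, Commute (x : G) y := by
    intro x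
    have e : φ x = 1 ↔ x ∈ Subgroup.center ↥(H D d) := by
      simp only [φ, MonoidHom.comp_apply, MulEquiv.coe_toMonoidHom, EmbeddingLike.map_eq_one_iff,
        QuotientGroup.mk'_apply, QuotientGroup.eq_one_iff]
      exact ⟨fun h => e₁.apply_symm_apply x ▸ MulEquivClass.apply_mem_center e₁ h,
        fun h => MulEquivClass.apply_mem_center e₁.symm h⟩
    exact e.trans ⟨fun h y hy => commute_of_mem_center h hy, mem_center_closure x⟩
  -- the members go to transvections
  obtain ⟨⟨q, hq, r, hr, hqr⟩, -⟩ := simple_quot hG.1 (d := w) eP.isSimpleGroup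
  have h2 : pCore 2 G = ⊥ :=
    le_bot_iff.1 (hZ ▸ (pCores_central_of_primitive hG hprim ⟨q, hq.1, w, hw, hq.2.1, hq.2.2.symm⟩).1)
  let ι : ↥(perp D d) → ↥(H D d) := fun y => ⟨y, Subgroup.subset_closure y.2⟩
  have hS := hG.1
  have hmem : ∀ y : ↥(perp D d), ∃ p : Pt F, φ (ι y) = tp p := by
    intro y
    refine exists_pt ?_ ?_ ?_
    · rw [← map_mul, show ι y * ι y = 1 from Subtype.ext (tt_mul_self hS y.2.1), map_one]
    · intro e
      obtain ⟨z, hz, hn⟩ := perp_noncentral hC h2 hd y.2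
      exact hn ((hker _).1 e z hz)
    · intro t
      obtain ⟨k, rfl⟩ := hφ t
      have hky := conj_perp hG k.2 y.2
      rw [← map_inv, ← map_mul, ← map_mul, ← map_mul, ← map_pow, ← map_pow]
      exact (hS.2 _ y.2.1 _ hky.1).imp
        (fun h => by rw [show (ι y * (k * ι y * k⁻¹)) ^ 2 = 1 from Subtype.ext (by simpa [ι] using h), map_one])
        (fun h => by rw [show (ι y * (k * ι y * k⁻¹)) ^ 3 = 1 from Subtype.ext (by simpa [ι] using h), map_one])
  choose pt hpt using hmem
  have hcomm : ∀ y z : ↥(perp D d), Commute (φ (ι y)) (φ (ι z)) → Commute (y : G) z := by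
    intro y z h
    by_contra hn
    have h2 : φ (ι y * ι z) ^ 2 = 1 := by
      rw [map_mul, h.mul_pow, sq, sq, ← map_mul, ← map_mul,
        show ι y * ι y = 1 from Subtype.ext (tt_mul_self hS y.2.1),
        show ι z * ι z = 1 from Subtype.ext (tt_mul_self hS z.2.1), map_one, one_mul]
    have h3 : φ (ι y * ι z) ^ 3 = 1 := by
      rw [← map_pow, show (ι y * ι z) ^ 3 = 1 from Subtype.ext (by
        simpa [ι] using tt_noncommute_cube hS y.2.1 z.2.1 hn), map_one]
    have h1 : φ (ι y * ι z) = 1 := by simpa using pow_gcd_eq_one.2 ⟨h2, h3⟩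
    have hc : Commute ((y : G) * z) y := (hker _).1 h1 y y.2
    have e := hc.eq
    rw [mul_assoc] at e
    exact hn (mul_left_cancel e).symm
  refine ⟨⟨pt, fun p => ?_, fun y z => ⟨fun h => ?_, fun h => ?_⟩, fun y z h => ?_, fun L => ?_⟩⟩
  · obtain ⟨y₀⟩ : Nonempty ↥(perp D d) := ⟨⟨_, hg ▸ perp_conj hG g hq⟩⟩
    obtain ⟨s, hs⟩ := S0283.exists_map_vec (q := 2) (by norm_num) (pt y₀).2.1 p.2.1 (pt y₀).2.2 p.2.2
    obtain ⟨k, hk⟩ := hφ (proj 6 F 2 s)
    refine ⟨⟨_, conj_perp hG k.2 y₀.2⟩, ?_⟩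
    rw [← hpt, show ι ⟨_, conj_perp hG k.2 y₀.2⟩ = k * ι y₀ * k⁻¹ from Subtype.ext rfl, map_mul,
      map_mul, map_inv, hk, hpt, tp_conj]
    exact congrArg tp (Subtype.ext hs)
  · refine (tp_comm_iff _ _).1 ?_
    rw [← hpt, ← hpt]
    exact (show Commute (ι y) (ι z) from Subtype.ext h).map φ
  · exact hcomm y z (by rw [hpt, hpt]; exact (tp_comm_iff _ _).2 h)
  · rw [← hpt, ← hpt] at h
    have hc : Commute (y : G) z := hcomm y z (h ▸ Commute.refl _)
    by_contra hne
    obtain ⟨x, hx, hn⟩ := perp_noncentral hC h2 hd y.2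
    have h1 : φ (ι y * ι z) = 1 := by
      rw [map_mul, ← h, ← map_mul, show ι y * ι y = 1 from Subtype.ext (tt_mul_self hS y.2.1), map_one]
    exact hn (commute_of_pair hS y.2.1 z.2.1 hx.1 (fun e => hne (Subtype.ext e))
      ((hker _).1 h1 x hx).symm).symm
  · rw [show L.map (tp ∘ pt) = (L.map ι).map φ by simp [List.map_map, Function.comp_def, hpt],
      ← map_list_prod, hker,
      show (((L.map ι).prod : ↥(H D d)) : G) = (L.map Subtype.val).prod by
        rw [← Subgroup.coe_subtype, map_list_prod, List.map_map]; rfl]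

end Cfsg.Agent.Fischer3Tv
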