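import Cfsg.Agent.Lib.Fischer3Tv.Involution

/-!
# The classes of involutions of a group of type M22
-/

set_option autoImplicit false
set_option linter.unusedSectionVars false
set_option linter.style.haveILetI false

namespace Cfsg.Agent.Fischer3Tv

open Cfsg ClassK Fischer3 Fischer3Rel AutPSU Fischer3Srg

universe u

variable {G : Type u} [Group G] [Finite G] {D : Set G}

theorem member_ne_one (hS : IsThreeTranspositionSet D) {d : G} (hd : d ∈ D) : d ≠ 1 := fun e => by
  have := hS.1 d hd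
  rw [e, orderOf_one] at this
  omega

theorem fac_cross (hS : IsThreeTranspositionSet D) {j : G} {n n' : ℕ} (hn' : n' ≤ 3) {l l' : List G}
    (h : IsFac D n j l) (h' : IsFac D n' j l') : ∀ a ∈ l, ∀ b ∈ l', Commute a b := fun a ha => by
  refine commute_each hS h'.1 (h'.2.1.trans_le hn') h'.2.2.1 h'.2.2.2.1 (h.2.2.1 a ha) ?_
  rw [h'.2.2.2.2, ← h.2.2.2.2]
  exact Commute.list_prod_right l a fun z hz => h.2.2.2.1 a ha z hz

theorem fac_erase (hS : IsThreeTranspositionSet D) {j x : G} {n : ℕ} {l : List G}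
    (h : IsFac D (n + 1) j l) (hx : x ∈ l) [DecidableEq G] : IsFac D n (x * j) (l.erase x) := by
  refine ⟨h.1.erase x, by rw [List.length_erase_of_mem hx, h.2.1]; omega, fun y hy =>
    h.2.2.1 y (List.mem_of_mem_erase hy), fun y hy z hz =>
    h.2.2.2.1 y (List.mem_of_mem_erase hy) z (List.mem_of_mem_erase hz), ?_⟩
  rw [← h.2.2.2.2, (List.perm_cons_erase hx).prod_eq' (List.pairwise_of_forall_mem_list
    h.2.2.2.1), List.prod_cons, ← mul_assoc, tt_mul_self hS (h.2.2.1 x hx), one_mul]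

theorem fac_rel (hS : IsThreeTranspositionSet D) {j : G} {n n' : ℕ} (hn' : n' ≤ 3) {l l' : List G}
    (h : IsFac D n j l) (h' : IsFac D n' j l') (hdis : ∀ a ∈ l, a ∉ l') : IsRel D (l ++ l') := by
  have hc := fac_cross hS hn' h h'
  refine ⟨List.nodup_append.2 ⟨h.1, h'.1, fun a ha b hb e => hdis a ha (e ▸ hb)⟩,
    fun a ha => (List.mem_append.1 ha).elim (h.2.2.1 a) (h'.2.2.1 a), fun a ha b hb => ?_, ?_⟩
  · rcases List.mem_append.1 ha with ha | ha <;> rcases List.mem_append.1 hb with hb | hb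
    exacts [h.2.2.2.1 a ha b hb, hc a ha b hb, (hc b hb a ha).symm, h'.2.2.2.1 a ha b hb]
  · rw [List.prod_append, h.2.2.2.2, ← h'.2.2.2.2]
    exact list_sq hS h'.2.2.1 h'.2.2.2.1

variable (hG : IsThreeTranspositionGroup D) (hprim : IsPrimitiveUnderConj D) (hM : IsOfTypeM22 G D)
include hG hprim hM

theorem not_one_two {j : G} {l l' : List G} (h : IsFac D 1 j l) (h' : IsFac D 2 j l') : False := by
  have hS := hG.1
  obtain ⟨a, rfl⟩ := List.length_eq_one_iff.1 h.2.1
  obtain ⟨b, c, rfl⟩ := List.length_eq_two.1 h'.2.1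
  have hc := fac_cross hS (by norm_num) h h'
  obtain ⟨-, -, hD, -, hj⟩ := h
  obtain ⟨hn, -, hD', hcm, hj'⟩ := h'
  simp only [List.prod_cons, List.prod_nil, mul_one] at hj hj'
  subst hj
  have ha := hD a (by simp); have hb := hD' b (by simp); have hcD := hD' c (by simp)
  have hbc : b ≠ c := by simpa using hn
  have hba : b ≠ a := fun e => by
    subst e
    exact member_ne_one hS hcD (mul_eq_left.1 hj')
  have hca : c ≠ a := fun e => by
    subst e
    exact member_ne_one hS hb (mul_eq_right.1 hj')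
  obtain ⟨F, _, _, ⟨C⟩⟩ := exists_chart hG hprim hM ha
  obtain ⟨B, hB⟩ : ∃ B : ↥(perp D a), (B : G) = b := ⟨⟨b, hb, hba, hc a (by simp) b (by simp)⟩, rfl⟩
  obtain ⟨B', hB'⟩ : ∃ B : ↥(perp D a), (B : G) = c := ⟨⟨c, hcD, hca, hc a (by simp) c (by simp)⟩, rfl⟩
  have h1 := (C.rel [B, B']).2 fun x hx => by
    simp only [List.map_cons, List.map_nil, List.prod_cons, List.prod_nil, mul_one, hB, hB', hj']
    exact hx.2.2
  simp only [List.map_cons, List.map_nil, List.prod_cons, List.prod_nil, mul_one, Function.comp] at h1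
  have h2 : tp (C.pt B) = tp (C.pt B') := by
    exact (mul_left_cancel (h1.trans (tp_sq (C.pt B)).symm)).symm
  exact hbc (hB ▸ hB' ▸ congrArg Subtype.val (C.inj _ _ h2))

theorem not_one_three {j : G} {l l' : List G} (h : IsFac D 1 j l) (h' : IsFac D 3 j l') : False := by
  classical
  have hS := hG.1
  obtain ⟨a, rfl⟩ := List.length_eq_one_iff.1 h.2.1
  by_cases ha : a ∈ l'
  · have h2 := fac_erase hS h' ha
    have hj : a = j := by simpa using h.2.2.2.2
    rw [← hj, tt_mul_self hS (h.2.2.1 a (by simp))] at h2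
    obtain ⟨x, y, e⟩ := List.length_eq_two.1 h2.2.1
    rw [e] at h2
    obtain ⟨hn, -, hD, -, hp⟩ := h2
    simp only [List.prod_cons, List.prod_nil, mul_one] at hp
    have : x = y := by rw [eq_inv_of_mul_eq_one_left hp, tt_inv hS (hD y (by simp))]
    simp [this] at hn
  · obtain ⟨x, hx, y, hy, hne, hV⟩ := relV_of_four hS (fac_rel hS le_rfl h h' (by simpa using ha))
      (by rw [List.length_append, h.2.1, h'.2.1])
    exact m22_relV hG hM hx hy hne hV

theorem not_two_three {j : G} {l l' : List G} (h : IsFac D 2 j l) (h' : IsFac D 3 j l') : False := by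
  classical
  by_cases hd : ∀ a ∈ l, a ∉ l'
  · exact no_five hG hprim hM (fac_rel hG.1 le_rfl h h' hd)
      (by rw [List.length_append, h.2.1, h'.2.1])
  · push Not at hd
    obtain ⟨a, ha, ha'⟩ := hd
    exact not_one_two hG hprim hM (fac_erase hG.1 h ha) (fac_erase hG.1 h' ha')

theorem fac_count_unique {m m' : ℕ} {x : G} (hm : 1 ≤ m) (hm' : m ≤ 3) (hn : 1 ≤ m') (hn' : m' ≤ 3)
    {l l' : List G} (h : IsFac D m x l) (h' : IsFac D m' x l') : m = m' := by
  interval_cases m <;> interval_cases m'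
  all_goals first
    | rfl
    | exact (not_one_two hG hprim hM h h').elim
    | exact (not_one_two hG hprim hM h' h).elim
    | exact (not_one_three hG hprim hM h h').elim
    | exact (not_one_three hG hprim hM h' h).elim
    | exact (not_two_three hG hprim hM h h').elim
    | exact (not_two_three hG hprim hM h' h).elim

theorem fac_conj {m : ℕ} (hm : 1 ≤ m) (hm' : m ≤ 3) {x y : G} {l l' : List G} (h : IsFac D m x l)
    (h' : IsFac D m y l') : IsConj x y := by
  have hC := class_of_primitive hG hprim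
  have hL := (below_base hG hprim hM).loc
  rw [isConj_iff]
  interval_cases m
  · obtain ⟨a, rfl⟩ := List.length_eq_one_iff.1 h.2.1
    obtain ⟨b, rfl⟩ := List.length_eq_one_iff.1 h'.2.1
    obtain ⟨g, hg⟩ := class_exists_conj hC (h.2.2.1 a (by simp)) (h'.2.2.1 b (by simp))
    exact ⟨g, by rw [← h.2.2.2.2, ← h'.2.2.2.2]; simpa using hg⟩
  · obtain ⟨a, b, rfl⟩ := List.length_eq_two.1 h.2.1
    obtain ⟨a', b', rfl⟩ := List.length_eq_two.1 h'.2.1
    obtain ⟨hn, -, hD, hc, hp⟩ := h
    obtain ⟨hn', -, hD', hc', hp'⟩ := h'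
    obtain ⟨g, e1, e2⟩ := pair_trans hC hL (by norm_num) (hD a (by simp))
      (b := b) ⟨hD b (by simp), Ne.symm (by simpa using hn), hc a (by simp) b (by simp)⟩
      (hD' a' (by simp)) (b' := b') ⟨hD' b' (by simp), Ne.symm (by simpa using hn'),
        hc' a' (by simp) b' (by simp)⟩
    refine ⟨g, ?_⟩
    rw [← hp, ← hp', ← e1, ← e2]
    simp only [List.prod_cons, List.prod_nil, mul_one]
    group
  · obtain ⟨a, b, c, rfl, ha, hb, hc, hp⟩ := three_of_isFac h
    obtain ⟨a', b', c', rfl, ha', hb', hc', hp'⟩ := three_of_isFac h'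
    obtain ⟨g, e1, e2, e3⟩ := triple_trans hC hL (by norm_num) (by norm_num) ha hb hc ha' hb' hc'
    refine ⟨g, ?_⟩
    rw [← hp, ← hp', ← e1, ← e2, ← e3]
    group

theorem order_two {m : ℕ} (hm : 1 ≤ m) (hm' : m ≤ 3) {x : G} {l : List G} (h : IsFac D m x l) :
    orderOf x = 2 := by
  classical
  have hS := hG.1
  refine orderOf_eq_prime (by rw [pow_two, ← h.2.2.2.2]; exact list_sq hS h.2.2.1 h.2.2.2.1) fun e => ?_
  subst e
  interval_cases m
  · obtain ⟨a, rfl⟩ := List.length_eq_one_iff.1 h.2.1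
    exact member_ne_one hS (h.2.2.1 a (by simp)) (by simpa using h.2.2.2.2)
  · obtain ⟨a, b, rfl⟩ := List.length_eq_two.1 h.2.1
    have hab : a * b = 1 := by simpa using h.2.2.2.2
    have : a = b := by rw [eq_inv_of_mul_eq_one_left hab, tt_inv hS (h.2.2.1 b (by simp))]
    exact absurd this (by simpa using h.1)
  · obtain ⟨a, b, c, rfl, ha, hb, hc, hp⟩ := three_of_isFac h
    have h2 : IsFac D 2 c [a, b] := ⟨by simp [hb.2.1.symm], rfl, by simp [ha, hb.1],
      by simp [hb.2.2, hb.2.2.symm], by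
        simp only [List.prod_cons, List.prod_nil, mul_one]
        rw [eq_inv_of_mul_eq_one_left hp, tt_inv hS hc.1.1]⟩
    exact not_one_two hG hprim hM (l := [c]) ⟨by simp, rfl, by simp [hc.1.1], by simp, by simp⟩ h2

theorem exists_fac {m : ℕ} (hm : 1 ≤ m) (hm' : m ≤ 3) : ∃ x l, IsFac D m x l := by
  obtain ⟨d, hd, -⟩ := hprim.2.1
  have hL := (below_base hG hprim hM).loc
  obtain ⟨b, hb⟩ := nonempty_of_ncard (hL.size d hd) (by norm_num)
  obtain ⟨c, hc⟩ := nonempty_of_ncard (hL.pair d hd b hb) (by norm_num)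
  interval_cases m
  · exact ⟨d, [d], by simp, rfl, by simp [hd], by simp, by simp⟩
  · exact ⟨d * b, [d, b], by simp [hb.2.1.symm], rfl, by simp [hd, hb.1],
      by simp [hb.2.2, hb.2.2.symm], by simp⟩
  · exact ⟨_, _, isFac_three hd hb hc⟩

end Cfsg.Agent.Fischer3Tv
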