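import Cfsg.Agent.Lib.Fischer3Tv.Frame

/-!
# Numbers of points orthogonal to given points
-/

set_option autoImplicit false
set_option linter.unusedSectionVars false
set_option linter.style.haveILetI false

namespace Cfsg.Agent.Fischer3Tv

open AutPSU

universe u

variable {F : Type u} [Field F] [hQ : QField F 2]
include hQ

local notation "σ" => qb (F := F) 2
local notation "V" => Fin 6 → F
set_option quotPrecheck false in
local notation "SU6" => ↥(Cfsg.SU 6 F 2)
local notation "H" => Cfsg.hermForm 6 F 2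

/-- The transvections of the points with a property. -/
noncomputable def Q (P : V → Prop) : Set (Cfsg.PSU 6 F 2) := tp '' {p : Pt F | P p.1}

theorem iso_iff_even (v : V) :
    H v v = 0 ↔ Even (Nat.card {i : Fin 6 // v i ≠ 0}) := by
  classical
  haveI := charTwo (F := F)
  have e : H v v = ((Finset.univ.filter fun i => v i ≠ 0).card : F) := by
    rw [Finset.natCast_card_filter, H_eq]
    refine Finset.sum_congr rfl fun i _ => ?_
    by_cases h : v i = 0
    · simp [h]
    · rw [norm_one h, if_pos h]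
  rw [e, CharP.cast_eq_zero_iff F 2, Nat.card_eq_fintype_card, Fintype.card_subtype, even_iff_two_dvd]

omit hQ in
theorem even_table :
    Nat.card {g : Fin 6 → Fin 4 // g ≠ 0 ∧ Even (Finset.univ.filter fun i => g i ≠ 0).card} = 2079 ∧
    Nat.card {g : Fin 6 → Fin 4 // g 0 = g 1 ∧ g ≠ 0 ∧
      Even (Finset.univ.filter fun i => g i ≠ 0).card} = 543 ∧
    Nat.card {g : Fin 6 → Fin 4 // (g 0 = g 1 ∧ g 2 = g 3) ∧ g ≠ 0 ∧
      Even (Finset.univ.filter fun i => g i ≠ 0).card} = 159 ∧
    Nat.card {g : Fin 6 → Fin 4 // (g 0 = 0 ∧ g 1 = 0) ∧ g ≠ 0 ∧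
      Even (Finset.univ.filter fun i => g i ≠ 0).card} = 135 := by
  simp only [Nat.card_eq_fintype_card, Fintype.card_subtype]
  decide +kernel

theorem exists_label : ∃ e : F ≃ Fin 4, e 0 = 0 := by
  haveI := finite_field (F := F) (q := 2)
  obtain ⟨e⟩ : Nonempty (F ≃ Fin 4) := Finite.card_eq.1 (by rw [hQ.card, Nat.card_fin]; norm_num)
  exact ⟨e.trans (Equiv.swap (e 0) 0), by simp⟩

theorem card_transfer (e : F ≃ Fin 4) (he : e 0 = 0) (P : V → Prop) (P' : (Fin 6 → Fin 4) → Prop)
    (hP : ∀ v, P v ↔ P' fun i => e (v i)) :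
    Nat.card {v : V // P v ∧ v ≠ 0 ∧ H v v = 0} =
      Nat.card {g : Fin 6 → Fin 4 // P' g ∧ g ≠ 0 ∧ Even (Finset.univ.filter fun i => g i ≠ 0).card} := by
  classical
  refine Nat.card_congr (Equiv.subtypeEquiv (Equiv.piCongrRight fun _ => e) fun v => ?_)
  show _ ↔ P' (fun i => e (v i)) ∧ (fun i => e (v i)) ≠ 0 ∧ _
  have hz : ∀ x, e x = 0 ↔ x = 0 := fun x => by rw [← he, e.injective.eq_iff]
  rw [hP, iso_iff_even]
  refine and_congr_right' (and_congr (not_congr ⟨fun h => funext fun i => by simp [h, he],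
    fun h => funext fun i => (hz _).1 (congrFun h i)⟩) ?_)
  rw [Nat.card_eq_fintype_card, Fintype.card_subtype]
  refine iff_of_eq (congrArg (fun s : Finset (Fin 6) => Even s.card) (Finset.filter_congr fun i _ => ?_))
  exact not_congr (hz _).symm

/-- Three vectors on each point. -/
theorem card_Q (P : V → Prop) (hP : ∀ (c : F) v, c ≠ 0 → P v → P (c • v)) :
    3 * (Q P).ncard = Nat.card {v : V // P v ∧ v ≠ 0 ∧ H v v = 0} := by
  classical
  haveI := finite_field (F := F) (q := 2)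
  haveI := Fintype.ofFinite F
  let f : {v : V // P v ∧ v ≠ 0 ∧ H v v = 0} → Cfsg.PSU 6 F 2 := fun v => tp ⟨v.1, v.2.2⟩
  have hQset : Q P = Set.range f := by
    ext x
    constructor
    · rintro ⟨p, hp, rfl⟩
      exact ⟨⟨p.1, hp, p.2⟩, rfl⟩
    · rintro ⟨v, rfl⟩
      exact ⟨⟨v.1, v.2.2⟩, v.2.1, rfl⟩
  rw [hQset, Nat.card_eq_fintype_card, ← Finset.card_univ,
    Finset.card_eq_sum_card_image f Finset.univ, Finset.sum_const_nat (m := 3), mul_comm,
    Set.ncard_eq_toFinset_card', Set.toFinset_range]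
  intro x hx
  obtain ⟨v, -, rfl⟩ := Finset.mem_image.1 hx
  have e : (Finset.univ.filter fun c : F => c ≠ 0).card = 3 := by
    rw [Finset.filter_ne', Finset.card_erase_of_mem (Finset.mem_univ _), Finset.card_univ,
      ← Nat.card_eq_fintype_card, hQ.card]
    norm_num
  rw [← e]
  refine (Finset.card_bij (fun c hc => (⟨c • v.1, hP c _ (Finset.mem_filter.1 hc).2 v.2.1,
    smul_ne_zero (Finset.mem_filter.1 hc).2 v.2.2.1, by simp [v.2.2.2]⟩ :
      {v : V // P v ∧ v ≠ 0 ∧ H v v = 0})) ?_ ?_ ?_).symm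
  · intro c _
    exact Finset.mem_filter.2 ⟨Finset.mem_univ _, ((tp_eq_iff _ _).2 ⟨c, rfl⟩).symm⟩
  · intro a _ b _ h
    exact smul_left_injective F v.2.2.1 (congrArg Subtype.val h)
  · intro y hy
    obtain ⟨c, hc⟩ := (tp_eq_iff _ _).1 (Finset.mem_filter.1 hy).2.symm
    exact ⟨c, Finset.mem_filter.2 ⟨Finset.mem_univ _, fun h => y.2.2.1 (hc.trans (by rw [h, zero_smul]))⟩,
      Subtype.ext hc.symm⟩

/-- Transport along the group. -/
theorem card_move (s : SU6) (P : V → Prop) :
    (Q fun v => P (app s v)).ncard = (Q P).ncard := by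
  refine Set.ncard_congr (fun x _ => proj 6 F 2 s * x * (proj 6 F 2 s)⁻¹) ?_ ?_ ?_
  · rintro _ ⟨p, hp, rfl⟩
    rw [tp_conj]
    exact ⟨p.move s, hp, rfl⟩
  · exact fun a b _ _ h => mul_left_cancel (mul_right_cancel h)
  · rintro _ ⟨p, hp, rfl⟩
    refine ⟨tp (p.move s⁻¹), ⟨p.move s⁻¹, ?_, rfl⟩, ?_⟩
    · show P (app s (app s⁻¹ p.1))
      rwa [app_inv']
    · rw [tp_conj]
      exact congrArg tp (Subtype.ext (app_inv' s p.1))

theorem card_all : (Q fun _ : V => True).ncard = 693 := by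
  obtain ⟨e, he⟩ := exists_label (F := F)
  have h := card_Q (F := F) (fun _ => True) fun _ _ _ _ => trivial
  rw [card_transfer e he (fun _ => True) (fun _ => True) fun _ => Iff.rfl,
    Nat.card_congr (Equiv.subtypeEquivRight (q := fun g : Fin 6 → Fin 4 => g ≠ 0 ∧ Even (Finset.univ.filter fun i => g i ≠ 0).card) fun g => ⟨And.right, fun h => ⟨trivial, h⟩⟩), even_table.1] at h
  omega

theorem orth_vE_iff (v : V) : H v (vE F) = 0 ↔ v 0 = v 1 := by
  obtain ⟨a, b, r, rfl⟩ := mk_surj v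
  rw [vE_H, show mk a b r 0 = a by simp [mk], show mk a b r 1 = b by simp [mk]]
  exact ⟨eq_of_add_eq_zero, fun e => by rw [e, add_self]⟩

theorem card_orth (p : Pt F) : (Q fun v => H v p.1 = 0).ncard = 181 := by
  obtain ⟨e, he⟩ := exists_label (F := F)
  obtain ⟨s, hs⟩ := S0283.exists_map_vec (q := 2) (by norm_num) p.2.1 vE_ne p.2.2 vE_iso
  have h := card_Q (F := F) (fun v => H v (vE F) = 0) fun c v _ hv => by simp [hv]
  rw [card_transfer e he _ (fun g => g 0 = g 1) fun v => (orth_vE_iff v).trans e.injective.eq_iff.symm,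
    even_table.2.1, ← card_move (F := F) s] at h
  simp only [← hs, app_H] at h
  omega

theorem card_orth_two {p r : Pt F} (hne : ∀ c : F, r.1 ≠ c • p.1) (ho : H p.1 r.1 = 0) :
    (Q fun v => H v p.1 = 0 ∧ H v r.1 = 0).ncard = 53 := by
  obtain ⟨e, he⟩ := exists_label (F := F)
  obtain ⟨s, hs, hs'⟩ := orth_std hne ho
  have h := card_Q (F := F) (fun v => H v (vE F) = 0 ∧ H v (mk 0 0 (rE F)) = 0)
    fun c v _ hv => by simp [hv]
  rw [card_transfer e he _ (fun g => g 0 = g 1 ∧ g 2 = g 3) fun v => by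
      rw [orth_vE_iff, e.injective.eq_iff, e.injective.eq_iff]
      refine and_congr_right' ?_
      obtain ⟨a, b, x, rfl⟩ := mk_surj v
      rw [mk_H, show mk a b x 2 = x 0 from rfl, show mk a b x 3 = x 1 from rfl]
      simp [rE, H_eq, Fin.sum_univ_four]
      exact ⟨eq_of_add_eq_zero, fun e => by rw [e, add_self]⟩,
    even_table.2.2.1, ← card_move (F := F) s] at h
  simp only [← hs, ← hs', app_H] at h
  omega

theorem card_nonorth_two {p r : Pt F} (hn : H p.1 r.1 ≠ 0) :
    (Q fun v => H v p.1 = 0 ∧ H v r.1 = 0).ncard = 45 := by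
  obtain ⟨e, he⟩ := exists_label (F := F)
  obtain ⟨w, hw, -, -⟩ := exists_frame (F := F)
  obtain ⟨s, c, hc, hs, hs'⟩ := pair_std hw hn
  have h := card_Q (F := F) (fun v => H v (vE F) = 0 ∧ H v (c • vF w) = 0)
    fun k v _ hv => by
      obtain ⟨h1, h2⟩ := hv
      exact ⟨by rw [H_smul_left, h1, mul_zero], by rw [H_smul_left, h2, mul_zero]⟩
  rw [card_transfer e he _ (fun g => g 0 = 0 ∧ g 1 = 0) fun v => by
      obtain ⟨a, b, x, rfl⟩ := mk_surj v
      show _ ↔ e (mk a b x 0) = 0 ∧ e (mk a b x 1) = 0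
      rw [H_smul_right, mul_eq_zero, or_iff_right ((map_ne_zero σ).2 hc), vF, mk_H, H_zero_right,
        add_zero, vE_H, show mk a b x 0 = a by simp [mk], show mk a b x 1 = b by simp [mk],
        ← he, e.injective.eq_iff, e.injective.eq_iff]
      constructor
      · rintro ⟨h1, h2⟩
        obtain rfl := eq_of_add_eq_zero h1
        have : a = 0 := by
          rw [map_add, map_one] at h2
          linear_combination h2 - a * σ w * two_zero (F := F)
        exact ⟨this, this⟩
      · rintro ⟨rfl, rfl⟩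
        simp,
    even_table.2.2.2, ← card_move (F := F) s] at h
  simp only [← hs, ← hs', app_H] at h
  omega

end Cfsg.Agent.Fischer3Tv
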