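import Cfsg.Agent.Lib.Fischer3Tv.Width

/-!
# Involutions of the unitary group as products of orthogonal transvections
-/

set_option autoImplicit false
set_option linter.unusedSectionVars false
set_option linter.style.haveILetI false

namespace Cfsg.Agent.Fischer3Tv

open AutPSU

variable {F : Type} [Field F] [hQ : QField F 2]
include hQ

local notation "σ" => qb (F := F) 2
local notation "V" => Fin 6 → F
local notation "H" => Cfsg.hermForm 6 F 2

/-- No point lies in the span of the later ones. -/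
def Free : List (Pt F) → Prop
  | [] => True
  | p :: L => p.1 ∉ Submodule.span F {v : V | ∃ r ∈ L, r.1 = v} ∧ Free L

theorem exists_form_one (N : V →ₗ[F] V) (hself : ∀ u v, H (N u) v = H u (N v)) (hN : N ≠ 0) :
    ∃ y, H (N y) y = 1 := by
  have hflip : ∀ u v : V, σ (H (N u) v) = H (N v) u := fun u v => by rw [H_flip, hself v u]
  by_contra! hall'
  have hall : ∀ y, H (N y) y = 0 := fun y =>
    (trace_zero (by rw [hflip y y, add_self])).resolve_right (hall' y)
  obtain ⟨w, hw, -, hw1⟩ := exists_om F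
  refine hN (LinearMap.ext fun u => eq_zero_of_orth' (q := 2) fun v => ?_)
  by_contra huv
  have e := hall (u + σ (w / H (N u) v) • v)
  simp only [map_add, map_smul, H_add_left, H_add_right, H_smul_left, H_smul_right, hall, qb_qb,
    mul_zero, add_zero, zero_add] at e
  rw [← hflip u v, ← map_mul, div_mul_cancel₀ _ huv, sigma_sq] at e
  exact one_ne_zero (show (1 : F) = 0 by linear_combination e - hw - w * two_zero (F := F))

theorem exists_decomp : ∀ (n : ℕ) (N : V →ₗ[F] V), (∀ u v, H (N u) v = H u (N v)) →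
    (∀ v, N (N v) = 0) → Module.finrank F (LinearMap.range N) ≤ n →
    ∃ L : List (Pt F), L.length ≤ n ∧ (∀ p ∈ L, p.1 ∈ LinearMap.range N) ∧ Free L ∧
      ∀ v, S L v = N v := by
  intro n
  induction n with
  | zero =>
    intro N _ _ hr
    refine ⟨[], le_rfl, by simp, trivial, fun v => ?_⟩
    have : LinearMap.range N = ⊥ := Submodule.finrank_eq_zero.1 (Nat.le_zero.1 hr)
    rw [LinearMap.range_eq_bot] at this
    simp [this, S]
  | succ n ih =>
    intro N hself hNN hr
    by_cases hN : N = 0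
    · exact ⟨[], Nat.zero_le _, by simp, trivial, fun v => by simp [hN, S]⟩
    obtain ⟨y, hy⟩ := exists_form_one N hself hN
    have hp0 : N y ≠ 0 := fun e => one_ne_zero (hy.symm.trans (by rw [e, H_zero_left]))
    have hiso : ∀ u v, H (N u) (N v) = 0 := fun u v => by rw [hself, hNN, H_zero_right]
    let p : Pt F := ⟨N y, hp0, hiso y y⟩
    let N' : V →ₗ[F] V := N + (Hl (q := 2) p.1).smulRight p.1
    have hN' : ∀ v, N' v = N v + H v (N y) • N y := fun v => by simp [N', p, Hl_apply]
    have hy' : N' y = 0 := by rw [hN', ← hself, hy, one_smul, vadd_self]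
    have hs' : ∀ u v, H (N' u) v = H u (N' v) := fun u v => by
      rw [hN', hN', H_add_left, H_add_right, H_smul_left, H_smul_right, hself, H_flip]
      ring
    have hNN' : ∀ v, N' (N' v) = 0 := fun v => by
      rw [hN', hN', map_add, map_smul, hNN, hNN, smul_zero, add_zero, zero_add, H_add_left,
        H_smul_left, hiso, hiso, mul_zero, add_zero, zero_smul]
    have hsub : LinearMap.range N' ≤ LinearMap.range N := by
      rintro _ ⟨v, rfl⟩
      rw [hN', show N v + H v (N y) • N y = N (v + H v (N y) • y) by rw [map_add, map_smul]]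
      exact ⟨_, rfl⟩
    have hnot : N y ∉ LinearMap.range N' := by
      rintro ⟨v, hv⟩
      have h1 := hs' v y
      rw [hy', H_zero_right, hv, hy] at h1
      exact one_ne_zero h1
    have hlt := Submodule.finrank_lt_finrank_of_lt (lt_of_le_of_ne hsub fun e => hnot (e ▸ ⟨y, rfl⟩))
    obtain ⟨L, hlen, hmem, hfree, hS⟩ := ih N' hs' hNN' (by omega)
    refine ⟨p :: L, by simpa using hlen, fun r hr => ?_, ⟨fun h => hnot ?_, hfree⟩, fun v => ?_⟩
    · rcases List.mem_cons.1 hr with rfl | hr
      · exact ⟨y, rfl⟩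
      · exact hsub (hmem r hr)
    · refine Submodule.span_le.2 ?_ h
      rintro x ⟨r, hr, rfl⟩
      exact hmem r hr
    · show ((p :: L).map fun x => H v x.1 • x.1).sum = N v
      rw [List.map_cons, List.sum_cons, show (L.map fun x => H v x.1 • x.1).sum = S L v from rfl, hS, hN']
      show H v (N y) • N y + (N v + H v (N y) • N y) = N v
      rw [add_comm (N v), ← add_assoc, vadd_self, zero_add]

/-- An involution is the product of at most three orthogonal transvections. -/
theorem involution_factor {g : Cfsg.PSU 6 F 2} (hg : g * g = 1) :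
    ∃ L : List (Pt F), L.length ≤ 3 ∧ Free L ∧ (∀ p ∈ L, ∀ r ∈ L, H p.1 r.1 = 0) ∧
      (L.map tp).prod = g := by
  obtain ⟨s₀, rfl⟩ := proj_surjective (n := 6) (F := F) (q := 2) g
  rw [← map_mul, proj_eq_one_iff] at hg
  obtain ⟨c₀, hc₀⟩ := scalar_of_mem_center (n := 6) (by norm_num) hg
  obtain ⟨y₀, hy₀, -⟩ := exists_isotropic (F := F) (q := 2) (n := 6) (by norm_num)
  set s := s₀ * (s₀ * s₀) with hs
  have hproj : proj 6 F 2 s = proj 6 F 2 s₀ := by
    rw [hs, map_mul, (proj_eq_one_iff _).2 hg, mul_one]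
  have hc0 : c₀ ≠ 0 := fun e => hy₀ (app_injective (s₀ * s₀) (by rw [hc₀, e, zero_smul, app_zero]))
  have hss : ∀ v : V, app s (app s v) = v := fun v => by
    rw [← app_mul, show s * s = (s₀ * s₀) * (s₀ * s₀) * (s₀ * s₀) by simp only [hs, mul_assoc], app_mul,
      app_mul, hc₀, hc₀, hc₀, smul_smul, smul_smul, cube hc0, one_smul]
  let N : V →ₗ[F] V :=
    { toFun := fun v => app s v + v
      map_add' := fun u v => by rw [app_add]; abel
      map_smul' := fun k v => by rw [app_smul, RingHom.id_apply, smul_add] }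
  have hN : ∀ v, N v = app s v + v := fun v => rfl
  have hNN : ∀ v, N (N v) = 0 := fun v => by
    rw [hN, hN, app_add, hss, add_comm v, vadd_self]
  have hself : ∀ u v : V, H (N u) v = H u (N v) := fun u v => by
    rw [hN, hN, H_add_left, H_add_right]
    conv_lhs => arg 1; rw [← app_H s, hss]
  have hiso : ∀ x ∈ LinearMap.range N, ∀ z ∈ LinearMap.range N, H x z = 0 := by
    rintro _ ⟨u, rfl⟩ _ ⟨v, rfl⟩
    rw [hself, hNN, H_zero_right]
  obtain ⟨L, hlen, hmem, hfree, hS⟩ := exists_decomp 3 N hself hNN (finrank_le_three _ hiso)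
  have horth : ∀ p ∈ L, ∀ r ∈ L, H p.1 r.1 = 0 := fun p hp r hr => hiso _ (hmem p hp) _ (hmem r hr)
  refine ⟨L, hlen, hfree, horth, ?_⟩
  rw [← hproj, show L.map tp = (L.map T).map (proj 6 F 2) by simp [tp, List.map_map, Function.comp_def],
    ← map_list_prod]
  refine congrArg _ (su_ext fun v => ?_)
  show app (L.map T).prod v = app s v
  rw [app_prod horth, hS, hN, add_comm (app s v), ← add_assoc, vadd_self, zero_add]

/-- Three members completing three independent orthogonal points to a hexad. -/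
theorem hexad_gen {a b c : Pt F} (hf : Free [a, b, c]) (ha : H a.1 b.1 = 0) (hb : H a.1 c.1 = 0)
    (hc : H b.1 c.1 = 0) {w k : F} (hw : w * w = w + 1) (hk : k ≠ 0) :
    ∃ x y z : Pt F, x.1 = a.1 + b.1 + k • c.1 ∧ y.1 = a.1 + w • b.1 + ((w + 1) * k) • c.1 ∧
      z.1 = a.1 + (w + 1) • b.1 + (w * k) • c.1 ∧
      (∀ p ∈ [a, b, c, x, y, z], ∀ r ∈ [a, b, c, x, y, z], H p.1 r.1 = 0) ∧
      ([a, b, c, x, y, z].map tp).prod = 1 := by
  have hfa : ∀ i j : F, a.1 + i • b.1 + j • c.1 ≠ 0 := fun i j e => hf.1 (by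
    rw [show a.1 = (-i) • b.1 + (-j) • c.1 by linear_combination (norm := module) e]
    exact add_mem (Submodule.smul_mem _ _ (Submodule.subset_span ⟨b, by simp, rfl⟩))
      (Submodule.smul_mem _ _ (Submodule.subset_span ⟨c, by simp, rfl⟩)))
  have hH : ∀ i j i' j' : F, H (a.1 + i • b.1 + j • c.1) (a.1 + i' • b.1 + j' • c.1) = 0 := fun i j i' j' => by
    simp [a.2.2, b.2.2, c.2.2, ha, hb, hc, H_eq_zero_comm.1 ha, H_eq_zero_comm.1 hb, H_eq_zero_comm.1 hc]
  let P : F → F → Pt F := fun i j => ⟨a.1 + i • b.1 + j • c.1, hfa i j, hH i j i j⟩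
  have hall : ∀ p ∈ [a, b, c, P 1 k, P w ((w + 1) * k), P (w + 1) (w * k)],
      ∃ i j l : F, p.1 = i • a.1 + j • b.1 + l • c.1 := by
    simp only [List.forall_mem_cons, List.forall_mem_nil, imp_false, List.not_mem_nil, false_implies,
      implies_true, and_true]
    exact ⟨⟨1, 0, 0, by simp⟩, ⟨0, 1, 0, by simp⟩, ⟨0, 0, 1, by simp⟩,
      ⟨1, 1, k, by simp [P]⟩, ⟨1, w, (w + 1) * k, by simp [P]⟩, ⟨1, w + 1, w * k, by simp [P]⟩⟩
  have horth : ∀ p ∈ [a, b, c, P 1 k, P w ((w + 1) * k), P (w + 1) (w * k)],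
      ∀ r ∈ [a, b, c, P 1 k, P w ((w + 1) * k), P (w + 1) (w * k)], H p.1 r.1 = 0 := by
    intro p hp r hr
    obtain ⟨i, j, l, e⟩ := hall p hp
    obtain ⟨i', j', l', e'⟩ := hall r hr
    simp [e, e', a.2.2, b.2.2, c.2.2, ha, hb, hc, H_eq_zero_comm.1 ha, H_eq_zero_comm.1 hb,
      H_eq_zero_comm.1 hc]
  refine ⟨P 1 k, P w ((w + 1) * k), P (w + 1) (w * k), by simp [P], rfl, rfl, horth, ?_⟩
  refine (prod_tp_iff horth).2 fun v => ?_
  have hv : ∀ i j : F, (P i j).1 = a.1 + i • b.1 + j • c.1 := fun i j => rfl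
  simp only [S, List.map_cons, List.map_nil, List.sum_cons, List.sum_nil, hv, H_add_right,
    H_smul_right, sigma_sq]
  have := cube hk
  match_scalars <;> grind [two_zero (F := F)]

end Cfsg.Agent.Fischer3Tv
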