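import Mathlib.GroupTheory.OrderOfElement
import Mathlib.GroupTheory.Subgroup.Center
import Mathlib.Algebra.Group.Commutator
import Mathlib.Algebra.BigOperators.Group.List.Lemmas
import Mathlib.Data.Nat.Choose.Basic
import Mathlib.Tactic.Group

/-!
# Lifting commuting involutions through a central extension of order two
-/

set_option autoImplicit false

namespace Cfsg.Agent.DoubleLift

open scoped commutatorElement

universe u v

variable {C : Type u} [Group C]

/-- The square of a product of elements with equal central squares and equal central commutators. -/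
theorem list_sq {s k : C} (hs : ∀ x : C, Commute s x) (hk : ∀ x : C, Commute k x) :
    ∀ L : List C, (∀ x ∈ L, x * x = s) → L.Pairwise (fun x y => y * x = k * (x * y)) →
      L.prod * L.prod = k ^ L.length.choose 2 * s ^ L.length
  | [], _, _ => by simp
  | a :: L, h1, h2 => by
    obtain ⟨ha, hL⟩ := List.pairwise_cons.1 h2
    have move : ∀ M : List C, (∀ y ∈ M, y * a = k * (a * y)) →
        M.prod * a = k ^ M.length * (a * M.prod) := by
      intro M
      induction M with
      | nil => simp
      | cons b M ih =>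
        intro hM
        rw [List.prod_cons, List.length_cons, mul_assoc, ih fun y hy => hM y (by simp [hy]),
          ← mul_assoc b, ← ((hk b).pow_left M.length).eq, mul_assoc, ← mul_assoc b a,
          hM b (by simp), pow_succ]
        simp only [mul_assoc]
    have key : (a :: L).prod * (a :: L).prod = k ^ L.length * (a * a) * (L.prod * L.prod) := by
      rw [List.prod_cons, mul_assoc a L.prod, ← mul_assoc L.prod a, move L ha, ← mul_assoc,
        ← mul_assoc, ← ((hk a).pow_left L.length).eq]
      simp only [mul_assoc]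
    rw [key, h1 a (by simp), list_sq hs hk L (fun x hx => h1 x (by simp [hx])) hL,
      List.length_cons, Nat.choose_succ_succ', Nat.choose_one_right, pow_add, pow_succ' s,
      mul_assoc, mul_assoc, ← mul_assoc s, (hs (k ^ _)).eq]
    simp only [mul_assoc]

variable {X : Type v} [Group X] (θ : C →* X) (z : C)
variable (hz : ∀ x : C, Commute z x) (hzz : z * z = 1) (hker : ∀ x : C, θ x = 1 → x = 1 ∨ x = z)

include hker in
theorem eq_or {a b : C} (h : θ a = θ b) : b = a ∨ b = a * z := by
  refine (hker (a⁻¹ * b) (by rw [map_mul, map_inv, h, inv_mul_cancel])).imp (fun e => ?_) fun e => ?_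
  · exact (inv_mul_eq_one.1 e).symm
  · rw [← e, mul_inv_cancel_left]

include hz hzz hker in
theorem sq_congr {a b : C} (h : θ a = θ b) : b * b = a * a := by
  rcases eq_or θ z hker h with rfl | rfl
  · rfl
  · rw [mul_assoc, ← mul_assoc z, (hz a).eq, mul_assoc, hzz, mul_one]

include hz hker in
theorem ker_central {x : C} (h : θ x = 1) (y : C) : Commute x y :=
  (hker x h).elim (fun e => e ▸ Commute.one_left y) fun e => e ▸ hz y

include hzz hker in
theorem ker_sq {x : C} (h : θ x = 1) : x * x = 1 :=
  (hker x h).elim (fun e => by rw [e, one_mul]) fun e => e ▸ hzz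

include hz hker in
theorem comm_congr {a a' b b' : C} (ha : θ a = θ a') (hb : θ b = θ b') :
    ⁅a', b'⁆ = ⁅a, b⁆ := by
  have pull : ∀ x y : C, ⁅x * z, y⁆ = ⁅x, y⁆ := fun x y => by
    rw [commutatorElement_def, commutatorElement_def, mul_inv_rev, mul_assoc x z, (hz y).eq]
    group
  have pull' : ∀ x y : C, ⁅x, y * z⁆ = ⁅x, y⁆ := fun x y => by
    rw [← commutatorElement_inv, pull, commutatorElement_inv]
  rcases eq_or θ z hker ha with rfl | rfl <;> rcases eq_or θ z hker hb with rfl | rfl <;>
    simp only [pull, pull']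

include hz hzz hker in
/-- The lifts of products of commuting members of a set of involutions are involutions. -/
theorem lifts_square_one (hsurj : Function.Surjective θ) (T : Set X) (hT2 : ∀ x ∈ T, x * x = 1)
    (hconj : ∀ a ∈ T, ∀ b ∈ T, ∃ u : X, u * a * u⁻¹ = b)
    (hpair : ∀ a ∈ T, ∀ b ∈ T, ∀ a' ∈ T, ∀ b' ∈ T, a ≠ b → Commute a b → a' ≠ b' → Commute a' b' →
      ∃ u : X, u * a * u⁻¹ = a' ∧ u * b * u⁻¹ = b')
    {six : List X} (h6 : six.length = 6) (h6n : six.Nodup) (h6T : ∀ x ∈ six, x ∈ T)
    (h6c : ∀ x ∈ six, ∀ y ∈ six, Commute x y) (h6p : six.prod = 1)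
    {odd : List X} (ho : Odd odd.length) (hoT : ∀ x ∈ odd, x ∈ T)
    (hoc : ∀ x ∈ odd, ∀ y ∈ odd, Commute x y) (hop : odd.prod = 1)
    {L : List X} (hLT : ∀ x ∈ L, x ∈ T) (hLc : ∀ x ∈ L, ∀ y ∈ L, Commute x y) :
    ∀ y : C, θ y = L.prod → y * y = 1 := by
  classical
  obtain ⟨f, hf⟩ : ∃ f : X → C, ∀ x, θ (f x) = x := hsurj.hasRightInverse
  -- uniform square
  obtain ⟨s, hs⟩ : ∃ s : C, ∀ x ∈ T, f x * f x = s := by
    obtain ⟨a, ha⟩ := List.exists_mem_of_length_pos (l := six) (by omega)
    refine ⟨f a * f a, fun b hb => ?_⟩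
    obtain ⟨u, rfl⟩ := hconj a (h6T a ha) b hb
    have h1 : θ (f a * f a) = 1 := by rw [map_mul, hf, hT2 a (h6T a ha)]
    rw [sq_congr θ z hz hzz hker (a := f u * f a * (f u)⁻¹) (by simp [hf]),
      show f u * f a * (f u)⁻¹ * (f u * f a * (f u)⁻¹) = f u * (f a * f a) * (f u)⁻¹ by group,
      ← (ker_central θ z hz hker h1 (f u)).eq, mul_inv_cancel_right]
  -- uniform commutator
  obtain ⟨a, b, l, rfl⟩ : ∃ a b l, six = a :: b :: l := by
    rcases six with _ | ⟨a, _ | ⟨b, l⟩⟩ <;> simp_all
  have hab : a ≠ b := fun e => (List.nodup_cons.1 h6n).1 (by simp [e])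
  have haT := h6T a (by simp)
  have hbT := h6T b (by simp)
  have hcab := h6c a (by simp) b (by simp)
  set k : C := ⁅f b, f a⁆ with hk_def
  have kfix : ∀ {x y : X}, Commute x y → θ ⁅f x, f y⁆ = 1 := fun {x y} h => by
    rw [commutatorElement_def, map_mul, map_mul, map_mul, map_inv, map_inv, hf, hf, h.eq,
      mul_inv_cancel_right, mul_inv_cancel]
  have hk : ∀ x ∈ T, ∀ y ∈ T, x ≠ y → Commute x y → ⁅f y, f x⁆ = k := by
    intro x hx y hy hne hc
    obtain ⟨u, rfl, rfl⟩ := hpair a haT b hbT x hx y hy hab hcab hne hc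
    rw [comm_congr θ z hz hker (a := f u * f b * (f u)⁻¹) (b := f u * f a * (f u)⁻¹) (by simp [hf])
      (by simp [hf]), ← conjugate_commutatorElement, ← (ker_central θ z hz hker (kfix hcab.symm) (f u)).eq,
      mul_inv_cancel_right]
  have hk1 : θ k = 1 := kfix hcab.symm
  have hs1 : θ s = 1 := by rw [← hs a haT, map_mul, hf, hT2 a haT]
  have csq : ∀ {x : C}, θ x = 1 → x * x = 1 := fun h => ker_sq θ z hzz hker h
  have hkc := ker_central θ z hz hker hk1
  have hsc := ker_central θ z hz hker hs1
  -- the relations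
  have rel : ∀ M : List X, (∀ x ∈ M, x ∈ T) → (∀ x ∈ M, ∀ y ∈ M, Commute x y) →
      (M.Nodup ∨ k = 1) → ∀ y : C, θ y = M.prod → y * y = k ^ M.length.choose 2 * s ^ M.length := by
    intro M hMT hMc hnd y hy
    rw [sq_congr θ z hz hzz hker (a := (M.map f).prod) (by
      rw [hy, map_list_prod, List.map_map, show θ ∘ f = id from funext hf, List.map_id]),
      list_sq hsc hkc (M.map f) (fun x hx => by
        obtain ⟨x', hx', rfl⟩ := List.mem_map.1 hx
        exact hs x' (hMT x' hx')) ?_, List.length_map]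
    rw [List.pairwise_map]
    rcases hnd with hnd | hk0
    · refine hnd.imp_of_mem fun {x y} hx hy hne => ?_
      rw [← hk x (hMT x hx) y (hMT y hy) hne (hMc x hx y hy), commutatorElement_def]
      group
    · refine List.pairwise_of_forall_mem_list fun x hx y hy => ?_
      rw [hk0, one_mul]
      rcases eq_or_ne x y with rfl | hne
      · rfl
      · have h := hk x (hMT x hx) y (hMT y hy) hne (hMc x hx y hy)
        rw [hk0, commutatorElement_eq_one_iff_mul_comm] at h
        exact h
  have k1 : k = 1 := by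
    have h := rel _ h6T h6c (Or.inl h6n) 1 (by rw [map_one, h6p])
    have ks : k * k = 1 := csq hk1
    have ss : s * s = 1 := csq hs1
    rw [one_mul, h6, show (6 : ℕ).choose 2 = 2 * 7 + 1 by decide, pow_succ k, pow_mul, pow_two k, ks,
      one_pow, one_mul, show (6 : ℕ) = 2 * 3 by norm_num, pow_mul, pow_two s, ss, one_pow, mul_one] at h
    exact h.symm
  have s1 : s = 1 := by
    have h := rel _ hoT hoc (Or.inr k1) 1 (by rw [map_one, hop])
    obtain ⟨n, hn⟩ := ho
    rw [one_mul, k1, one_pow, one_mul, hn, pow_succ, pow_mul, pow_two s, csq hs1, one_pow,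
      one_mul] at h
    exact h.symm
  intro y hy
  rw [rel L hLT hLc (Or.inr k1) y hy, k1, s1, one_pow, one_pow, one_mul]

include hzz hker in
/-- Lifting every involution, and the generator of the kernel is no square. -/
theorem conclude (hsurj : Function.Surjective θ) (hz1 : z ≠ 1) (hθz : θ z = 1)
    (h : ∀ x : X, orderOf x = 2 → ∀ y : C, θ y = x → y * y = 1) :
    (∀ x : X, orderOf x = 2 → ∃ y : C, orderOf y = 2 ∧ θ y = x) ∧ ∀ g : C, g * g ≠ z := by
  refine ⟨fun x hx => ?_, fun g hg => ?_⟩
  · obtain ⟨y, rfl⟩ := hsurj x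
    refine ⟨y, orderOf_eq_prime (by rw [pow_two]; exact h _ hx y rfl) fun e => ?_, rfl⟩
    rw [e, map_one, orderOf_one] at hx
    exact absurd hx (by norm_num)
  · refine hz1 ?_
    rw [← hg]
    by_cases hg1 : θ g = 1
    · exact ker_sq θ z hzz hker hg1
    · exact h (θ g) (orderOf_eq_prime (by rw [pow_two, ← map_mul, hg, hθz]) hg1) g rfl

end Cfsg.Agent.DoubleLift
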