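import Cfsg.Agent.Lib.Fischer3Tv.Mu
import Cfsg.Agent.S0280

/-!
# The order of a group of type M22
-/

set_option autoImplicit false
set_option linter.unusedSectionVars false
set_option linter.style.haveILetI false

namespace Cfsg.Agent.Fischer3Tv

open Cfsg ClassK Fischer3 Fischer3Rel AutPSU Fischer3Srg

universe u

theorem card_psu {F : Type} [Field F] [QField F 2] : Nat.card (Cfsg.PSU 6 F 2) = 9196830720 := by
  haveI := finite_field (F := F) (q := 2)
  haveI := Fintype.ofFinite F
  have h := S0280.result (F := F) (q := 2) (by rw [← Nat.card_eq_fintype_card, card_four]; norm_num) 6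
    (by norm_num)
  norm_num [Finset.prod_range_succ, Nat.even_iff] at h
  omega

variable {G : Type u} [Group G] [Finite G] {D : Set G}

theorem Chart.hom_surjective {d : G} {F : Type} [Field F] [QField F 2] (C : Chart D d F)
    (hS : IsThreeTranspositionSet D) : Function.Surjective (C.hom hS) := by
  rw [← MonoidHom.range_eq_top, eq_top_iff]
  haveI : Finite F := finite_field (F := F) (q := 2)
  intro g _
  have hgen : (⊤ : Subgroup (Cfsg.PSU 6 F 2)) ≤ Subgroup.closure (Q fun _ => True) := by
    intro g _
    obtain ⟨s, rfl⟩ := proj_surjective (n := 6) (F := F) (q := 2) g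
    have hs := Subgroup.mem_top s
    rw [← S0283.closure_tr (n := 6) (F := F) (q := 2) card_four (by norm_num)] at hs
    refine (Subgroup.closure_le ((Subgroup.closure (Q fun _ => True)).comap (proj 6 F 2))).2 ?_ hs
    rintro _ ⟨x, t, h, hx, rfl⟩
    rcases trace_zero h.2 with rfl | rfl
    · rw [tr_zero]; exact one_mem _
    · exact Subgroup.subset_closure ⟨⟨x, hx, h.1⟩, trivial, rfl⟩
  refine (Subgroup.closure_le _).2 ?_ (hgen (Subgroup.mem_top g))
  rintro _ ⟨p, -, rfl⟩
  obtain ⟨m, hm⟩ := C.surj p
  exact ⟨_, (C.hom_mem hS m).trans hm⟩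

theorem card_perp_group (hG : IsThreeTranspositionGroup D) (hprim : IsPrimitiveUnderConj D)
    (hM : IsOfTypeM22 G D) {d : G} (hd : d ∈ D) : Nat.card ↥(H D d) = 18393661440 := by
  obtain ⟨F, _, _, ⟨C⟩⟩ := exists_chart hG hprim hM hd
  rw [card_H hG.1 (below_base hG hprim hM) hd,
    show Subgroup.center ↥(H D d) = (C.hom hG.1).ker by
      ext x
      rw [MonoidHom.mem_ker, C.hom_eq_one]
      exact ⟨fun h y hy => commute_of_mem_center h hy, mem_center_closure x⟩]
  have hsurj := C.hom_surjective hG.1
  rw [Nat.card_congr (QuotientGroup.quotientKerEquivOfSurjective _ hsurj).toEquiv, card_psu]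

theorem card_group (hG : IsThreeTranspositionGroup D) (hprim : IsPrimitiveUnderConj D)
    (hM : IsOfTypeM22 G D) : D.ncard = 3510 ∧ Nat.card G = 64561751654400 := by
  have hS := srg hG hprim hM
  obtain ⟨d, hd, -⟩ := hprim.2.1
  refine ⟨hS.card, ?_⟩
  rw [card_G (class_of_primitive hG hprim) hd, hS.card, hS.cent d hd, card_perp_group hG hprim hM hd]

end Cfsg.Agent.Fischer3Tv
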