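import Cfsg.Agent.Lib.Fischer3Tv.Facts

/-!
# Factorisations into two and three commuting members in the groups of type M22
-/

set_option autoImplicit false
set_option linter.unusedSectionVars false

namespace Cfsg.Agent.Fischer3Tv

open Cfsg ClassK Fischer3 Fischer3Rel

universe u

variable {G : Type u} [Group G] [Finite G] {D : Set G}

/-- A factorisation of `j` into `n` distinct commuting members. -/
def IsFac (D : Set G) (n : ℕ) (j : G) (l : List G) : Prop :=
  l.Nodup ∧ l.length = n ∧ (∀ a ∈ l, a ∈ D) ∧ (∀ a ∈ l, ∀ b ∈ l, Commute a b) ∧ l.prod = j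

/-- The members of two factorisations of the same element commute. -/
theorem fac_comm (hS : IsThreeTranspositionSet D) {n : ℕ} (hn : n ≤ 3) {j : G} {l l' : List G}
    (h : IsFac D n j l) (h' : IsFac D n j l') :
    ∀ a ∈ l ++ l', ∀ b ∈ l ++ l', Commute a b := by
  have key : ∀ a ∈ l, ∀ b ∈ l', Commute a b := fun a ha b hb => by
    refine commute_each hS h'.1 (h'.2.1.trans_le hn) h'.2.2.1 h'.2.2.2.1 (h.2.2.1 a ha) ?_ b hb
    rw [h'.2.2.2.2, ← h.2.2.2.2]
    exact Commute.list_prod_right l a fun z hz => h.2.2.2.1 a ha z hz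
  intro a ha b hb
  rcases List.mem_append.1 ha with ha | ha <;> rcases List.mem_append.1 hb with hb | hb
  exacts [h.2.2.2.1 a ha b hb, key a ha b hb, (key b hb a ha).symm, h'.2.2.2.1 a ha b hb]

variable (hG : IsThreeTranspositionGroup D) (hprim : IsPrimitiveUnderConj D) (hM : IsOfTypeM22 G D)
include hG hprim hM

/-- A product of two commuting members determines them. -/
theorem pair_unique {j : G} {l l' : List G} (h : IsFac D 2 j l) (h' : IsFac D 2 j l') :
    ∀ x : G, x ∈ l ↔ x ∈ l' := by
  have hcm := fac_comm hG.1 (by norm_num) h h'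
  obtain ⟨a, b, rfl⟩ := List.length_eq_two.1 h.2.1
  obtain ⟨c, e, rfl⟩ := List.length_eq_two.1 h'.2.1
  have hS := hG.1
  have ha := h.2.2.1 a (by simp); have hb := h.2.2.1 b (by simp)
  have hc := h'.2.2.1 c (by simp); have he := h'.2.2.1 e (by simp)
  have hp : a * b = c * e := by
    have h1 := h.2.2.2.2.trans h'.2.2.2.2.symm
    simpa using h1
  have hab : Commute a b := h.2.2.2.1 a (by simp) b (by simp)
  have hce : Commute c e := h'.2.2.2.1 c (by simp) e (by simp)
  by_cases h1 : a = c
  · obtain rfl : b = e := mul_left_cancel (h1 ▸ hp)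
    subst h1
    exact fun x => Iff.rfl
  by_cases h2 : a = e
  · obtain rfl : b = c := mul_left_cancel (by rw [hp, hce.eq, h2])
    subst h2
    intro x; simp [or_comm]
  exfalso
  have h3 : b ≠ c := fun q => h2 (mul_right_cancel (b := b) (by rw [hp, q, hce.eq]))
  have h4 : b ≠ e := fun q => h1 (mul_right_cancel (b := b) (by rw [hp, q]))
  obtain ⟨x, hx, y, hy, hxy, hV⟩ := relV_of_four hS
    (L := [a, b, c, e]) ⟨by
      have e1 := h.1; have e2 := h'.1
      simp_all, fun x hx => by
        simp only [List.mem_cons, List.not_mem_nil, or_false] at hx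
        rcases hx with rfl | rfl | rfl | rfl <;> assumption,
      fun x hx y hy => hcm x (by simpa using hx) y (by simpa using hy), by
        simp only [List.prod_cons, List.prod_nil, mul_one]
        rw [← mul_assoc, hp, ← sq, hce.mul_pow, sq, sq, tt_mul_self hS hc, tt_mul_self hS he, one_mul]⟩ rfl
  exact m22_relV hG hM hx hy hxy hV

/-- A product of three commuting members has exactly one further factorisation. -/
theorem two_triples {j : G} {l : List G} (h : IsFac D 3 j l) :
    ∃ m : List G, IsFac D 3 j m ∧ (∀ x ∈ m, x ∉ l) ∧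
      ∀ l' : List G, IsFac D 3 j l' → (∀ x : G, x ∈ l' ↔ x ∈ l) ∨ (∀ x : G, x ∈ l' ↔ x ∈ m) := by
  classical
  have hS := hG.1
  obtain ⟨a, b, c, rfl⟩ := List.length_eq_three.1 h.2.1
  obtain ⟨hn, -, hmem, hcm, hp⟩ := h
  simp only [List.nodup_cons, List.mem_cons, List.not_mem_nil, or_false, not_or, List.nodup_nil,
    not_false_eq_true, and_true] at hn
  obtain ⟨⟨hab, hac⟩, hbc⟩ := hn
  have ha := hmem a (by simp); have hb := hmem b (by simp); have hc := hmem c (by simp)
  have hba : b ∈ perp D a := ⟨hb, Ne.symm hab, hcm a (by simp) b (by simp)⟩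
  have hca : c ∈ perp D a := ⟨hc, Ne.symm hac, hcm a (by simp) c (by simp)⟩
  obtain ⟨p, q, r, hnd, hper, hcom, hprod, huniq⟩ :=
    line hG hprim hM ha hba hca hbc (hcm b (by simp) c (by simp))
  simp only [List.prod_cons, List.prod_nil, mul_one] at hp
  have hjj : ∀ s t v : G, [b, c, s, t, v].prod = a → s * (t * v) = j := fun s t v e => by
    simp only [List.prod_cons, List.prod_nil, mul_one] at e
    have hcb : c * b = b * c := (hcm c (by simp) b (by simp)).eq
    calc s * (t * v) = c * (b * (b * (c * (s * (t * v))))) := by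
          simp only [← mul_assoc, tt_mul_self hS hc, tt_mul_self hS hb, one_mul]
      _ = c * (b * a) := by rw [e]
      _ = a * (b * c) := by
        rw [← mul_assoc, hcb, (hba.2.2.mul_right hca.2.2).eq]
      _ = j := hp
  have hnd' := hnd
  simp only [List.nodup_cons, List.mem_cons, List.not_mem_nil, or_false, not_or, List.nodup_nil,
    not_false_eq_true, and_true] at hnd'
  obtain ⟨⟨-, hbp, hbq, hbr⟩, ⟨hcp, hcq, hcr⟩, ⟨hpq, hpr⟩, hqr⟩ := hnd'
  refine ⟨[p, q, r], ⟨by simp [hpq, hpr, hqr], rfl, ?_, ?_, ?_⟩, ?_, ?_⟩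
  · intro x hx
    exact (hper x (List.mem_cons_of_mem _ (List.mem_cons_of_mem _ hx))).1
  · intro x hx y hy
    exact hcom x (List.mem_cons_of_mem _ (List.mem_cons_of_mem _ hx))
      y (List.mem_cons_of_mem _ (List.mem_cons_of_mem _ hy))
  · simpa using hjj p q r hprod
  · intro x hx hx'
    have hxa : x ≠ a := (hper x (List.mem_cons_of_mem _ (List.mem_cons_of_mem _ hx))).2.1
    simp only [List.mem_cons, List.not_mem_nil, or_false] at hx hx'
    rcases hx with rfl | rfl | rfl <;> rcases hx' with e | e | e <;> simp_all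
  intro l' h'
  have hl : IsFac D 3 j [a, b, c] := ⟨by simp [hab, hac, hbc], rfl, hmem, hcm, by simpa using hp⟩
  have hall := fac_comm hS le_rfl hl h'
  by_cases hx : ∃ x ∈ [a, b, c], x ∈ l'
  · refine Or.inl ?_
    obtain ⟨x, hx1, hx2⟩ := hx
    have er : ∀ l : List G, IsFac D 3 j l → x ∈ l → IsFac D 2 (x * j) (l.erase x) := by
      intro l hl hxl
      refine ⟨hl.1.erase x, by rw [List.length_erase_of_mem hxl, hl.2.1], fun y hy =>
        hl.2.2.1 y (List.mem_of_mem_erase hy), fun y hy z hz =>
        hl.2.2.2.1 y (List.mem_of_mem_erase hy) z (List.mem_of_mem_erase hz), ?_⟩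
      rw [← hl.2.2.2.2, (List.perm_cons_erase hxl).prod_eq' (List.pairwise_of_forall_mem_list
        hl.2.2.2.1), List.prod_cons, ← mul_assoc, tt_mul_self hS (hl.2.2.1 x hxl), one_mul]
    have := pair_unique hG hprim hM (er _ h' hx2) (er _ hl hx1)
    intro y
    rcases eq_or_ne y x with rfl | hyx
    · exact ⟨fun _ => hx1, fun _ => hx2⟩
    · have := this y
      rwa [List.mem_erase_of_ne hyx, List.mem_erase_of_ne hyx] at this
  push Not at hx
  refine Or.inr ?_
  obtain ⟨s, t, v, rfl⟩ := List.length_eq_three.1 h'.2.1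
  obtain ⟨hn', -, hmem', -, hp'⟩ := h'
  simp only [List.prod_cons, List.prod_nil, mul_one] at hp'
  have hxn : ∀ x ∈ [s, t, v], x ∈ perp D a ∧ x ≠ b ∧ x ≠ c := fun x hx' =>
    ⟨⟨hmem' x hx', fun e => hx a (by simp) (e ▸ hx'),
      hall a (by simp) x (List.mem_append_right _ hx')⟩,
      fun e => hx b (by simp) (e ▸ hx'), fun e => hx c (by simp) (e ▸ hx')⟩
  have five : ∀ x y z : G, x ∈ [s, t, v] → y ∈ [s, t, v] → z ∈ [s, t, v] →
      [x, y, z].Nodup → x * (y * z) = j → x = p ∨ x = q ∨ x = r := by
    intro x y z hx' hy' hz' hd hpx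
    refine huniq x y z (hxn x hx').1 (hxn y hy').1 (hxn z hz').1 ?_ ?_ ?_
    · simp only [List.nodup_cons, List.mem_cons, List.not_mem_nil, or_false, not_or] at hd ⊢
      exact ⟨⟨hbc, Ne.symm (hxn x hx').2.1, Ne.symm (hxn y hy').2.1, Ne.symm (hxn z hz').2.1⟩,
        ⟨Ne.symm (hxn x hx').2.2, Ne.symm (hxn y hy').2.2, Ne.symm (hxn z hz').2.2⟩, hd⟩
    · have hsub : ∀ w ∈ [b, c, x, y, z], w ∈ [a, b, c] ++ [s, t, v] := by
        intro w hw
        simp only [List.mem_cons, List.not_mem_nil, or_false] at hw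
        rcases hw with rfl | rfl | rfl | rfl | rfl
        exacts [by simp, by simp, List.mem_append_right _ hx', List.mem_append_right _ hy',
          List.mem_append_right _ hz']
      exact fun w hw w' hw' => hall w (hsub w hw) w' (hsub w' hw')
    · simp only [List.prod_cons, List.prod_nil, mul_one]
      rw [hpx, ← hp, (hba.2.2.mul_right hca.2.2).eq]
      simp only [← mul_assoc]
      rw [show b * c * b = c by
        rw [← (hcm c (by simp) b (by simp)).eq, mul_assoc, tt_mul_self hS hb, mul_one],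
        tt_mul_self hS hc, one_mul]
  simp only [List.nodup_cons, List.mem_cons, List.not_mem_nil, or_false, not_or, List.nodup_nil,
    not_false_eq_true, and_true] at hn'
  obtain ⟨⟨hst, hsv⟩, htv⟩ := hn'
  have cc : ∀ x ∈ [s, t, v], ∀ y ∈ [s, t, v], Commute x y := fun x hx' y hy' =>
    hall x (List.mem_append_right _ hx') y (List.mem_append_right _ hy')
  have e1 := five s t v (by simp) (by simp) (by simp) (by simp [hst, hsv, htv]) hp'
  have e2 := five t s v (by simp) (by simp) (by simp) (by simp [Ne.symm hst, hsv, htv])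
    (by rw [← mul_assoc, (cc t (by simp) s (by simp)).eq, mul_assoc]; exact hp')
  have e3 := five v s t (by simp) (by simp) (by simp) (by simp [Ne.symm hsv, Ne.symm htv, hst])
    (by rw [((cc v (by simp) s (by simp)).mul_right (cc v (by simp) t (by simp))).eq, mul_assoc]
        exact hp')
  have hsub : [s, t, v] ⊆ [p, q, r] := by
    intro x hx'
    simp only [List.mem_cons, List.not_mem_nil, or_false] at hx' ⊢
    rcases hx' with rfl | rfl | rfl <;> assumption
  have hperm : List.Perm [s, t, v] [p, q, r] :=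
    ((List.subperm_of_subset (by simp [hst, hsv, htv]) hsub).perm_of_length_le le_rfl)
  exact fun x => hperm.mem_iff

end Cfsg.Agent.Fischer3Tv
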