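import Cfsg.Agent.Lib.Fischer3Tv.Order
import Cfsg.Agent.Lib.Fischer3Tv.Triples
import Cfsg.Agent.Lib.Fischer3Srg.Trans

/-!
# The class of a product of three commuting members
-/

set_option autoImplicit false
set_option linter.unusedSectionVars false
set_option linter.style.haveILetI false

namespace Cfsg.Agent.Fischer3Tv

open Cfsg ClassK Fischer3 Fischer3Rel Fischer3Srg

universe u

variable {G : Type u} [Group G] [Finite G] {D : Set G}

theorem isFac_three {a b c : G} (ha : a ∈ D) (hb : b ∈ perp D a) (hc : c ∈ perp D a ∩ perp D b) :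
    IsFac D 3 (a * b * c) [a, b, c] := by
  refine ⟨?_, rfl, ?_, ?_, by simp [mul_assoc]⟩
  · simp [hb.2.1.symm, hc.1.2.1.symm, hc.2.2.1.symm]
  · simp [ha, hb.1, hc.1.1]
  · simp [hb.2.2, hb.2.2.symm, hc.1.2.2, hc.1.2.2.symm, hc.2.2.2, hc.2.2.2.symm]

theorem three_of_isFac {j : G} {l : List G} (h : IsFac D 3 j l) :
    ∃ a b c : G, l = [a, b, c] ∧ a ∈ D ∧ b ∈ perp D a ∧ c ∈ perp D a ∩ perp D b ∧ a * b * c = j := by
  obtain ⟨hn, hlen, hmem, hcm, hp⟩ := h
  obtain ⟨a, b, c, rfl⟩ := List.length_eq_three.1 hlen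
  simp only [List.nodup_cons, List.mem_cons, List.not_mem_nil, or_false, not_or] at hn
  refine ⟨a, b, c, rfl, hmem a (by simp), ⟨hmem b (by simp), Ne.symm hn.1.1, hcm a (by simp) b (by simp)⟩,
    ⟨⟨hmem c (by simp), Ne.symm hn.1.2, hcm a (by simp) c (by simp)⟩,
      hmem c (by simp), Ne.symm hn.2.1, hcm b (by simp) c (by simp)⟩, ?_⟩
  rw [← hp]; simp [mul_assoc]

variable (hG : IsThreeTranspositionGroup D) (hprim : IsPrimitiveUnderConj D) (hM : IsOfTypeM22 G D)
include hG hprim hM

theorem class_triple {a b c : G} (ha : a ∈ D) (hb : b ∈ perp D a) (hc : c ∈ perp D a ∩ perp D b) :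
    (conjugatesOf (a * b * c)).ncard = 36486450 := by
  classical
  have := Fintype.ofFinite G
  have hC := class_of_primitive hG hprim
  have hL := (below_base hG hprim hM).loc
  have hS := srg hG hprim hM
  set T : Finset (Σ _ : G, Σ _ : G, G) := D.toFinset.sigma fun x =>
    (perp D x).toFinset.sigma fun y => (perp D x ∩ perp D y).toFinset
  have hTmem : ∀ t : Σ _ : G, Σ _ : G, G, t ∈ T ↔
      t.1 ∈ D ∧ t.2.1 ∈ perp D t.1 ∧ t.2.2 ∈ perp D t.1 ∩ perp D t.2.1 := fun t => by
    simp only [T, Finset.mem_sigma, Set.mem_toFinset]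
  have hcard : T.card = 3510 * (693 * 180) := by
    have hc' : ∀ (s : Set G) [Fintype s], s.toFinset.card = s.ncard := fun s _ =>
      (Set.ncard_eq_toFinset_card' s).symm
    rw [Finset.card_sigma, Finset.sum_const_nat (m := 693 * 180), hc', hS.card]
    intro x hx
    rw [Finset.card_sigma, Finset.sum_const_nat (m := 180), hc', hL.size x (Set.mem_toFinset.1 hx)]
    intro y hy
    rw [hc', hL.pair x (Set.mem_toFinset.1 hx) y (Set.mem_toFinset.1 hy)]
  set f : (Σ _ : G, Σ _ : G, G) → G := fun t => t.1 * t.2.1 * t.2.2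
  have himg : T.image f = (conjugatesOf (a * b * c)).toFinset := by
    ext x
    rw [Set.mem_toFinset, show x ∈ conjugatesOf (a * b * c) ↔ IsConj (a * b * c) x from Iff.rfl, isConj_iff]
    simp only [Finset.mem_image, hTmem]
    constructor
    · rintro ⟨t, ⟨h1, h2, h3⟩, rfl⟩
      obtain ⟨g, e1, e2, e3⟩ := triple_trans hC hL (by norm_num) (by norm_num) ha hb hc h1 h2 h3
      exact ⟨g, by simp only [f, ← e1, ← e2, ← e3]; group⟩
    · rintro ⟨g, rfl⟩
      exact ⟨⟨g * a * g⁻¹, g * b * g⁻¹, g * c * g⁻¹⟩, ⟨hG.2.1 g a ha, perp_conj hG g hb,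
        perp_conj hG g hc.1, perp_conj hG g hc.2⟩, by simp only [f]; group⟩
  have hfib : ∀ x ∈ T.image f, (T.filter fun t => f t = x).card = 12 := by
    intro x hx
    obtain ⟨t, ht, rfl⟩ := Finset.mem_image.1 hx
    obtain ⟨h1, h2, h3⟩ := (hTmem t).1 ht
    have hl := isFac_three h1 h2 h3
    obtain ⟨m, hm, hdis, huniq⟩ := two_triples hG hprim hM hl
    set l := [t.1, t.2.1, t.2.2]
    have hnd : (l.permutations ++ m.permutations).Nodup := by
      refine List.Nodup.append (List.nodup_permutations _ hl.1) (List.nodup_permutations _ hm.1) ?_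
      intro z hz hz'
      have p1 := List.mem_permutations.1 hz
      have p2 := List.mem_permutations.1 hz'
      obtain ⟨y, hy⟩ : ∃ y, y ∈ m := List.exists_mem_of_length_pos (by rw [hm.2.1]; norm_num)
      exact hdis y hy (p1.subset (p2.symm.subset hy))
    have e12 : (l.permutations ++ m.permutations).toFinset.card = 12 := by
      rw [List.toFinset_card_of_nodup hnd, List.length_append, List.length_permutations,
        List.length_permutations, hl.2.1, hm.2.1]
      rfl
    rw [← e12]
    refine Finset.card_bij (fun s _ => [s.1, s.2.1, s.2.2]) ?_ ?_ ?_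
    · intro s hs
      obtain ⟨hsT, hsf⟩ := Finset.mem_filter.1 hs
      obtain ⟨s1, s2, s3⟩ := (hTmem s).1 hsT
      have hs' : IsFac D 3 (f t) [s.1, s.2.1, s.2.2] := hsf ▸ isFac_three s1 s2 s3
      rw [List.mem_toFinset, List.mem_append, List.mem_permutations, List.mem_permutations]
      exact (huniq _ hs').imp (fun h => (List.perm_ext_iff_of_nodup hs'.1 hl.1).2 h)
        fun h => (List.perm_ext_iff_of_nodup hs'.1 hm.1).2 h
    · intro s _ s' _ e
      simp only [List.cons.injEq, and_true] at e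
      obtain ⟨x, y, z⟩ := s
      obtain ⟨x', y', z'⟩ := s'
      simp only at e
      rw [e.1, e.2.1, e.2.2]
    · intro k hk
      rw [List.mem_toFinset, List.mem_append, List.mem_permutations, List.mem_permutations] at hk
      have hk' : IsFac D 3 (f t) k := by
        have key : ∀ n, IsFac D 3 (f t) n → k.Perm n → IsFac D 3 (f t) k := fun n hn hp =>
          ⟨hp.nodup_iff.2 hn.1, hp.length_eq.trans hn.2.1, fun z hz => hn.2.2.1 z (hp.subset hz),
            fun z hz w hw => hn.2.2.2.1 z (hp.subset hz) w (hp.subset hw),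
            (hp.symm.prod_eq' (List.Pairwise.imp_of_mem (fun ha hb _ => hn.2.2.2.1 _ ha _ hb) hn.1)).symm.trans hn.2.2.2.2⟩
        exact hk.elim (key l hl) (key m hm)
      obtain ⟨p, q, r, rfl, hp, hq, hr, e⟩ := three_of_isFac hk'
      exact ⟨⟨p, q, r⟩, Finset.mem_filter.2 ⟨(hTmem _).2 ⟨hp, hq, hr⟩, e⟩, rfl⟩
  have h := Finset.card_eq_sum_card_image f T
  rw [Finset.sum_const_nat hfib, himg, ← Set.ncard_eq_toFinset_card', hcard] at h
  omega

theorem card_centralizer_triple {a b c : G} (ha : a ∈ D) (hb : b ∈ perp D a)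
    (hc : c ∈ perp D a ∩ perp D b) :
    Nat.card ↥(Subgroup.centralizer ({a * b * c} : Set G)) = 1769472 := by
  have h := card_class_mul (a * b * c)
  rw [(card_group hG hprim hM).2, class_triple hG hprim hM ha hb hc] at h
  omega

end Cfsg.Agent.Fischer3Tv
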