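import Cfsg.Agent.Lib.Fischer3Tv.Diag
import Cfsg.Agent.Lib.Fischer3Tv.TripleClass

/-!
# The involutions of a group of type M22
-/

set_option autoImplicit false
set_option linter.unusedSectionVars false
set_option linter.style.haveILetI false

namespace Cfsg.Agent.Fischer3Tv

open Cfsg ClassK Fischer3 Fischer3Rel AutPSU Fischer3Srg

universe u

/-- A product of commuting members is an involution or trivial. -/
theorem list_sq {G : Type u} [Group G] {D : Set G} (hS : IsThreeTranspositionSet D) :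
    ∀ {l : List G}, (∀ a ∈ l, a ∈ D) → (∀ a ∈ l, ∀ b ∈ l, Commute a b) → l.prod * l.prod = 1
  | [], _, _ => by simp
  | a :: t, h1, h2 => by
    have hc : Commute a t.prod :=
      Commute.list_prod_right t a fun y hy => h2 a (by simp) y (by simp [hy])
    rw [List.prod_cons, Commute.mul_mul_mul_comm (Commute.symm hc), tt_mul_self hS (h1 a (by simp)),
      one_mul]
    exact list_sq hS (fun y hy => h1 y (by simp [hy])) fun y hy z hz => h2 y (by simp [hy]) z (by simp [hz])

section space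

variable {F : Type} [Field F] [hQ : QField F 2]
include hQ

theorem free_indep {a b c : Pt F} (hf : Free [a, b, c]) {i j l : F}
    (e : i • a.1 + j • b.1 + l • c.1 = 0) : i = 0 ∧ j = 0 ∧ l = 0 := by
  obtain ⟨hfa, hfb, -, -⟩ := hf
  have hi : i = 0 := by
    by_contra h
    refine hfa ?_
    rw [show a.1 = (-(i⁻¹ * j)) • b.1 + (-(i⁻¹ * l)) • c.1 by
      have := congrArg (fun v : Fin 6 → F => i⁻¹ • v) e
      simp only [smul_add, smul_smul, inv_mul_cancel₀ h, one_smul, smul_zero] at this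
      linear_combination (norm := module) this]
    exact add_mem (Submodule.smul_mem _ _ (Submodule.subset_span ⟨b, by simp, rfl⟩))
      (Submodule.smul_mem _ _ (Submodule.subset_span ⟨c, by simp, rfl⟩))
  subst hi
  rw [zero_smul, zero_add] at e
  have hj : j = 0 := by
    by_contra h
    refine hfb ?_
    rw [show b.1 = (-(j⁻¹ * l)) • c.1 by
      have := congrArg (fun v : Fin 6 → F => j⁻¹ • v) e
      simp only [smul_add, smul_smul, inv_mul_cancel₀ h, one_smul, smul_zero] at this
      linear_combination (norm := module) this]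
    exact Submodule.smul_mem _ _ (Submodule.subset_span ⟨c, by simp, rfl⟩)
  subst hj
  rw [zero_smul, zero_add] at e
  exact ⟨rfl, rfl, (smul_eq_zero.1 e).resolve_right c.2.1⟩

theorem free_nodup : ∀ {L : List (Pt F)}, Free L → (L.map tp).Nodup
  | [], _ => List.nodup_nil
  | p :: L, h => by
    rw [List.map_cons, List.nodup_cons]
    refine ⟨fun hp => h.1 ?_, free_nodup h.2⟩
    obtain ⟨r, hr, e⟩ := List.mem_map.1 hp
    obtain ⟨c, hc⟩ := (tp_eq_iff r p).1 e
    rw [hc]
    exact Submodule.smul_mem _ _ (Submodule.subset_span ⟨r, hr, rfl⟩)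

end space

variable {G : Type u} [Group G] [Finite G] {D : Set G}
variable (hG : IsThreeTranspositionGroup D) (hprim : IsPrimitiveUnderConj D) (hM : IsOfTypeM22 G D)
include hG hprim hM

/-- An involution commutes with some member. -/
theorem fixed_member {x : G} (hx : orderOf x = 2) : ∃ d ∈ D, Commute x d := by
  classical
  by_contra! hno
  have := Fintype.ofFinite G
  haveI := simple hG hprim hM
  let act : MulAction G ↥D := {
    smul := fun g y => ⟨g * y.1 * g⁻¹, hG.2.1 g y.1 y.2⟩
    one_smul := fun y => Subtype.ext (show 1 * (y : G) * 1⁻¹ = y by group)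
    mul_smul := fun g h y => Subtype.ext
      (show g * h * (y : G) * (g * h)⁻¹ = g * (h * y * h⁻¹) * g⁻¹ by group) }
  letI := act
  let ρ : G →* Equiv.Perm ↥D := MulAction.toPermHom G ↥D
  set σ := ρ x
  have happ : ∀ y, ((σ y : ↥D) : G) = x * y * x⁻¹ := fun y => rfl
  have hfree : ∀ y, σ y ≠ y := fun y e => hno y.1 y.2 (by
    have := congrArg Subtype.val e
    rw [happ] at this
    exact mul_inv_eq_iff_eq_mul.1 this)
  have hσ2 : σ ^ 2 = 1 := by rw [← map_pow, ← hx, pow_orderOf_eq_one, map_one]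
  obtain ⟨d, hd, -⟩ := hprim.2.1
  have hσ1 : σ ≠ 1 := fun e => hfree ⟨d, hd⟩ (by rw [e]; rfl)
  have ho : orderOf σ = 2 := orderOf_eq_prime hσ2 hσ1
  obtain ⟨n, hn⟩ := Equiv.Perm.cycleType_prime_order (σ := σ) (by rw [ho]; exact Nat.prime_two)
  rw [ho] at hn
  have hsum : (n + 1) * 2 = 3510 := by
    have h := Equiv.Perm.sum_cycleType σ
    rw [hn, Multiset.sum_replicate, smul_eq_mul, show σ.support = Finset.univ from
      Finset.eq_univ_of_forall fun y => Equiv.Perm.mem_support.2 (hfree y), Finset.card_univ,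
      ← Nat.card_eq_fintype_card, Nat.card_coe_set_eq, (card_group hG hprim hM).1] at h
    exact h
  have hsign : Equiv.Perm.sign σ = -1 := by
    rw [Equiv.Perm.sign_of_cycleType, hn, Multiset.sum_replicate, Multiset.card_replicate, smul_eq_mul,
      hsum, show n + 1 = 1755 by omega]
    exact Odd.neg_one_pow (by rw [Nat.odd_iff])
  set ε : G →* ℤˣ := Equiv.Perm.sign.comp ρ
  rcases Subgroup.Normal.eq_bot_or_eq_top (MonoidHom.normal_ker ε) with e | e
  · have h1 := Nat.card_le_card_of_injective ε ((MonoidHom.ker_eq_bot_iff ε).1 e)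
    rw [(card_group hG hprim hM).2, Nat.card_eq_fintype_card, Fintype.card_units_int] at h1
    norm_num at h1
  · have : ε x = 1 := MonoidHom.mem_ker.1 (e ▸ Subgroup.mem_top x)
    exact absurd (hsign.symm.trans this) (by decide)

theorem lift_points {d : G} {F : Type} [Field F] [QField F 2] (C : Chart D d F) {L : List (Pt F)}
    (hL : (L.map tp).Nodup)
    (ho : ∀ p ∈ L, ∀ r ∈ L, Cfsg.hermForm 6 F 2 p.1 r.1 = 0) :
    ∃ M : List ↥(perp D d), M.map (tp ∘ C.pt) = L.map tp ∧ (M.map Subtype.val).Nodup ∧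
      (∀ a ∈ M.map Subtype.val, a ∈ D) ∧
      ∀ a ∈ M.map Subtype.val, ∀ b ∈ M.map Subtype.val, Commute a b := by
  choose f hf using C.surj
  refine ⟨L.map f, ?_, ?_, ?_, ?_⟩
  · rw [List.map_map]
    exact List.map_congr_left fun p _ => hf p
  · rw [List.map_map]
    refine List.Nodup.map_on (fun p hp r hr e => ?_) (List.Nodup.of_map tp hL)
    refine List.inj_on_of_nodup_map hL hp hr ?_
    rw [← hf p, ← hf r, show f p = f r from Subtype.ext e]
  · intro a ha
    obtain ⟨m, -, rfl⟩ := List.mem_map.1 ha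
    exact m.2.1
  · intro a ha b hb
    obtain ⟨m, hm, rfl⟩ := List.mem_map.1 ha
    obtain ⟨m', hm', rfl⟩ := List.mem_map.1 hb
    obtain ⟨p, hp, rfl⟩ := List.mem_map.1 hm
    obtain ⟨r, hr, rfl⟩ := List.mem_map.1 hm'
    refine (C.comm _ _).2 ((tp_comm_iff _ _).1 ?_)
    rw [hf, hf, tp_comm_iff]
    exact ho p hp r hr

/-- An involution is a product of at most three commuting members. -/
theorem involution_short {x : G} (hx : orderOf x = 2) :
    ∃ m, 1 ≤ m ∧ m ≤ 3 ∧ ∃ l, IsFac D m x l := by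
  classical
  have hS := hG.1
  obtain ⟨d, hd, hxd⟩ := fixed_member hG hprim hM hx
  obtain ⟨F, _, _, ⟨C⟩⟩ := exists_chart hG hprim hM hd
  have hxH : x ∈ H D d := by
    rw [← centralizer_member hG hprim hM hd]
    exact Subgroup.mem_centralizer_singleton_iff.2 hxd.eq
  have hxx : x * x = 1 := by rw [← pow_two, ← hx, pow_orderOf_eq_one]
  set φ := C.hom hG.1
  have hg : φ ⟨x, hxH⟩ * φ ⟨x, hxH⟩ = 1 := by
    rw [← map_mul, show (⟨x, hxH⟩ : ↥(H D d)) * ⟨x, hxH⟩ = 1 from Subtype.ext hxx, map_one]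
  obtain ⟨L, hlen, hfree, horth, hprod⟩ := involution_factor hg
  obtain ⟨M, hML, hMnd, hMD, hMc⟩ := lift_points hG hprim hM C (free_nodup hfree) horth
  set l := M.map Subtype.val with hl
  have hllen : l.length = L.length := by
    have := congrArg List.length hML
    rwa [List.length_map, List.length_map, ← List.length_map (f := Subtype.val)] at this
  have hlfac : IsFac D L.length l.prod l := ⟨hMnd, hllen, hMD, hMc, rfl⟩
  have hlH : l.prod ∈ H D d := list_prod_mem fun a ha => by
    obtain ⟨m, -, rfl⟩ := List.mem_map.1 ha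
    exact Subgroup.subset_closure m.2
  have hlsq : l.prod * l.prod = 1 := list_sq hS hMD hMc
  have hφl : φ ⟨l.prod, hlH⟩ = (L.map tp).prod := by
    rw [← hML]
    exact C.list_congr hG.1 _ _ ((exists_member_list hG.1 hlH).choose_spec)
  have hcase : x * l.prod = 1 ∨ x * l.prod = d := central_perp hG hprim hM hd (mul_mem hxH hlH)
    ((C.hom_eq_one hG.1 (⟨x, hxH⟩ * ⟨l.prod, hlH⟩)).1 (by
      rw [map_mul]; show φ ⟨x, hxH⟩ * φ ⟨l.prod, hlH⟩ = 1
      rw [hφl, hprod, hg]))
  rcases hcase with e | e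
  · have hxl : x = l.prod := mul_right_cancel (b := l.prod) (by rw [e, hlsq])
    refine ⟨L.length, ?_, hlen, l, hxl ▸ hlfac⟩
    rcases Nat.eq_zero_or_pos L.length with h0 | h0
    · rw [List.length_eq_zero_iff.1 (hllen.trans h0), List.prod_nil] at hxl
      rw [hxl, orderOf_one] at hx
      omega
    · exact h0
  have hxl : x = d * l.prod := by rw [← e, mul_assoc, hlsq, mul_one]
  have hdl : ∀ a ∈ l, Commute d a ∧ a ≠ d := fun a ha => by
    obtain ⟨m, -, rfl⟩ := List.mem_map.1 ha
    exact ⟨m.2.2.2, m.2.2.1⟩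
  have cons : ∀ n : ℕ, l.length = n → IsFac D (n + 1) x (d :: l) := fun n hn =>
    ⟨List.nodup_cons.2 ⟨fun h => (hdl d h).2 rfl, hMnd⟩, by simp [hn],
      List.forall_mem_cons.2 ⟨hd, hMD⟩, by
        intro a ha b hb
        rcases List.mem_cons.1 ha with rfl | ha <;> rcases List.mem_cons.1 hb with rfl | hb
        exacts [Commute.refl _, (hdl b hb).1, (hdl a ha).1.symm, hMc a ha b hb], by simp [hxl]⟩
  by_cases h2 : L.length ≤ 2
  · exact ⟨L.length + 1, by omega, by omega, _, cons _ hllen⟩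
  -- three independent points
  obtain ⟨a, b, c, rfl⟩ := List.length_eq_three.1 (show L.length = 3 by omega)
  obtain ⟨w, hw, hw0, hw1⟩ := exists_om F
  have trip : ∀ k : F, k ≠ 0 → (∃ t, IsFac D 3 x t) ∨ ∃ (t : List G) (X : Pt F),
      IsFac D 3 l.prod t ∧ (∃ m : ↥(perp D d), (m : G) ∈ t ∧ tp (C.pt m) = tp X) ∧
      (∀ m : ↥(perp D d), (m : G) ∈ t → ∃ j i : F, tp (C.pt m) =
        tp X ∨ (∃ Y : Pt F, tp (C.pt m) = tp Y ∧ Y.1 = a.1 + i • b.1 + j • c.1 ∧ i ≠ 0 ∧ i ≠ 1)) ∧
      X.1 = a.1 + b.1 + k • c.1 := by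
    intro k hk
    obtain ⟨X, Y, Z, hX, hY, hZ, hor, hpr⟩ := hexad_gen hfree (horth a (by simp) b (by simp))
      (horth a (by simp) c (by simp)) (horth b (by simp) c (by simp)) hw hk
    have hind : ∀ P R : Pt F, ∀ i j i' j' : F, P.1 = a.1 + i • b.1 + j • c.1 →
        R.1 = a.1 + i' • b.1 + j' • c.1 → tp P = tp R → i = i' := by
      intro P R i j i' j' hP hR e
      obtain ⟨γ, hγ⟩ := (tp_eq_iff P R).1 e
      rw [hP, hR] at hγ
      obtain ⟨h1, h2, -⟩ := free_indep hfree (i := 1 - γ) (j := i' - γ * i) (l := j' - γ * j)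
        (by linear_combination (norm := module) hγ)
      rw [← sub_eq_zero.1 h1, one_mul] at h2
      exact (sub_eq_zero.1 h2).symm
    have hX' : X.1 = a.1 + (1 : F) • b.1 + k • c.1 := by rw [one_smul]; exact hX
    have hw1' : w + 1 ≠ 1 := fun e => hw0 (add_eq_right.1 e)
    have hww : w ≠ w + 1 := fun e => one_ne_zero (α := F) (add_eq_left.1 e.symm)
    have hnd : [tp X, tp Y, tp Z].Nodup := by
      simp only [List.nodup_cons, List.mem_cons, List.not_mem_nil, or_false, not_or, List.nodup_nil,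
        not_false_eq_true, and_true]
      exact ⟨⟨fun e => hw1 (hind _ _ _ _ _ _ hX' hY e).symm, fun e => hw1' (hind _ _ _ _ _ _ hX' hZ e).symm⟩,
        fun e => hww (hind _ _ _ _ _ _ hY hZ e)⟩
    obtain ⟨N, hN, hNnd, hND, hNc⟩ := lift_points hG hprim hM C (L := [X, Y, Z]) hnd
      (fun p hp r hr => hor p (List.mem_append_right [a, b, c] hp) r (List.mem_append_right [a, b, c] hr))
    set t := N.map Subtype.val with ht
    have htlen : t.length = 3 := by
      have := congrArg List.length hN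
      simpa [ht] using this
    rcases C.prod_cases hG hprim hM hd (L := M ++ N) (by
        rw [List.map_append, hML, hN, ← List.map_append]; exact hpr) with h | h
    · refine Or.inr ⟨t, X, ⟨hNnd, htlen, hND, hNc, ?_⟩, ?_, ?_, hX⟩
      · rw [List.map_append, List.prod_append] at h
        exact mul_left_cancel (a := l.prod) (h.trans hlsq.symm)
      · have hXmem : tp X ∈ N.map (tp ∘ C.pt) := by rw [hN]; simp
        obtain ⟨m, hm, e⟩ := List.mem_map.1 hXmem
        exact ⟨m, List.mem_map_of_mem hm, e⟩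
      · intro m hm
        obtain ⟨m', hm', e⟩ := List.mem_map.1 hm
        obtain rfl := Subtype.ext e
        have : tp (C.pt m') ∈ [X, Y, Z].map tp := hN ▸ List.mem_map_of_mem hm'
        simp only [List.map_cons, List.map_nil, List.mem_cons, List.not_mem_nil, or_false] at this
        rcases this with e | e | e
        · exact ⟨0, 0, Or.inl e⟩
        · exact ⟨_, _, Or.inr ⟨Y, e, hY, hw0, hw1⟩⟩
        · exact ⟨_, _, Or.inr ⟨Z, e, hZ, fun h => hw1 (eq_of_add_eq_zero h), hw1'⟩⟩
    · refine Or.inl ⟨t, hNnd, htlen, hND, hNc, ?_⟩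
      rw [List.map_append, List.prod_append] at h
      show t.prod = x
      rw [hxl]
      change l.prod * t.prod = d at h
      rw [(Commute.list_prod_right l d fun z hz => (hdl z hz).1).eq, ← h, ← mul_assoc, hlsq, one_mul]
  rcases trip 1 one_ne_zero with ⟨t, ht⟩ | ⟨t, X, ht, ⟨m, hmt, hmX⟩, -, hX⟩
  · exact ⟨3, by norm_num, le_rfl, t, ht⟩
  rcases trip w hw0 with ⟨t, ht'⟩ | ⟨t', X', ht', -, hall, hX'⟩
  · exact ⟨3, by norm_num, le_rfl, t, ht'⟩
  exfalso
  obtain ⟨m₀, -, hdis, huniq⟩ := two_triples hG hprim hM (hlfac : IsFac D 3 l.prod l)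
  have notl : ∀ (Y : Pt F) (i j : F), Y.1 = a.1 + i • b.1 + j • c.1 → j ≠ 0 ∨ i ≠ 0 →
      ∀ y : ↥(perp D d), tp (C.pt y) = tp Y → (y : G) ∉ l := by
    intro Y i j hY hne y hy hyl
    obtain ⟨y', hy', e⟩ := List.mem_map.1 hyl
    obtain rfl := Subtype.ext e
    have : tp (C.pt y') ∈ [a, b, c].map tp := hML ▸ List.mem_map_of_mem hy'
    rw [hy] at this
    obtain ⟨p, hp, e⟩ := List.mem_map.1 this
    obtain ⟨γ, hγ⟩ := (tp_eq_iff p Y).1 e
    rw [hY] at hγ
    simp only [List.mem_cons, List.not_mem_nil, or_false] at hp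
    rcases hp with rfl | rfl | rfl
    · obtain ⟨-, h1, h2⟩ := free_indep hfree (i := 1 - γ) (j := i) (l := j)
        (by linear_combination (norm := module) hγ)
      exact hne.elim (· h2) (· h1)
    · obtain ⟨h1, -, -⟩ := free_indep hfree (i := 1) (j := i - γ) (l := j)
        (by linear_combination (norm := module) hγ)
      exact one_ne_zero h1
    · obtain ⟨h1, -, -⟩ := free_indep hfree (i := 1) (j := i) (l := j - γ)
        (by linear_combination (norm := module) hγ)
      exact one_ne_zero h1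
  have hm1 : (m : G) ∉ l := notl X 1 1 (by simp [hX]) (Or.inl one_ne_zero) m hmX
  have ht1 : ∀ z : G, z ∈ t ↔ z ∈ m₀ := (huniq t ht).resolve_left fun h => hm1 ((h _).1 hmt)
  rcases huniq t' ht' with h | h
  · obtain ⟨z, hz⟩ : ∃ z, z ∈ t' := List.exists_mem_of_length_pos (by rw [ht'.2.1]; norm_num)
    obtain ⟨z', -, rfl⟩ : ∃ z' : ↥(perp D d), z' ∈ M ∧ (z' : G) = z := List.mem_map.1 ((h z).1 hz)
    obtain ⟨j, i, e | ⟨Y, e, hY, hi0, hi⟩⟩ := hall z' hz
    · exact notl X' 1 w (by simp [hX']) (Or.inl hw0) z' e ((h _).1 hz)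
    · exact notl Y i j hY (Or.inr hi0) z' e ((h _).1 hz)
  · obtain ⟨j, i, e | ⟨Y, e, hY, hi0, hi⟩⟩ := hall m ((h _).2 ((ht1 _).1 hmt))
    · obtain ⟨γ, hγ⟩ := (tp_eq_iff X X').1 (hmX.symm.trans e)
      rw [hX, hX'] at hγ
      obtain ⟨h1, -, h3⟩ := free_indep hfree (i := 1 - γ) (j := 1 - γ) (l := w - γ)
        (by linear_combination (norm := module) hγ)
      exact hw1 (by linear_combination h3 - h1)
    · obtain ⟨γ, hγ⟩ := (tp_eq_iff X Y).1 (hmX.symm.trans e)
      rw [hX, hY] at hγ
      obtain ⟨h1, h2, -⟩ := free_indep hfree (i := 1 - γ) (j := i - γ) (l := j - γ)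
        (by linear_combination (norm := module) hγ)
      exact hi (by linear_combination h2 - h1)

end Cfsg.Agent.Fischer3Tv
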