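import Cfsg.Agent.Lib.Fischer3Tv.BaseSet
import Cfsg.Agent.Lib.Fischer3Tv.Involution
import Cfsg.Agent.Lib.Fischer3Srg.Unique

/-!
# Involutory automorphisms of a group of type M22 fix members
-/

set_option autoImplicit false
set_option linter.unusedSectionVars false
set_option linter.style.haveILetI false

namespace Cfsg.Agent.Fischer3Tv

open Cfsg ClassK Fischer3 Fischer3Rel Fischer3Srg

universe u

variable {G : Type u} [Group G] [Finite G] {D : Set G}

theorem image_class (hC : IsThreeTranspositionClass D) (φ : MulAut G) :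
    IsThreeTranspositionClass (φ '' D) := by
  obtain ⟨⟨h1, h2⟩, ⟨d, hd, hD⟩, h3⟩ := hC
  refine ⟨⟨?_, ?_⟩, ⟨φ d, ⟨d, hd, rfl⟩, ?_⟩, ?_⟩
  · rintro _ ⟨x, hx, rfl⟩
    rw [MulEquiv.orderOf_eq, h1 x hx]
  · rintro _ ⟨x, hx, rfl⟩ _ ⟨y, hy, rfl⟩
    rw [← map_mul, ← map_pow, ← map_pow, EmbeddingLike.map_eq_one_iff, EmbeddingLike.map_eq_one_iff]
    exact h2 x hx y hy
  · ext z
    show _ ↔ IsConj (φ d) z
    rw [isConj_iff]
    constructor
    · rintro ⟨x, hx, rfl⟩
      rw [hD, show x ∈ conjugatesOf d ↔ IsConj d x from Iff.rfl, isConj_iff] at hx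
      obtain ⟨g, rfl⟩ := hx
      exact ⟨φ g, by simp⟩
    · rintro ⟨g, rfl⟩
      refine ⟨φ.symm g * d * (φ.symm g)⁻¹, ?_, by simp⟩
      rw [hD]
      exact isConj_iff.2 ⟨_, rfl⟩
  · have : (Subgroup.closure D).map φ.toMonoidHom = Subgroup.closure (φ '' D) :=
      MonoidHom.map_closure _ _
    rw [← this, h3, ← MonoidHom.range_eq_map, MonoidHom.range_eq_top]
    exact φ.surjective

variable (hG : IsThreeTranspositionGroup D) (hprim : IsPrimitiveUnderConj D) (hM : IsOfTypeM22 G D)
include hG hprim hM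

theorem image_eq (φ : MulAut G) : φ '' D = D := by
  have hC := class_of_primitive hG hprim
  have hC' := image_class hC φ
  obtain ⟨x, hx, -⟩ := hC'.2.1
  obtain ⟨m, h1, h3, l, hl⟩ := involution_short hG hprim hM (hC'.1.1 x hx)
  exact class_eq_of_mem hC hC' (short_mem hC (below_base hG hprim hM).loc (by norm_num) (by norm_num)
    (mu_eq hG hprim hM).1 (by norm_num) (by norm_num) hC' h1 h3 hx hl) hx

/-- A product of members of a maximal commuting set is trivial or a short product of members of the set. -/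
theorem prod_in_base {B : Set G} (hBD : B ⊆ D) (hmax : ∀ x ∈ D, (∀ a ∈ B, Commute x a) → x ∈ B)
    {g : G} (hg2 : g * g = 1) (hgB : ∀ a ∈ B, Commute g a) :
    g = 1 ∨ ∃ m, 1 ≤ m ∧ m ≤ 3 ∧ ∃ l, IsFac D m g l ∧ ∀ x ∈ l, x ∈ B := by
  have hS := hG.1
  by_cases hg : g = 1
  · exact Or.inl hg
  obtain ⟨m, h1, h3, l, hl⟩ := involution_short hG hprim hM (x := g) (orderOf_eq_prime (by rw [pow_two, hg2]) hg)
  refine Or.inr ⟨m, h1, h3, l, hl, fun x hx => hmax x (hl.2.2.1 x hx) fun y hy => ?_⟩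
  by_contra hn
  have hl' : IsFac D m g (l.map fun z => y * z * y⁻¹) := by
    refine ⟨List.Nodup.map (fun a b e => by simpa using e) hl.1, by simp [hl.2.1], ?_, ?_, ?_⟩
    · intro z hz
      obtain ⟨w, hw, rfl⟩ := List.mem_map.1 hz
      exact hG.2.1 y w (hl.2.2.1 w hw)
    · intro z hz z' hz'
      obtain ⟨w, hw, rfl⟩ := List.mem_map.1 hz
      obtain ⟨w', hw', rfl⟩ := List.mem_map.1 hz'
      exact commute_conj y (hl.2.2.2.1 w hw w' hw')
    · rw [show (fun z => y * z * y⁻¹) = ⇑(MulAut.conj y).toMonoidHom from rfl, ← map_list_prod, hl.2.2.2.2]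
      exact conj_eq_of_commute (hgB y hy).symm
  have hc : Commute x (y * x * y⁻¹) := fac_comm hS h3 hl hl' x (List.mem_append_left _ hx) _
    (List.mem_append_right _ (List.mem_map.2 ⟨x, hx, rfl⟩))
  have hxD := hl.2.2.1 x hx
  have hyD := hBD hy
  rw [tt_inv hS hyD, ← braid hS hxD hyD hn] at hc
  refine hn ?_
  have e := hc.eq
  rw [show x * (x * y * x) = x * x * y * x by group, show x * y * x * x = x * y * (x * x) by group,
    tt_mul_self hS hxD, one_mul, mul_one] at e
  exact e.symm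

/-- An involutory automorphism fixes a member. -/
theorem exists_fixed (φ : MulAut G) (hφ : ∀ x : G, φ (φ x) = x) : ∃ d ∈ D, φ d = d := by
  classical
  by_contra! hno
  have hS := hG.1
  have hC := class_of_primitive hG hprim
  have hmem : ∀ x ∈ D, φ x ∈ D := fun x hx => image_eq hG hprim hM φ ▸ ⟨x, hx, rfl⟩
  have hinv : ∀ x : G, x ∈ D → φ x ∈ D ∧ Commute x (φ x) := fun x hx => by
    refine ⟨hmem x hx, ?_⟩
    by_contra hn
    refine hno (x * φ x * x) (by simpa [tt_inv hS hx] using hG.2.1 x (φ x) (hmem x hx)) ?_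
    rw [map_mul, map_mul, hφ]
    exact (braid hS hx (hmem x hx) hn).symm
  -- a maximal invariant commuting set
  obtain ⟨B, ⟨hBD, hBc, hBφ⟩, hBmax⟩ : ∃ B : Set G,
      (B ⊆ D ∧ (∀ a ∈ B, ∀ b ∈ B, Commute a b) ∧ ∀ a ∈ B, φ a ∈ B) ∧
      ∀ B' : Set G, (B' ⊆ D ∧ (∀ a ∈ B', ∀ b ∈ B', Commute a b) ∧ ∀ a ∈ B', φ a ∈ B') →
        B'.ncard ≤ B.ncard := by
    obtain ⟨B, hB, hle⟩ := Set.exists_max_image
      {B : Set G | B ⊆ D ∧ (∀ a ∈ B, ∀ b ∈ B, Commute a b) ∧ ∀ a ∈ B, φ a ∈ B} Set.ncard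
      (Set.toFinite _) ⟨∅, Set.empty_subset _, by simp, by simp⟩
    exact ⟨B, hB, hle⟩
  have hmax : ∀ x ∈ D, (∀ a ∈ B, Commute x a) → x ∈ B := by
    intro x hx hxB
    by_contra hn
    have hxc : ∀ a ∈ B, Commute (φ x) a := fun a ha => by
      have := (hxB _ (hBφ a ha)).map φ.toMonoidHom
      simpa [hφ] using this
    have hle := hBmax (insert x (insert (φ x) B)) ⟨?_, ?_, ?_⟩
    · have hlt : B ⊂ insert x (insert (φ x) B) :=
        (Set.ssubset_iff_of_subset fun y hy => Or.inr (Or.inr hy)).2 ⟨x, Or.inl rfl, hn⟩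
      have := Set.ncard_lt_ncard hlt
      omega
    · exact Set.insert_subset hx (Set.insert_subset (hmem x hx) hBD)
    · rintro a (rfl | rfl | ha) b (rfl | rfl | hb)
      exacts [Commute.refl _, (hinv _ hx).2, hxB _ hb, (hinv _ hx).2.symm, Commute.refl _, hxc _ hb,
        (hxB _ ha).symm, (hxc _ ha).symm, hBc _ ha _ hb]
    · rintro a (rfl | rfl | ha)
      exacts [Or.inr (Or.inl rfl), Or.inl (hφ x), Or.inr (Or.inr (hBφ a ha))]
  obtain ⟨h22, h672, hk⟩ := base_set hG hprim hM hBD hBc hmax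
  -- double counting
  have := Fintype.ofFinite G
  have hdc : ∀ X : Set G, X ⊆ D → (∀ x ∈ X, x ∉ B) →
      ∑ a ∈ B.toFinset, (perp D a ∩ X).ncard = 6 * {x | x ∈ X ∧ (perp D x ∩ B).Nonempty}.ncard := by
    intro X hXD hXB
    have h1 := Finset.sum_card_bipartiteAbove_eq_sum_card_bipartiteBelow
      (fun a x => x ∈ perp D a) (s := B.toFinset) (t := X.toFinset)
    have e1 : ∀ a, (X.toFinset.bipartiteAbove (fun a x => x ∈ perp D a) a).card = (perp D a ∩ X).ncard :=
      fun a => by
        rw [← Set.ncard_coe_finset]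
        congr 1; ext x; simp [Finset.bipartiteAbove, and_comm]
    have e2 : ∀ x ∈ X.toFinset, (B.toFinset.bipartiteBelow (fun a x => x ∈ perp D a) x).card =
        if (perp D x ∩ B).Nonempty then 6 else 0 := fun x hx => by
      have hxD := hXD (Set.mem_toFinset.1 hx)
      have e3 : (B.toFinset.bipartiteBelow (fun a x => x ∈ perp D a) x).card = (perp D x ∩ B).ncard := by
        rw [← Set.ncard_coe_finset]
        congr 1; ext a
        simp only [Finset.bipartiteBelow, Finset.coe_filter, Set.mem_toFinset, Set.mem_setOf_eq]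
        exact ⟨fun h => ⟨perp_flip hG hprim hM (hBD h.1) h.2, h.1⟩,
          fun h => ⟨h.2, perp_flip hG hprim hM hxD h.1⟩⟩
      rw [e3]
      split_ifs with hne
      · rcases hk x hxD (hXB x (Set.mem_toFinset.1 hx)) with e | e
        · exact absurd e ((Set.ncard_pos (Set.toFinite _)).2 hne).ne'
        · exact e
      · rw [Set.not_nonempty_iff_eq_empty.1 hne, Set.ncard_empty]
    rw [Finset.sum_congr rfl (fun a _ => e1 a), Finset.sum_congr rfl e2, ← Finset.sum_filter,
      Finset.sum_const, smul_eq_mul, mul_comm] at h1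
    rw [h1, ← Set.ncard_coe_finset]
    congr 2; ext x; simp
  have hBcard : B.toFinset.card = 22 := by rw [← h22, Set.ncard_eq_toFinset_card']
  -- a member commuting with none of the set
  obtain ⟨c, hc, hcB, hcn⟩ : ∃ c ∈ D, c ∉ B ∧ ¬ (perp D c ∩ B).Nonempty := by
    by_contra! hall
    have h1 := hdc (D \ B) Set.sdiff_subset fun x hx => hx.2
    rw [Finset.sum_congr rfl (g := fun _ => 672) (fun a ha => by
        rw [← h672 a (Set.mem_toFinset.1 ha)]
        congr 1; ext x
        exact ⟨fun h => ⟨h.1, h.2.2⟩, fun h => ⟨h.1, h.1.1, h.2⟩⟩), Finset.sum_const, hBcard,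
      smul_eq_mul, show {x | x ∈ D \ B ∧ (perp D x ∩ B).Nonempty} = D \ B from
        Set.ext fun x => ⟨And.left, fun h => ⟨h, hall x h.1 h.2⟩⟩,
      Set.ncard_sdiff hBD, (card_group hG hprim hM).1, h22] at h1
    norm_num at h1
  have hnc : ∀ a ∈ B, ¬ Commute c a := fun a ha h =>
    hcn ⟨a, ⟨hBD ha, fun e => hcB (e ▸ ha), h⟩, ha⟩
  set O : Set G := {x | x ∈ perp D c ∧ ¬ (perp D x ∩ B).Nonempty}
  have hOcard : O.ncard = 231 := by
    have h1 := hdc (perp D c) (fun x hx => hx.1) fun x hx hxB => hnc x hxB hx.2.2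
    rw [Finset.sum_congr rfl (g := fun _ => 126) (fun a ha => by
        rw [Set.inter_comm]
        exact (mu_eq hG hprim hM).1 c hc a (hBD (Set.mem_toFinset.1 ha)) (hnc a (Set.mem_toFinset.1 ha))),
      Finset.sum_const, hBcard, smul_eq_mul] at h1
    have h2 := Set.ncard_inter_add_ncard_sdiff_eq_ncard (perp D c) {x | (perp D x ∩ B).Nonempty}
      (Set.toFinite _)
    rw [(local_base hG hprim hM).size c hc] at h2
    have h3 : perp D c \ {x | (perp D x ∩ B).Nonempty} = O := rfl
    have h4 : perp D c ∩ {x | (perp D x ∩ B).Nonempty} = {x | x ∈ perp D c ∧ (perp D x ∩ B).Nonempty} := rfl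
    rw [h3, h4] at h2
    omega
  -- conjugates of `c` by pairs
  set f : G × G → G := fun p => p.1 * p.2 * c * (p.1 * p.2)⁻¹
  have hfO : ∀ a ∈ B, ∀ b ∈ B, a ≠ b → f (a, b) ∈ O := by
    intro a ha b hb hab
    have hfix : ∀ u ∈ B, a * b * u * (a * b)⁻¹ = u := fun u hu =>
      conj_eq_of_commute ((hBc a ha u hu).mul_left (hBc b hb u hu))
    refine ⟨⟨hG.2.1 _ c hc, fun e => ?_, ?_⟩, ?_⟩
    · have hcab : Commute c (a * b) := (mul_inv_eq_iff_eq_mul.1 e).symm
      exact hnc a ha (commute_of_pair hS (hBD ha) (hBD hb) hc hab hcab)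
    · have sa := tt_mul_self hS (hBD ha)
      have hna : ¬ Commute c a := hnc a ha
      have hnb : ¬ Commute c b := hnc b hb
      have b1 := braid hS (hBD ha) hc fun h => hna h.symm
      have b2 := braid hS hc (hBD hb) hnb
      set p := a * c * a with hp
      have hf : f (a, b) = a * (b * c * b) * a := by
        show a * b * c * (a * b)⁻¹ = _
        rw [mul_inv_rev, tt_inv hS (hBD ha), tt_inv hS (hBD hb)]
        simp only [mul_assoc]
      have e1 : c * p * c = a := by
        rw [b1, show c * (c * a * c) * c = (c * c) * a * (c * c) by group, tt_mul_self hS hc, one_mul,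
          mul_one]
      have e2 : a * (b * c * b) * a = p * (a * b * a) * p := by
        rw [← b2, hp]
        calc a * (c * b * c) * a = a * c * (a * a) * b * (a * a) * c * a := by
              rw [sa, mul_one, mul_one]; group
          _ = a * c * a * (a * b * a) * (a * c * a) := by group
      have e3 : a * b * a = b := by rw [(hBc a ha b hb).eq, mul_assoc, sa, mul_one]
      rw [e3] at e2
      have e4 : c * f (a, b) * c = f (a, b) := by
        rw [hf]
        calc c * (a * (b * c * b) * a) * c = c * (p * b * p) * c := by rw [e2]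
          _ = (c * p * c) * (c * b * c) * (c * p * c) := by
              rw [show c * p * c * (c * b * c) * (c * p * c) = c * p * (c * c) * b * (c * c) * p * c by group,
                tt_mul_self hS hc, mul_one, mul_one]
              group
          _ = a * (b * c * b) * a := by rw [e1, b2]
      show Commute c (f (a, b))
      calc c * f (a, b) = c * f (a, b) * (c * c) := by rw [tt_mul_self hS hc, mul_one]
        _ = f (a, b) * c := by rw [← mul_assoc, e4]
    · rintro ⟨u, hu, huB⟩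
      refine hnc u huB ?_
      have h := hu.2.2
      rw [← hfix u huB] at h
      exact (commute_conj_iff (a * b) _ _).1 h
  set S := B.toFinset.offDiag
  have hinj : ∀ a ∈ B, ∀ b ∈ B, a ≠ b → ∀ a' ∈ B, ∀ b' ∈ B, a' ≠ b' → f (a, b) = f (a', b') →
      a' = a ∧ b' = b ∨ a' = b ∧ b' = a := by
    intro a ha b hb hab a' ha' b' hb' hab' he
    set g := a' * b' * (a * b)
    have hgB : ∀ u ∈ B, Commute g u := fun u hu =>
      ((hBc a' ha' u hu).mul_left (hBc b' hb' u hu)).mul_left ((hBc a ha u hu).mul_left (hBc b hb u hu))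
    have i1 : (a * b)⁻¹ = a * b := by
      rw [mul_inv_rev, tt_inv hS (hBD ha), tt_inv hS (hBD hb), (hBc a ha b hb).eq]
    have i2 : (a' * b')⁻¹ = a' * b' := by
      rw [mul_inv_rev, tt_inv hS (hBD ha'), tt_inv hS (hBD hb'), (hBc a' ha' b' hb').eq]
    have hgc : Commute g c := by
      refine mul_inv_eq_iff_eq_mul.1 ?_
      show a' * b' * (a * b) * c * (a' * b' * (a * b))⁻¹ = c
      rw [show a' * b' * (a * b) * c * (a' * b' * (a * b))⁻¹ = a' * b' * f (a, b) * (a' * b')⁻¹ by
        simp only [f]; group, he]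
      show a' * b' * (a' * b' * c * (a' * b')⁻¹) * (a' * b')⁻¹ = c
      have h2 : a' * b' * (a' * b') = 1 := by nth_rewrite 1 [← i2]; exact inv_mul_cancel _
      calc a' * b' * (a' * b' * c * (a' * b')⁻¹) * (a' * b')⁻¹
          = a' * b' * (a' * b') * c * (a' * b' * (a' * b'))⁻¹ := by group
        _ = c := by rw [h2, one_mul, inv_one, mul_one]
    rcases prod_in_base hG hprim hM hBD hmax (g := g) (by
        have hc2 : Commute (a' * b') (a * b) :=
          ((hBc a' ha' a ha).mul_right (hBc a' ha' b hb)).mul_left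
            ((hBc b' hb' a ha).mul_right (hBc b' hb' b hb))
        rw [← sq, hc2.mul_pow, sq, sq]
        nth_rewrite 1 [← i2]
        rw [inv_mul_cancel, one_mul]
        nth_rewrite 1 [← i1]
        rw [inv_mul_cancel]) hgB with e | ⟨m, h1m, h3, l, hl, hlB⟩
    · have he' : a' * b' = a * b := by rw [eq_inv_of_mul_eq_one_left e, i1]
      have hu := pair_unique hG hprim hM (l := [a, b]) (l' := [a', b'])
        (⟨by simp [hab], rfl, by simp [hBD ha, hBD hb],
          by simp [hBc a ha b hb, hBc b hb a ha], by simp⟩ : IsFac D 2 (a * b) [a, b])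
        ⟨by simp [hab'], rfl, by simp [hBD ha', hBD hb'],
          by simp [hBc a' ha' b' hb', hBc b' hb' a' ha'], by simp [he']⟩
      have q1 : a' = a ∨ a' = b := by simpa using (hu a').2 (by simp)
      have q2 : b' = a ∨ b' = b := by simpa using (hu b').2 (by simp)
      rcases q1 with q1 | q1 <;> rcases q2 with q2 | q2
      exacts [absurd (q1.trans q2.symm) hab', Or.inl ⟨q1, q2⟩, Or.inr ⟨q1, q2⟩,
        absurd (q1.trans q2.symm) hab']
    · exfalso
      obtain ⟨x, hx⟩ : ∃ x, x ∈ l := by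
        rcases l with _ | ⟨x, l⟩
        · have := hl.2.1; simp at this; omega
        · exact ⟨x, List.mem_cons_self ..⟩
      exact hnc x (hlB x hx) (commute_each hS hl.1 (hl.2.1.trans_le h3) hl.2.2.1 hl.2.2.2.1 hc
        (hl.2.2.2.2 ▸ hgc.symm) x hx)
  have himg : (S.image f : Set G) = O := by
    refine Set.eq_of_subset_of_ncard_le ?_ ?_ (Set.toFinite _)
    · intro z hz
      obtain ⟨⟨a, b⟩, hp, rfl⟩ := Finset.mem_image.1 hz
      simp only [S, Finset.mem_offDiag, Set.mem_toFinset] at hp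
      exact hfO a hp.1 b hp.2.1 hp.2.2
    · rw [hOcard, Set.ncard_coe_finset]
      have h1 := Finset.card_le_mul_card_image (f := f) S 2 (fun z hz => by
        obtain ⟨⟨a, b⟩, hp, rfl⟩ := Finset.mem_image.1 hz
        simp only [S, Finset.mem_offDiag, Set.mem_toFinset] at hp
        refine le_trans (Finset.card_le_card (t := {(a, b), (b, a)}) fun q hq => ?_) Finset.card_le_two
        obtain ⟨⟨hq1, hq2, hq3⟩, e⟩ : ((q.1 ∈ B ∧ q.2 ∈ B ∧ q.1 ≠ q.2) ∧ f q = f (a, b)) := by
          simpa [S] using Finset.mem_filter.1 hq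
        rcases hinj a hp.1 b hp.2.1 hp.2.2 q.1 hq1 q.2 hq2 hq3 e.symm with ⟨h1, h2⟩ | ⟨h1, h2⟩
        · exact Finset.mem_insert.2 (Or.inl (Prod.ext h1 h2))
        · exact Finset.mem_insert.2 (Or.inr (Finset.mem_singleton.2 (Prod.ext h1 h2))))
      rw [Finset.offDiag_card, hBcard] at h1
      omega
  have hφO : φ c ∈ O := by
    refine ⟨⟨hmem c hc, hno c hc, (hinv c hc).2⟩, fun ⟨u, hu, huB⟩ => hnc _ (hBφ u huB) ?_⟩
    have := hu.2.2.map φ.toMonoidHom
    simpa [hφ] using this
  rw [← himg] at hφO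
  obtain ⟨⟨a, b⟩, hp, he⟩ := Finset.mem_image.1 hφO
  simp only [S, Finset.mem_offDiag, Set.mem_toFinset] at hp
  obtain ⟨ha, hb, hab⟩ := hp
  have he' : φ c = a * b * c * (a * b)⁻¹ := he.symm
  have hba : φ a = b ∧ φ b = a := by
    have h2 : f (φ a, φ b) = f (a, b) := by
      have h := congrArg φ he'
      simp only [map_mul, map_inv, hφ] at h
      have hcm : Commute (φ a) (φ b) := hBc _ (hBφ a ha) _ (hBφ b hb)
      have i3 : (φ a * φ b)⁻¹ = φ a * φ b := by
        rw [mul_inv_rev, tt_inv hS (hmem a (hBD ha)), tt_inv hS (hmem b (hBD hb)), hcm.eq]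
      show φ a * φ b * c * (φ a * φ b)⁻¹ = a * b * c * (a * b)⁻¹
      rw [← he', i3]
      conv_lhs => rw [h]
      rw [i3]
      have h4 : φ a * φ b * (φ a * φ b) = 1 := by nth_rewrite 1 [← i3]; exact inv_mul_cancel _
      calc φ a * φ b * (φ a * φ b * φ c * (φ a * φ b)) * (φ a * φ b)
          = φ a * φ b * (φ a * φ b) * φ c * (φ a * φ b * (φ a * φ b)) := by group
        _ = φ c := by rw [h4, one_mul, mul_one]
    rcases hinj a ha b hb hab _ (hBφ a ha) _ (hBφ b hb) (φ.injective.ne hab) h2.symm with ⟨h3, -⟩ | h3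
    · exact absurd h3 (hno a (hBD ha))
    · exact h3
  refine hno (a * c * a⁻¹) (hG.2.1 a c hc) ?_
  rw [map_mul, map_mul, map_inv, hba.1, he', tt_inv hS (hBD hb), tt_inv hS (hBD ha), mul_inv_rev,
    tt_inv hS (hBD ha), tt_inv hS (hBD hb)]
  calc b * (a * b * c * (b * a)) * b = a * (b * b) * c * (b * a * b) := by
        rw [← mul_assoc b (a * b * c), show b * (a * b * c) = b * a * b * c by group, (hBc b hb a ha).eq]
        group
    _ = a * c * a := by
        rw [tt_mul_self hS (hBD hb), mul_one, (hBc b hb a ha).eq, mul_assoc a b b, tt_mul_self hS (hBD hb),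
          mul_one]

end Cfsg.Agent.Fischer3Tv
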