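import Cfsg.Agent.Lib.Fischer3Tv.Basic
import Cfsg.Agent.Lib.LinearGroups.UnitaryOrder
import Cfsg.Agent.S0283

/-!
# Standard frames and the embedded four-dimensional unitary group
-/

set_option autoImplicit false
set_option linter.unusedSectionVars false
set_option linter.style.haveILetI false

open scoped Matrix

namespace Cfsg.Agent.Fischer3Tv

open AutPSU

universe u

variable {F : Type u} [Field F] [hQ : QField F 2]
include hQ

local notation "σ" => qb (F := F) 2
local notation "V" => Fin 6 → F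
local notation "W" => Fin 4 → F
set_option quotPrecheck false in
local notation "SU6" => ↥(Cfsg.SU 6 F 2)
set_option quotPrecheck false in
local notation "SU4" => ↥(Cfsg.SU 4 F 2)
local notation "H" => Cfsg.hermForm 6 F 2
local notation "H₄" => Cfsg.hermForm 4 F 2

theorem card_four : Nat.card F = 4 := hQ.card

/-- A vector given by its first two coordinates and the rest. -/
def mk (a b : F) (r : W) : V := Fin.cons a (Fin.cons b r)

theorem mk_H (a b a' b' : F) (r r' : W) :
    H (mk a b r) (mk a' b' r') = a * σ a' + b * σ b' + H₄ r r' := by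
  rw [mk, mk, UnitaryOrder.hermForm_cons, UnitaryOrder.hermForm_cons, qb_apply, qb_apply, add_assoc]

theorem mk_add (a b a' b' : F) (r r' : W) : mk a b r + mk a' b' r' = mk (a + a') (b + b') (r + r') := by
  ext i
  refine Fin.cases ?_ (fun i => Fin.cases ?_ (fun i => ?_) i) i <;> simp [mk]

theorem mk_smul (c a b : F) (r : W) : c • mk a b r = mk (c * a) (c * b) (c • r) := by
  ext i
  refine Fin.cases ?_ (fun i => Fin.cases ?_ (fun i => ?_) i) i <;> simp [mk]

theorem mk_surj (v : V) : ∃ a b r, v = mk a b r :=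
  ⟨v 0, v 1, fun i => v i.succ.succ, by
    ext i
    refine Fin.cases ?_ (fun i => Fin.cases ?_ (fun i => ?_) i) i <;> simp [mk]⟩

theorem mk_inj {a b a' b' : F} {r r' : W} (h : mk a b r = mk a' b' r') :
    a = a' ∧ b = b' ∧ r = r' :=
  ⟨by simpa [mk] using congrFun h 0, by simpa [mk] using congrFun h 1,
    funext fun i => by simpa [mk] using congrFun h i.succ.succ⟩

theorem mk_zero : mk 0 0 (0 : W) = (0 : V) := by
  ext i
  refine Fin.cases ?_ (fun i => Fin.cases ?_ (fun i => ?_) i) i <;> simp [mk]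

variable (F) in
/-- The first vector of the standard pair. -/
def vE : V := mk 1 1 0

/-- The second vector of the standard pair. -/
def vF (w : F) : V := mk w (w + 1) 0

variable (F) in
/-- An isotropic vector of the complement. -/
def rE : W := ![1, 1, 0, 0]

theorem vE_iso : H (vE F) (vE F) = 0 := by simp [vE, mk_H, add_self]

theorem vE_ne : vE F ≠ 0 := fun h => one_ne_zero (α := F) (mk_inj (h.trans mk_zero.symm)).1

theorem vE_H (a b : F) (r : W) : H (mk a b r) (vE F) = a + b := by simp [vE, mk_H]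

theorem vF_iso {w : F} (hw : w * w = w + 1) : H (vF w) (vF w) = 0 := by
  simp [vF, mk_H, sigma_sq]
  grind [two_zero (F := F)]

theorem vF_E (w : F) : H (vF w) (vE F) = 1 := by
  rw [vF, vE_H]
  linear_combination w * two_zero (F := F)

theorem E_vF (w : F) : H (vE F) (vF w) = 1 := by rw [← H_flip, vF_E, map_one]

theorem rE_iso : H₄ (rE F) (rE F) = 0 := by
  simp [rE, H_eq, Fin.sum_univ_four, add_self]

theorem det_blockM (n : ℕ) (A : Matrix (Fin n) (Fin n) F) : (UnitaryOrder.blockM n A).det = A.det := by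
  rw [Matrix.det_succ_row_zero, Fin.sum_univ_succ]
  have h : (UnitaryOrder.blockM n A).submatrix Fin.succ Fin.succ = A := by
    ext i j; simp [UnitaryOrder.blockM]
  simp [UnitaryOrder.blockM] at h ⊢
  simp [h]

variable (F) in
/-- The four-dimensional group on the last coordinates. -/
noncomputable def iota : SU4 →* SU6 where
  toFun s := ⟨⟨UnitaryOrder.blockM 5 (UnitaryOrder.blockM 4 s.1.1), by
      rw [det_blockM, det_blockM, s.1.2]⟩, fun u v => by
    show H (UnitaryOrder.blockM 5 (UnitaryOrder.blockM 4 s.1.1) *ᵥ u)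
      (UnitaryOrder.blockM 5 (UnitaryOrder.blockM 4 s.1.1) *ᵥ v) = H u v
    simp only [UnitaryOrder.blockM_mulVec]
    conv_rhs => rw [← Fin.cons_self_tail u, ← Fin.cons_self_tail v,
      ← Fin.cons_self_tail (Fin.tail u), ← Fin.cons_self_tail (Fin.tail v)]
    rw [UnitaryOrder.hermForm_cons, UnitaryOrder.hermForm_cons, UnitaryOrder.hermForm_cons,
      UnitaryOrder.hermForm_cons]
    exact congrArg _ (congrArg _ (s.2 _ _))⟩
  map_one' := Subtype.ext (Subtype.ext (by simp))
  map_mul' s t := Subtype.ext (Subtype.ext (by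
    show _ = (_ : Matrix (Fin 6) (Fin 6) F) * _
    simp))

theorem iota_app (s : SU4) (a b : F) (r : W) : app (iota F s) (mk a b r) = mk a b (app s r) := by
  show UnitaryOrder.blockM 5 (UnitaryOrder.blockM 4 s.1.1) *ᵥ (Fin.cons a (Fin.cons b r)) = _
  simp [UnitaryOrder.blockM_mulVec, mk, app]

theorem iota_E (s : SU4) : app (iota F s) (vE F) = vE F := by rw [vE, iota_app, app_zero]

theorem iota_F (w : F) (s : SU4) : app (iota F s) (vF w) = vF w := by rw [vF, iota_app, app_zero]

/-- The point given by an isotropic vector of the complement. -/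
def wPt (r : W) (hr : r ≠ 0) (hrr : H₄ r r = 0) : Pt F :=
  ⟨mk 0 0 r, fun e => hr (mk_inj (e.trans mk_zero.symm)).2.2, by simp [mk_H, hrr]⟩

theorem iota_tr {r : W} (hr : r ≠ 0) (t : IsT 2 r (1 : F)) :
    iota F (tr r 1 t) = T (wPt r hr t.1) := su_ext fun v => by
  show app (iota F (tr r 1 t)) v = app (T _) v
  obtain ⟨a, b, x, rfl⟩ := mk_surj v
  rw [iota_app, T_apply, tr_apply, one_mul]
  show mk a b (x + H₄ x r • r) = mk a b x + H (mk a b x) (mk 0 0 r) • mk 0 0 r
  rw [mk_H, mk_smul, mk_add]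
  simp

theorem exists_frame : ∃ w : F, w * w = w + 1 ∧ w ≠ 0 ∧ w ≠ 1 := exists_om F

/-- A nonorthogonal pair goes to the standard pair. -/
theorem pair_std {w : F} (hw : w * w = w + 1) {p r : Pt F} (h : H p.1 r.1 ≠ 0) :
    ∃ (s : SU6) (c : F), c ≠ 0 ∧ app s p.1 = vE F ∧ app s r.1 = c • vF w := by
  obtain ⟨s₁, hs₁⟩ := S0283.exists_map_vec (q := 2) (by norm_num) p.2.1 vE_ne p.2.2 vE_iso
  set y := app s₁ r.1
  have hyE : H y (vE F) ≠ 0 := fun e => h (H_eq_zero_comm.1 (by
    rw [← hs₁, app_H] at e; exact e))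
  obtain ⟨s₂, hE, hs₂⟩ := S0283.move_partner (q := 2) (x := vE F) (y := (H y (vE F))⁻¹ • y)
    (y' := vF w) vE_iso (by simp [inv_mul_cancel₀ hyE]) (vF_E w)
    (by simp [y, app_H, r.2.2]) (vF_iso hw)
  refine ⟨s₂ * s₁, H y (vE F), hyE, by rw [app_mul, hs₁, hE], ?_⟩
  rw [app_mul, ← hs₂, app_smul, smul_smul, mul_inv_cancel₀ hyE, one_smul]

/-- An orthogonal pair of different points goes to the standard one. -/
theorem orth_std {p r : Pt F} (hne : ∀ c : F, r.1 ≠ c • p.1) (h : H p.1 r.1 = 0) :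
    ∃ (s : SU6), app s p.1 = vE F ∧ app s r.1 = mk 0 0 (rE F) := by
  obtain ⟨w, hw, -, -⟩ := exists_frame (F := F)
  obtain ⟨s₁, hs₁⟩ := S0283.exists_map_vec (q := 2) (by norm_num) p.2.1 vE_ne p.2.2 vE_iso
  obtain ⟨a, b, x, hy⟩ := mk_surj (app s₁ r.1)
  have hyE : a + b = 0 := by
    rw [← vE_H a b x, ← hy, ← hs₁, app_H]
    exact H_eq_zero_comm.1 h
  obtain rfl := eq_of_add_eq_zero hyE
  have hxx : H₄ x x = 0 := by
    have := r.2.2
    rw [← app_H s₁, hy, mk_H, add_self, zero_add] at this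
    exact this
  have hx0 : x ≠ 0 := fun e => hne a (app_injective s₁ (by
    rw [hy, e, app_smul, hs₁, vE, mk_smul]; simp))
  obtain ⟨g, hg⟩ := exists_H_eq_one (q := 2) hx0
  -- remove the first coordinate
  have hgE : H (mk 0 0 (a • g)) (vE F) = 0 := by rw [vE_H, add_zero]
  obtain ⟨t, ht⟩ := exists_isQ (q := 2) vE_iso hgE
  have hq : app (qE (vE F) (mk 0 0 (σ a • g)) _ (exists_isQ (q := 2) vE_iso
      (show H (mk 0 0 (σ a • g)) (vE F) = 0 by rw [vE_H, add_zero])).choose_spec) (mk a a x) =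
      mk 0 0 x := by
    rw [qE_apply, vE_H, add_self, zero_smul, mul_zero, zero_smul, add_zero, add_zero, mk_H,
      H_smul_right, qb_qb, ← H_flip g x, hg, map_one]
    simp only [mul_zero, mul_one, map_zero, zero_add]
    ext i
    refine Fin.cases ?_ (fun i => Fin.cases ?_ (fun i => ?_) i) i <;> simp [mk, vE]
  have hfix : ∀ (u : V) (t : F) (ht : IsQ 2 (vE F) u t), app (qE (vE F) u t ht) (vE F) = vE F := by
    intro u t ht
    rw [qE_apply, vE_iso, zero_smul, add_zero, mul_zero, zero_smul, add_zero,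
      H_eq_zero_comm.1 ht.2.1, zero_smul, sub_zero]
  obtain ⟨g₄, hg₄⟩ := S0283.exists_map_vec (q := 2) (by norm_num) hx0
    (fun e => one_ne_zero (α := F) (by simpa [rE] using congrFun e 0)) hxx (rE_iso (F := F))
  exact ⟨iota F g₄ * qE _ _ _ (exists_isQ (q := 2) vE_iso
      (show H (mk 0 0 (σ a • g)) (vE F) = 0 by rw [vE_H, add_zero])).choose_spec * s₁,
    by rw [app_mul, app_mul, hs₁, hfix, iota_E],
    by rw [app_mul, app_mul, hy, hq, iota_app, hg₄]⟩

end Cfsg.Agent.Fischer3Tv
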