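import Cfsg.Agent.Lib.Fischer3Tv.Basic

/-!
# An involution whose class has small products is a transvection
-/

set_option autoImplicit false
set_option linter.unusedSectionVars false

namespace Cfsg.Agent.Fischer3Tv

open AutPSU

universe u

/-- A product of the four generators of a symmetric group of degree five has order dividing five. -/
theorem four_gen {K : Type*} [Group K] {a b c e : K} (ha : a * a = 1) (hb : b * b = 1)
    (hc : c * c = 1) (he : e * e = 1) (hac : Commute a c) (hae : Commute a e) (hbe : Commute b e)
    (hab : a * b * a = b * a * b) (hbc : b * c * b = c * b * c) (hce : c * e * c = e * c * e) :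
    (a * b * c * e) ^ 5 = 1 := by
  have A : ∀ z, a * (a * z) = z := fun z => by rw [← mul_assoc, ha, one_mul]
  have B : ∀ z, b * (b * z) = z := fun z => by rw [← mul_assoc, hb, one_mul]
  have C : ∀ z, c * (c * z) = z := fun z => by rw [← mul_assoc, hc, one_mul]
  have E : ∀ z, e * (e * z) = z := fun z => by rw [← mul_assoc, he, one_mul]
  have h3 : (a * b) * (a * b) * (a * b) = 1 := by
    calc (a * b) * (a * b) * (a * b) = a * b * a * (b * a * b) := by simp only [mul_assoc]
      _ = (b * a * b) * (b * a * b) := by rw [hab]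
      _ = 1 := by simp only [mul_assoc, B, A, hb]
  obtain ⟨w, hw⟩ : ∃ w, w = a * b := ⟨_, rfl⟩
  rw [← hw] at h3 ⊢
  have h4 : (w * c) * (w * c) * (w * c) * (w * c) = 1 := by
    have s2 : (w * c) * (w * c) = w * w * (c * b) := by
      calc (w * c) * (w * c) = a * b * (c * a) * b * c := by simp only [hw, mul_assoc]
        _ = a * b * a * (c * b * c) := by rw [← hac.eq]; simp only [mul_assoc]
        _ = a * b * a * (b * c * b) := by rw [hbc]
        _ = w * w * (c * b) := by simp only [hw, mul_assoc]
    have s3 : c * b * (w * c) = w * (c * b * a) := by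
      calc c * b * (w * c) = c * (b * a * b) * c := by simp only [hw, mul_assoc]
        _ = (c * a) * b * (a * c) := by rw [← hab]; simp only [mul_assoc]
        _ = (a * c) * b * (c * a) := by rw [hac.eq]
        _ = a * (c * b * c) * a := by simp only [mul_assoc]
        _ = w * (c * b * a) := by rw [← hbc]; simp only [hw, mul_assoc]
    calc (w * c) * (w * c) * (w * c) * (w * c) = (w * c) * (w * c) * (w * c) * w * c := by
          simp only [mul_assoc]
      _ = w * w * w * (c * b * a) * w * c := by rw [s2, mul_assoc (w * w) (c * b), s3]; simp only [mul_assoc]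
      _ = 1 := by rw [h3]; simp only [hw, mul_assoc, one_mul, A, B, hc]
  obtain ⟨v, hv⟩ : ∃ v, v = w * c := ⟨_, rfl⟩
  rw [← hv] at h4 ⊢
  have t2 : (v * e) * (v * e) = v * v * (e * c) := by
    calc (v * e) * (v * e) = w * c * (e * w) * c * e := by simp only [hv, mul_assoc]
      _ = w * c * w * (e * c * e) := by
        rw [show e * w = w * e by rw [hw, ← mul_assoc, ← hae.eq, mul_assoc, ← hbe.eq, ← mul_assoc]]
        simp only [mul_assoc]
      _ = w * c * w * (c * e * c) := by rw [hce]
      _ = v * v * (e * c) := by simp only [hv, mul_assoc]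
  have t3 : e * c * (v * e) = v * (e * c * b) := by
    calc e * c * (v * e) = e * (c * a) * b * c * e := by simp only [hv, hw, mul_assoc]
      _ = e * a * (c * b * c) * e := by rw [← hac.eq]; simp only [mul_assoc]
      _ = e * a * b * c * (b * e) := by rw [← hbc]; simp only [mul_assoc]
      _ = (e * a) * b * c * e * b := by rw [hbe.eq]; simp only [mul_assoc]
      _ = a * (e * b) * c * e * b := by rw [← hae.eq]; simp only [mul_assoc]
      _ = a * b * (e * c * e) * b := by rw [← hbe.eq]; simp only [mul_assoc]
      _ = v * (e * c * b) := by rw [← hce]; simp only [hv, hw, mul_assoc]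
  have t4 : e * c * b * (v * e) = v * (e * c * b * a) := by
    calc e * c * b * (v * e) = e * c * (b * a * b) * c * e := by simp only [hv, hw, mul_assoc]
      _ = e * (c * a) * b * (a * c) * e := by rw [← hab]; simp only [mul_assoc]
      _ = e * (a * c) * b * (c * a) * e := by rw [hac.eq]
      _ = (e * a) * (c * b * c) * (a * e) := by simp only [mul_assoc]
      _ = (a * e) * (b * c * b) * (e * a) := by rw [hae.eq, hbc]
      _ = a * (e * b) * c * (b * e) * a := by simp only [mul_assoc]
      _ = a * (b * e) * c * (e * b) * a := by rw [hbe.eq]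
      _ = a * b * (e * c * e) * b * a := by simp only [mul_assoc]
      _ = v * (e * c * b * a) := by rw [← hce]; simp only [hv, hw, mul_assoc]
  calc (v * e) ^ 5 = (v * e) * (v * e) * (v * e) * (v * e) * (v * e) := by
        simp only [pow_succ, pow_zero, one_mul]
    _ = v * v * (e * c * (v * e)) * (v * e) * (v * e) := by rw [t2]; simp only [mul_assoc]
    _ = v * v * v * (e * c * b * (v * e)) * (v * e) := by rw [t3]; simp only [mul_assoc]
    _ = v * v * v * v * (e * c * b * a) * (v * e) := by rw [t4]; simp only [mul_assoc]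
    _ = 1 := by rw [h4]; simp only [hv, hw, mul_assoc, one_mul, A, B, C, he]

/-- An involution with the two noncommuting exchanged pairs has a product of order five with a conjugate. -/
theorem no_config {K : Type*} [Group K] {x A B : K} (hx : x * x = 1) (hA : A * A = 1)
    (hB : B * B = 1) (cAB : Commute A B) (cAA : Commute (x * A * x) A)
    (bAB : (x * A * x) * B * (x * A * x) = B * (x * A * x) * B)
    (hne : ¬ Commute (x * A * x) B) (bBB : B * (x * B * x) * B = (x * B * x) * B * (x * B * x))
    (h : ∀ g : K, (x * (g * x * g⁻¹)) ^ 2 = 1 ∨ (x * (g * x * g⁻¹)) ^ 3 = 1) : False := by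
  have X : ∀ z, x * (x * z) = z := fun z => by rw [← mul_assoc, hx, one_mul]
  set a := x * A * x with ha'
  set c := x * B * x with hc'
  have ha : a * a = 1 := by simp only [ha', mul_assoc, X]; rw [← mul_assoc A A, hA, one_mul, hx]
  have hc : c * c = 1 := by simp only [hc', mul_assoc, X]; rw [← mul_assoc B B, hB, one_mul, hx]
  have hxg : x * ((A * B) * x * (A * B)⁻¹) = a * c * A * B := by
    rw [mul_inv_rev, inv_eq_of_mul_eq_one_right hA, inv_eq_of_mul_eq_one_right hB, ← cAB.eq]
    simp only [ha', hc', mul_assoc, X]
  have hac : Commute a c := by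
    show a * c = c * a
    simp only [ha', hc', mul_assoc, X]
    rw [← mul_assoc A B, cAB.eq, mul_assoc]
  have hce : c * A * c = A * c * A := by
    have := congrArg (fun z => x * z * x) bAB
    simp only [ha', hc', mul_assoc, X, hx, mul_one] at this ⊢
    exact this.symm
  have h5 := four_gen ha hB hc hA hac cAA cAB.symm bAB bBB hce
  set P := a * c * A * B with hP
  have hP5 : P ^ 5 = 1 := by
    have hconj : P = (c * A) * (a * B * c * A) * (c * A)⁻¹ := by
      rw [hP]
      calc a * c * A * B = (c * a) * A * B := by rw [hac.eq]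
        _ = c * (a * A) * B := by simp only [mul_assoc]
        _ = c * (A * a) * B := by rw [cAA.eq]
        _ = _ := by group
    rw [hconj, conj_pow, h5]
    group
  have hP1 : P ≠ 1 := fun e => hne <| by
    have e' : B = A * (c * a) := by
      have := eq_inv_of_mul_eq_one_right e
      rwa [mul_inv_rev, mul_inv_rev, inv_eq_of_mul_eq_one_right ha, inv_eq_of_mul_eq_one_right hc,
        inv_eq_of_mul_eq_one_right hA] at this
    rw [e']
    exact cAA.mul_right (hac.mul_right (Commute.refl a))
  rcases h (A * B) with e | e <;> rw [hxg] at e <;>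
    exact hP1 (by simpa using pow_gcd_eq_one.2 ⟨e, hP5⟩)

variable {F : Type u} [Field F] [hQ : QField F 2]
include hQ

local notation "σ" => qb (F := F) 2
local notation "V" => Fin 6 → F
set_option quotPrecheck false in
local notation "SU6" => ↥(Cfsg.SU 6 F 2)
local notation "H" => Cfsg.hermForm 6 F 2

/-- Every involution whose conjugates have products of order at most three with it is a transvection. -/
theorem exists_pt {x : Cfsg.PSU 6 F 2} (hx : x * x = 1) (hne : x ≠ 1)
    (h : ∀ g : Cfsg.PSU 6 F 2, (x * (g * x * g⁻¹)) ^ 2 = 1 ∨ (x * (g * x * g⁻¹)) ^ 3 = 1) :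
    ∃ p : Pt F, x = tp p := by
  obtain ⟨s₀, rfl⟩ := proj_surjective (n := 6) (F := F) (q := 2) x
  rw [← map_mul, proj_eq_one_iff] at hx
  obtain ⟨c₀, hc₀⟩ := scalar_of_mem_center (n := 6) (by norm_num) hx
  obtain ⟨y₀, hy₀, -⟩ := exists_isotropic (F := F) (q := 2) (n := 6) (by norm_num)
  -- an involution lifting `x`
  set s := s₀ * (s₀ * s₀) with hs
  have hproj : proj 6 F 2 s = proj 6 F 2 s₀ := by
    rw [hs, map_mul, (proj_eq_one_iff _).2 hx, mul_one]
  have hc0 : c₀ ≠ 0 := fun e => hy₀ (app_injective (s₀ * s₀) (by rw [hc₀, e, zero_smul, app_zero]))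
  have hss : s * s = 1 := su_ext fun v => by
    show app (s * s) v = app 1 v
    rw [show s * s = (s₀ * s₀) * (s₀ * s₀) * (s₀ * s₀) by simp only [hs, mul_assoc], app_mul,
      app_mul, hc₀, hc₀, hc₀, smul_smul, smul_smul, app_one, cube hc0, one_smul]
  have hinv : ∀ v : V, app s (app s v) = v := fun v => by rw [← app_mul, hss, app_one]
  rw [← hproj] at h hne ⊢
  let N : V → V := fun v => app s v + v
  have hNN : ∀ v, N (N v) = 0 := fun v => by
    show app s (app s v + v) + (app s v + v) = 0
    rw [app_add, hinv, add_comm v, vadd_self]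
  have hNadd : ∀ u v : V, N (u + v) = N u + N v := fun u v => by
    show app s (u + v) + (u + v) = _; rw [app_add]; simp only [N]; abel
  have hNsmul : ∀ (k : F) (v : V), N (k • v) = k • N v := fun k v => by
    show app s (k • v) + k • v = _; rw [app_smul, ← smul_add]
  have hself : ∀ u v : V, H (N u) v = H u (N v) := fun u v => by
    show H (app s u + u) v = H u (app s v + v)
    rw [H_add_left, H_add_right]
    conv_lhs => arg 1; rw [← app_H s, hinv]
  have hIm : ∀ u v : V, H (N u) (N v) = 0 := fun u v => by rw [hself, hNN, H_zero_right]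
  have hflip : ∀ u v : V, σ (H (N u) v) = H (N v) u := fun u v => by rw [H_flip, hself v u]
  have hsv : ∀ v : V, app s v = v + N v := fun v => by
    show app s v = v + (app s v + v)
    rw [add_comm (app s v) v, ← add_assoc, vadd_self, zero_add]
  obtain ⟨y, hy⟩ : ∃ y, H (N y) y ≠ 0 := by
    by_contra! hall
    obtain ⟨w, hw, -, hw1⟩ := exists_om F
    have hzero : ∀ u v : V, H (N u) v = 0 := fun u v => by
      by_contra huv
      have e := hall (u + σ (w / H (N u) v) • v)
      simp only [hNadd, hNsmul, H_add_left, H_add_right, H_smul_left, H_smul_right, hall, qb_qb,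
        mul_zero, add_zero, zero_add] at e
      rw [← hflip u v, ← map_mul, div_mul_cancel₀ _ huv, sigma_sq] at e
      exact one_ne_zero (show (1 : F) = 0 by linear_combination e - hw - w * two_zero (F := F))
    refine hne ?_
    rw [show s = 1 from su_ext fun v => by
      show app s v = app 1 v
      rw [hsv, app_one, eq_zero_of_orth' (q := 2) (hzero v), add_zero], map_one]
  have hy1 : H (N y) y = 1 := (trace_zero (by rw [hflip y y, add_self])).resolve_left hy
  -- either a transvection or two independent values
  by_cases hW : ∃ z, H (N z) y = 0 ∧ H (N z) z = 1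
  swap
  · push Not at hW
    have hdiag : ∀ z, H (N z) y = 0 → H (N z) z = 0 := fun z hz =>
      (trace_zero (by rw [hflip z z, add_self])).resolve_right (hW z hz)
    have hprojy : ∀ z, H (N (z + H (N z) y • y)) y = 0 := fun z => by
      rw [hNadd, hNsmul, H_add_left, H_smul_left, hy1, mul_one, add_self]
    obtain ⟨w, hw, -, -⟩ := exists_om F
    have hker : ∀ u v : V, H (N u) v = H (N u) y * H (N y) v := fun u v => by
      set u' := u + H (N u) y • y with hu'
      set v' := v + H (N v) y • y with hv'
      suffices e : H (N u') v' = 0 by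
        simp only [hu', hv', hNadd, hNsmul, H_add_left, H_add_right, H_smul_left, H_smul_right, hy1,
          hflip v y] at e
        linear_combination e - 2 * H (N u) y * H (N y) v * two_zero (F := F)
      by_contra huv
      have hP : H (N (u' + σ (w / H (N u') v') • v')) y = 0 := by
        rw [hNadd, hNsmul, H_add_left, H_smul_left, hprojy, hprojy, mul_zero, add_zero]
      have e := hdiag _ hP
      simp only [hNadd, hNsmul, H_add_left, H_add_right, H_smul_left, H_smul_right,
        hdiag u' (hprojy u), hdiag v' (hprojy v), qb_qb,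
        mul_zero, add_zero, zero_add] at e
      rw [← hflip u' v', ← map_mul, div_mul_cancel₀ _ huv, sigma_sq] at e
      exact one_ne_zero (show (1 : F) = 0 by linear_combination e - hw - w * two_zero (F := F))
    have hp0 : N y ≠ 0 := fun e => hy (by rw [e, H_zero_left])
    refine ⟨⟨N y, hp0, hIm y y⟩, congrArg (proj 6 F 2) (su_ext fun v => ?_)⟩
    show app s v = app (T ⟨N y, hp0, hIm y y⟩) v
    refine Eq.trans ?_ (T_apply ⟨N y, hp0, hIm y y⟩ v).symm
    rw [hsv, ← hself v y]
    congr 1
    refine eq_of_sub_eq_zero (eq_zero_of_orth' (q := 2) fun z => ?_)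
    simp only [H_sub_left, H_smul_left]
    rw [hker v z, sub_self]
  exfalso
  obtain ⟨z, hzy, hzz⟩ := hW
  have hyz : H (N y) z = 0 := by rw [← hflip z y, hzy, map_zero]
  set u := y + z with hu
  obtain ⟨k, hk⟩ := exists_trace (F := F) (q := 2) (c := H u u) (H_self_fixed u)
  obtain ⟨d, hd⟩ := exists_trace (F := F) (q := 2) (c := H y y) (H_self_fixed y)
  set d₂ := σ (H u y + k) + d with hd₂
  set a := u + N (k • y) with ha
  set b := y + N (d • y + d₂ • z) with hb
  have hn1 : H (N u) u = 0 := by simp [hu, hNadd, hy1, hyz, hzy, hzz, add_self]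
  have hn2 : H (N u) y = 1 := by simp [hu, hNadd, hy1, hzy]
  have hn3 : H (N y) u = 1 := by simp [hu, hy1, hyz]
  have hn4 : H (N z) u = 1 := by simp [hu, hzy, hzz]
  have hu1 : H u (N y) = 1 := by rw [← hself]; exact hn2
  have hu2 : H u (N z) = 1 := by rw [← hself]; simp [hu, hNadd, hyz, hzz]
  have hy2 : H y (N y) = 1 := by rw [← hself]; exact hy1
  have hy3 : H y (N z) = 0 := by rw [← hself]; exact hyz
  have haa : H a a = 0 := by
    simp only [ha, hNsmul, H_add_left, H_add_right, H_smul_left, H_smul_right, hIm, hn3, hu1]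
    linear_combination hk + H u u * two_zero (F := F)
  have hbb : H b b = 0 := by
    simp only [hb, hNadd, hNsmul, H_add_left, H_add_right, H_smul_left, H_smul_right, hIm, hy1,
      hzy, hy2, hy3]
    linear_combination hd + H y y * two_zero (F := F)
  have hab : H a b = 0 := by
    simp only [ha, hb, hNadd, hNsmul, H_add_left, H_add_right, H_smul_left, H_smul_right, hIm, hy1,
      hu1, hu2, hd₂, map_add, qb_qb]
    linear_combination (H u y + k + σ d) * two_zero (F := F)
  have hNa : N a = N u := by rw [ha, hNadd, hNN, add_zero]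
  have hNb : N b = N y := by rw [hb, hNadd, hNN, add_zero]
  have ba : H (N a) a = 0 := by rw [hNa, ha, H_add_right, hIm, hn1, add_zero]
  have bb : H (N b) b = 1 := by rw [hNb, hb, H_add_right, hIm, hy1, add_zero]
  have bab : H (N a) b = 1 := by rw [hNa, hb, H_add_right, hIm, hn2, add_zero]
  have ha0 : a ≠ 0 := fun e => by rw [e, H_zero_left] at hab; rw [e, show N (0 : V) = 0 by
    simp only [N, app_zero, add_zero], H_zero_left] at bab; exact zero_ne_one bab
  have hb0 : b ≠ 0 := fun e => by rw [e, H_zero_right] at bab; exact zero_ne_one bab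
  set A : Pt F := ⟨a, ha0, haa⟩
  set B : Pt F := ⟨b, hb0, hbb⟩
  have hconj : ∀ p : Pt F, proj 6 F 2 s * tp p * proj 6 F 2 s = tp (p.move s) := fun p => by
    have := tp_conj s p
    rwa [← map_inv, inv_eq_of_mul_eq_one_right hss] at this
  have hm1 : H (app s a) a = 0 := by rw [hsv, H_add_left, haa, ba, add_zero]
  have hm2 : H (app s a) b ≠ 0 := by rw [hsv, H_add_left, hab, bab, zero_add]; exact one_ne_zero
  have hm3 : H b (app s b) ≠ 0 := by
    rw [hsv, H_add_right, hbb, ← hself, bb, zero_add]; exact one_ne_zero
  refine no_config (A := tp A) (B := tp B) (by rw [← map_mul, hss, map_one]) (tp_sq A) (tp_sq B)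
    ((tp_comm_iff A B).2 hab) ?_ ?_ ?_ ?_ h
  · rw [hconj]; exact (tp_comm_iff _ _).2 hm1
  · rw [hconj]; exact tp_braid _ _ hm2
  · rw [hconj]; exact fun e => hm2 ((tp_comm_iff _ _).1 e)
  · rw [hconj]; exact tp_braid _ _ hm3

end Cfsg.Agent.Fischer3Tv
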