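import Cfsg.Agent.Lib.Fischer3Tv.Base
import Cfsg.Agent.Lib.Fischer3Srg.Common
import Cfsg.Agent.Lib.Fischer3Srg.ReflCard

/-!
# The strongly regular graph of a group of type M22
-/

set_option autoImplicit false
set_option linter.unusedSectionVars false
set_option linter.style.haveILetI false

namespace Cfsg.Agent.Fischer3Tv

open Cfsg ClassK Fischer3 Fischer3Rel AutPSU Fischer3Srg

universe u

variable {G : Type u} [Group G] [Finite G] {D : Set G}

theorem exists_member_list (hS : IsThreeTranspositionSet D) {b x : G} (hx : x ∈ H D b) :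
    ∃ L : List ↥(perp D b), (L.map Subtype.val).prod = x := by
  obtain ⟨l, hl, hlp⟩ := Submonoid.exists_list_of_mem_closure ((Subgroup.closure_toSubmonoid _).le hx)
  have hl' : ∀ g ∈ l, g ∈ perp D b := fun g hg => (hl g hg).elim id fun h => by
    have h' : g⁻¹ ∈ perp D b := h
    rwa [← tt_inv hS h'.1, inv_inv] at h'
  exact ⟨l.pmap Subtype.mk hl', by rw [List.map_pmap]; simpa using hlp⟩

section hom

variable {b : G} {F : Type} [Field F] [QField F 2] (C : Chart D b F) (hS : IsThreeTranspositionSet D)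
include hS

theorem Chart.list_congr (L M : List ↥(perp D b))
    (h : (L.map Subtype.val).prod = (M.map Subtype.val).prod) :
    (L.map (tp ∘ C.pt)).prod = (M.map (tp ∘ C.pt)).prod := C.prod_congr L M fun y hy => by
  rw [List.map_append, List.prod_append, h,
    show (M.reverse.map Subtype.val).prod = ((M.map Subtype.val).prod)⁻¹ by
      rw [List.prod_inv_reverse, List.map_reverse, List.map_map]
      exact congrArg (fun l : List G => l.reverse.prod)
        (List.map_congr_left fun z _ => (tt_inv hS z.2.1).symm),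
    mul_inv_cancel]
  exact Commute.one_left y

/-- The map to the unitary group. -/
noncomputable def Chart.hom : ↥(H D b) →* Cfsg.PSU 6 F 2 :=
  MonoidHom.mk' (fun x => ((exists_member_list hS x.2).choose.map (tp ∘ C.pt)).prod) fun x y => by
    show _ = _ * _
    rw [← List.prod_append, ← List.map_append]
    refine C.list_congr hS _ _ ?_
    rw [List.map_append, List.prod_append, (exists_member_list hS (x * y).2).choose_spec,
      (exists_member_list hS x.2).choose_spec, (exists_member_list hS y.2).choose_spec]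
    rfl

theorem Chart.hom_mem (y : ↥(perp D b)) :
    C.hom hS ⟨y, Subgroup.subset_closure y.2⟩ = tp (C.pt y) := by
  have := C.list_congr hS (exists_member_list hS (Subgroup.subset_closure y.2 : (y : G) ∈ H D b)).choose
    [y] (by rw [(exists_member_list hS (Subgroup.subset_closure y.2 : (y : G) ∈ H D b)).choose_spec]; simp)
  exact this.trans (by simp)

theorem Chart.hom_eq_one (x : ↥(H D b)) :
    C.hom hS x = 1 ↔ ∀ y ∈ perp D b, Commute (x : G) y := by
  have h := C.rel (exists_member_list hS x.2).choose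
  rw [(exists_member_list hS x.2).choose_spec] at h
  exact h

end hom

theorem between {m : ℤ} (h : 0 ≤ -(m * m) + 324 * m - 24948) : 126 ≤ m ∧ m ≤ 198 := by
  refine ⟨?_, ?_⟩ <;> by_contra! h1
  · nlinarith [mul_pos (show (0 : ℤ) < 126 - m by omega) (show (0 : ℤ) < 198 - m by omega)]
  · nlinarith [mul_pos (show (0 : ℤ) < m - 126 by omega) (show (0 : ℤ) < m - 198 by omega)]

theorem comm_T {F : Type} [Field F] [QField F 2] {g : Cfsg.PSU 6 F 2} {p q : Pt F} (h : tp p = tp q)
    (hg : Commute g (tp p)) : Commute g (tp q) := h ▸ hg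

section

variable (hG : IsThreeTranspositionGroup D) (hprim : IsPrimitiveUnderConj D) (hM : IsOfTypeM22 G D)
include hG hprim hM

set_option maxHeartbeats 1000000 in
theorem rigid_below : RigidBelow D := by
  intro x hx a ha e he hae g hg hga hge hall
  obtain ⟨F, _, _, ⟨C⟩⟩ := exists_chart hG hprim hM hx
  obtain ⟨w, hw, -, -⟩ := exists_frame (F := F)
  set a' : ↥(perp D x) := ⟨a, ha⟩
  set e' : ↥(perp D x) := ⟨e, he⟩
  obtain ⟨s, c, hc, hs, hs'⟩ := pair_std hw (p := C.pt a') (r := C.pt e')
    fun h => hae ((C.comm a' e').2 h)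
  set k := proj 6 F 2 s
  set φ := C.hom hG.1
  set g' := k * φ ⟨g, hg⟩ * k⁻¹ with hg'
  have hcm : ∀ y : ↥(perp D x), Commute g (y : G) → Commute g' (tp ((C.pt y).move s)) := by
    intro y h
    have h1 := ((show Commute (⟨g, hg⟩ : ↥(H D x)) ⟨y, Subgroup.subset_closure y.2⟩ from
      Subtype.ext h).map φ).map (MulAut.conj k).toMonoidHom
    rw [C.hom_mem] at h1
    rw [← tp_conj]
    exact h1
  have h1 : Commute g' (tp (⟨vE F, vE_ne, vE_iso⟩ : Pt F)) :=
    comm_T (congrArg tp (Subtype.ext hs)) (hcm a' hga)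
  obtain ⟨s', hsg, hsE⟩ := normalise h1
  have hF0 : vF (F := F) w ≠ 0 := fun h => by
    have := vF_E (F := F) w
    rw [h, H_zero_left] at this
    exact zero_ne_one this
  let pF : Pt F := ⟨vF w, hF0, vF_iso hw⟩
  have h2 : Commute g' (tp pF) :=
    comm_T ((tp_eq_iff pF _).2 ⟨c, hs'⟩).symm (hcm e' hge)
  have hsF : app s' (vF w) = vF w := by
    obtain ⟨γ, hγ⟩ := (tp_eq_iff pF (pF.move s')).1 (by
      rw [← tp_conj, hsg, h2.eq, mul_inv_cancel_right])
    change app s' (vF w) = γ • vF w at hγ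
    have h3 := app_H s' (vF w) (vE F)
    rw [hsE, hγ, H_smul_left, vF_E, mul_one] at h3
    rw [hγ, h3, one_smul]
  obtain ⟨q, hq⟩ := fix_pair hw hsE hsF
  have hgq : gam F q = g' := by rw [← hsg, ← hq]; rfl
  -- the element of the four-dimensional group commutes with the transvections
  have hq1 : q = 1 := by
    have hgen := S0283.closure_tr (n := 4) (F := F) (q := 2) (card_four) (by norm_num)
    have hz : q ∈ Subgroup.center ↥(Cfsg.SU 4 F 2) := by
      refine Subgroup.mem_center_iff.2 fun y => Subgroup.mem_centralizer_singleton_iff.1 ?_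
      have hy := Subgroup.mem_top y
      rw [← hgen] at hy
      refine (Subgroup.closure_le _).2 ?_ hy
      rintro _ ⟨r, t, h, hr, rfl⟩
      refine Subgroup.mem_centralizer_singleton_iff.2 (Commute.eq (Commute.symm ?_))
      rcases trace_zero h.2 with rfl | rfl
      · rw [tr_zero]; exact Commute.one_right q
      refine gam_injective (F := F) ?_
      rw [map_mul, map_mul, hgq]
      obtain ⟨m, hm⟩ := C.surj ((wPt r hr h.1).move s⁻¹)
      have hor : ∀ y : ↥(perp D x), Cfsg.hermForm 6 F 2 (mk 0 0 r) (app s (C.pt y).1) = 0 →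
          Commute (m : G) y := fun y h0 => (C.comm m y).2 ((Chart.orth_tp _ hm).2 (by
        rw [← app_H s]
        simpa [Pt.move, wPt, app_inv'] using h0))
      have ca : Commute (m : G) a := hor a' (by rw [hs, vE_H, add_zero])
      have ce : Commute (m : G) e := hor e' (by rw [hs', H_smul_right, vF, mk_H]; simp)
      have hmg := hcm m (hall m ⟨⟨m.2, m.2.1, fun h => hae (h ▸ ce), ca.symm⟩, m.2.1,
        fun h => hae (h ▸ ca).symm, ce.symm⟩)
      have hT : tp ((C.pt m).move s) = gam F (tr r 1 h) := by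
        rw [gam, MonoidHom.comp_apply, iota_tr hr h]
        show _ = tp (wPt r hr h.1)
        rw [← tp_conj, hm, tp_conj]
        exact congrArg tp (Subtype.ext (app_inv' s _))
      rw [hT] at hmg
      exact hmg.eq
    obtain ⟨z, hz'⟩ := scalar_of_mem_center (n := 4) (by norm_num) hz
    have hA : (q.1.1 : Matrix (Fin 4) (Fin 4) F) = z • 1 :=
      Matrix.ext_iff_mulVec.2 fun v => by rw [Matrix.smul_mulVec, Matrix.one_mulVec]; exact hz' v
    have hdet := q.1.2
    rw [hA, Matrix.det_smul, Matrix.det_one, mul_one, Fintype.card_fin] at hdet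
    have hz0 : z ≠ 0 := fun h => by rw [h] at hdet; simp at hdet
    have hz1 : z = 1 := by linear_combination hdet - z * cube hz0
    exact su_ext fun v => (hz' v).trans (by rw [hz1, one_smul]; exact (app_one v).symm)
  have hφ : φ ⟨g, hg⟩ = 1 := by
    rw [hq1, map_one] at hgq
    simpa [hg'] using hgq.symm
  exact central_perp hG hprim hM hx hg ((C.hom_eq_one hG.1 ⟨g, hg⟩).1 hφ)

theorem stab_image {d c b : G} (hd : d ∈ D) (hc : c ∈ D) (hdc : ¬ Commute d c)
    (hb : b ∈ perp D d ∩ perp D c) : 2 * 25920 ∣ Nat.card ↥(locStab D d c b) := by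
  obtain ⟨F, _, _, ⟨C⟩⟩ := exists_chart hG hprim hM hb.1.1
  haveI : Finite F := finite_field (F := F) (q := 2)
  haveI := Fintype.ofFinite F
  obtain ⟨w, hw, -, -⟩ := exists_frame (F := F)
  set d' : ↥(perp D b) := ⟨d, Fischer3Srg.perp_symm hd hb.1⟩
  set c' : ↥(perp D b) := ⟨c, Fischer3Srg.perp_symm hc hb.2⟩
  obtain ⟨s, γ, hγ, hs, hs'⟩ := pair_std hw (p := C.pt d') (r := C.pt c')
    fun h => hdc ((C.comm d' c').2 h)
  have hB := below_base hG hprim hM
  refine two_mul_dvd hG.1 hb.1.1 (locStab_le_H hB.self d c b hb.1.1)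
    (Subgroup.subset_closure (Or.inr rfl)) (C.hom hG.1)
    (fun h => (C.hom_eq_one hG.1 _).2 fun y hy => hy.2.2) ?_
  have hcard : Nat.card ↥(Cfsg.SU 4 F 2) = 25920 := by
    have hF : Fintype.card F = 2 ^ 2 := by rw [← Nat.card_eq_fintype_card, card_four]; norm_num
    have h := UnitaryOrder.card_SU (F := F) hF 4 (by norm_num)
    rw [UnitaryOrder.card_GU hF 4] at h
    norm_num [Finset.prod_range_succ, Nat.even_iff] at h
    omega
  set P := ((locStab D d c b).subgroupOf (H D b)).map (C.hom hG.1)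
  have hle : (gam F).range ≤ P.map (MulAut.conj (proj 6 F 2 s)).toMonoidHom := by
    rintro _ ⟨y, rfl⟩
    refine (Subgroup.closure_le _).2 ?_ (gam_mem y (w := w))
    rintro _ ⟨p, ⟨hpE, hpF⟩, rfl⟩
    obtain ⟨m, hm⟩ := C.surj (p.move s⁻¹)
    have hor : ∀ z : ↥(perp D b), Cfsg.hermForm 6 F 2 p.1 (app s (C.pt z).1) = 0 → Commute (m : G) z :=
      fun z h0 => (C.comm m z).2 ((Chart.orth_tp _ hm).2 (by
        rw [← app_H s]
        simpa [Pt.move, app_inv'] using h0))
    have cd : Commute (m : G) d := hor d' (by rw [hs]; exact hpE)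
    have cc : Commute (m : G) c := hor c' (by rw [hs', H_smul_right, hpF, mul_zero])
    refine ⟨tp (C.pt m), ⟨⟨m, Subgroup.subset_closure m.2⟩, Subgroup.subset_closure (Or.inl
      ⟨⟨m.2, m.2.1, fun h => hdc ((show (m : G) = d from h) ▸ cc), cd.symm⟩, m.2.1,
        fun h => hdc ((show (m : G) = c from h) ▸ cd).symm, cc.symm⟩),
      C.hom_mem hG.1 m⟩, ?_⟩
    show proj 6 F 2 s * tp (C.pt m) * (proj 6 F 2 s)⁻¹ = tp p
    rw [hm, tp_conj]
    exact congrArg tp (Subtype.ext (app_inv' s p.1))
  have h := Subgroup.card_dvd_of_le hle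
  rw [← Nat.card_congr (MonoidHom.ofInjective (gam_injective (F := F))).toEquiv, hcard,
    Subgroup.card_map_of_injective (MulAut.conj (proj 6 F 2 s)).injective] at h
  exact h

theorem exists_wit : ∃ a ∈ D, ∃ b ∈ D, a ≠ b ∧ Commute a b := by
  obtain ⟨d, hd, -⟩ := hprim.2.1
  obtain ⟨y, hy⟩ := exists_perp hG hprim hM hd
  exact ⟨d, hd, y, hy.1, hy.2.1.symm, hy.2.2⟩

/-- Noncommuting members have 126 common neighbours; the orders that go with it. -/
theorem mu_eq : (∀ d ∈ D, ∀ c ∈ D, ¬ Commute d c → (perp D d ∩ perp D c).ncard = 126) ∧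
    Rigid D ∧ ∀ d ∈ D, ∀ c ∈ D, ¬ Commute d c → 126 * 51840 ∣ Nat.card ↥(L D d c) := by
  have hB := below_base hG hprim hM
  obtain ⟨μ, hμ⟩ := exists_mu (setup hG hprim hM.1 (exists_wit hG hprim hM)) hG
  obtain ⟨-, d, hd, c, hc, hdc, -, ⟨c₃, hc₃, Q, hQ, hdet, ⟨e⟩⟩⟩ := id hM
  have hM' : IsOfTypeM22 G D := hM
  have h1 := count_A hB.loc hμ hd
  norm_num at h1
  have hμ0 : 0 < μ := by
    rcases Nat.eq_zero_or_pos μ with e | e
    · rw [e] at h1; norm_num at h1
    · exact e
  have hvar := (moments hB.loc hμ hd hc hdc).1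
  push_cast at hvar
  have hq : (0 : ℤ) ≤ -((μ : ℤ) * μ) + 324 * μ - 24948 := by
    have h45 : (0 : ℤ) < 45 * μ := by positivity
    refine nonneg_of_mul_nonneg_right (a := 45 * (μ : ℤ)) ?_ h45
    linear_combination hvar
  obtain ⟨hlo', hhi'⟩ := between hq
  have hlo : 126 ≤ μ := by exact_mod_cast hlo'
  have hhi : μ ≤ 198 := by exact_mod_cast hhi'
  have hR := rigid hB (rigid_below hG hprim hM') hμ (by omega : 45 + 1 < μ)
  have hdvd : ∀ a ∈ D, ∀ f ∈ D, ¬ Commute a f → μ * 51840 ∣ Nat.card ↥(L D a f) := by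
    intro a ha f hf haf
    obtain ⟨b, hb⟩ := Set.nonempty_of_ncard_ne_zero (s := perp D a ∩ perp D f)
      (by rw [hμ a ha f hf haf]; omega)
    refine (mul_dvd_mul_left μ (stab_image hG hprim hM' ha hf haf hb)).trans
      (mu_mul_dvd hG hB.loc hμ (by omega) ha hf haf hb (locStab_le a f b hb) fun t ht => ?_)
    exact commute_of_mem_H (locStab_le_H hB.self a f b hb.1.1 ht)
  have h2 : μ * 51840 ∣ 252 * 51840 := by
    refine (hdvd d hd c hc hdc).trans ?_
    rw [card_L hR hd hc hdc, Nat.card_congr e.toEquiv,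
      show 252 * 51840 = 13063680 by norm_num, ← card_refl_six Q hQ hdet hc₃]
    exact Subgroup.card_quotient_dvd_card _
  have h3 : μ ∣ 252 := (Nat.mul_dvd_mul_iff_right (by norm_num)).1 h2
  have hμeq : μ = 126 := by
    obtain ⟨k, hk⟩ := h3
    have h4 : k ≤ 2 := by
      by_contra! h
      exact absurd (Nat.mul_le_mul hlo (h : 3 ≤ k)) (by omega)
    interval_cases k <;> omega
  subst hμeq
  exact ⟨hμ, hR, hdvd⟩

theorem linked : Linked D := by
  refine linked_of_local (below_base hG hprim hM).loc (mu_eq hG hprim hM).1 (by norm_num) (by norm_num)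
    (by norm_num) (by norm_num) (by norm_num) (by norm_num) (by norm_num) (by norm_num) (by norm_num)
    fun d hd b hb x hx y hy hxy => quad_base hG hprim hM hd hb hx hy hxy

theorem srg : Srg D 3510 693 180 126 :=
  srg_of (class_of_primitive hG hprim) (below_base hG hprim hM) (linked hG hprim hM) (by norm_num)
    (by norm_num) (mu_eq hG hprim hM).1 (by norm_num)

theorem centralizer_member {d : G} (hd : d ∈ D) : Subgroup.centralizer {d} = H D d :=
  (srg hG hprim hM).cent d hd

end

end Cfsg.Agent.Fischer3Tv
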