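import Cfsg.Agent.Lib.Fischer3Tv.Counts

/-!
# The stabiliser of a point is generated by the transvections of orthogonal points
-/

set_option autoImplicit false
set_option linter.unusedSectionVars false
set_option linter.style.haveILetI false

open scoped Matrix

namespace Cfsg.Agent.Fischer3Tv

open AutPSU

universe u

variable {F : Type u} [Field F] [hQ : QField F 2]
include hQ

local notation "σ" => qb (F := F) 2
local notation "V" => Fin 6 → F
local notation "W" => Fin 4 → F
set_option quotPrecheck false in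
local notation "SU6" => ↥(Cfsg.SU 6 F 2)
set_option quotPrecheck false in
local notation "SU4" => ↥(Cfsg.SU 4 F 2)
local notation "H" => Cfsg.hermForm 6 F 2
local notation "H₄" => Cfsg.hermForm 4 F 2

variable (F) in
/-- The image of the four-dimensional group. -/
noncomputable def gam : SU4 →* Cfsg.PSU 6 F 2 := (proj 6 F 2).comp (iota F)

theorem gam_injective : Function.Injective (gam F) := by
  refine (injective_iff_map_eq_one _).2 fun s hs => ?_
  obtain ⟨c, hc⟩ := scalar_of_mem_center (n := 6) (by norm_num)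
    ((proj_eq_one_iff (iota F s)).1 hs)
  have h1 := hc (vE F)
  rw [iota_E] at h1
  have hc1 : c = 1 := smul_left_injective F vE_ne (show c • vE F = (1 : F) • vE F by
    rw [one_smul]; exact h1.symm)
  refine su_ext fun r => ?_
  show app s r = app 1 r
  have h2 := hc (mk 0 0 r)
  rw [iota_app, hc1, one_smul] at h2
  rw [app_one, (mk_inj h2).2.2]

theorem gam_mem (s : SU4) {w : F} :
    gam F s ∈ Subgroup.closure (Q fun v : V => H v (vE F) = 0 ∧ H v (vF w) = 0) := by
  have hgen := S0283.closure_tr (n := 4) (F := F) (q := 2) hQ.card (by norm_num)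
  have hle : Subgroup.closure {g : SU4 | ∃ (x : W) (t : F) (h : IsT 2 x t), x ≠ 0 ∧ g = tr x t h} ≤
      (Subgroup.closure (Q fun v : V => H v (vE F) = 0 ∧ H v (vF w) = 0)).comap (gam F) := by
    refine (Subgroup.closure_le _).2 ?_
    rintro _ ⟨x, t, h, hx, rfl⟩
    rcases trace_zero h.2 with rfl | rfl
    · rw [tr_zero]; exact one_mem _
    · refine Subgroup.subset_closure ⟨wPt x hx h.1, ⟨?_, ?_⟩, ?_⟩
      · show H (mk 0 0 x) (vE F) = 0
        rw [vE_H, add_zero]
      · show H (mk 0 0 x) (vF w) = 0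
        simp [vF, mk_H]
      · rw [gam, MonoidHom.comp_apply, iota_tr hx h]; rfl
  exact hle (hgen ▸ Subgroup.mem_top s)

/-- An element fixing the standard pair is in the four-dimensional group. -/
theorem fix_pair {w : F} (hw : w * w = w + 1) {s : SU6} (hE : app s (vE F) = vE F)
    (hF : app s (vF w) = vF w) : ∃ g : SU4, iota F g = s := by
  have e0 : mk 1 0 0 = (w + 1) • vE F + vF w := by
    rw [vE, vF, mk_smul, mk_add]
    congr 1
    · linear_combination -w * two_zero (F := F)
    · linear_combination -(w + 1) * two_zero (F := F)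
    · simp
  have e1 : mk 0 1 0 = w • vE F + vF w := by
    rw [vE, vF, mk_smul, mk_add]
    congr 1
    · linear_combination -w * two_zero (F := F)
    · linear_combination -w * two_zero (F := F)
    · simp
  have f0 : app s (mk 1 0 0) = mk 1 0 0 := by rw [e0, app_add, app_smul, hE, hF]
  have f1 : app s (mk 0 1 0) = mk 0 1 0 := by rw [e1, app_add, app_smul, hE, hF]
  have him : ∀ r : W, ∃ r', app s (mk 0 0 r) = mk 0 0 r' := by
    intro r
    obtain ⟨a, b, x, hx⟩ := mk_surj (app s (mk 0 0 r))
    have ha := app_H s (mk 0 0 r) (mk 1 0 0)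
    rw [f0, hx] at ha
    simp [mk_H] at ha
    have hb := app_H s (mk 0 0 r) (mk 0 1 0)
    rw [f1, hx] at hb
    simp [mk_H] at hb
    exact ⟨x, by rw [hx, ha, hb]⟩
  choose L hL using him
  have happ : ∀ a b r, app s (mk a b r) = mk a b (L r) := fun a b r => by
    rw [show mk a b r = a • mk 1 0 0 + (b • mk 0 1 0 + mk 0 0 r) by simp [mk_smul, mk_add],
      app_add, app_add, app_smul, app_smul, f0, f1, hL]
    simp [mk_smul, mk_add]
  -- the matrix of the restriction
  let A : Matrix (Fin 4) (Fin 4) F := s.1.1.submatrix (fun i => i.succ.succ) fun i => i.succ.succ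
  have hA : s.1.1 = UnitaryOrder.blockM 5 (UnitaryOrder.blockM 4 A) := by
    refine Matrix.ext_of_mulVec_single fun i => ?_
    obtain ⟨a, b, r, h⟩ := mk_surj (Pi.single i 1 : V)
    show app s (Pi.single i 1) = _
    rw [h, happ, mk, mk, UnitaryOrder.blockM_mulVec]
    simp only [Fin.cons_zero, Fin.cons_succ, UnitaryOrder.blockM_mulVec]
    congr 2
    funext j
    have h2 := congrFun (happ 0 0 r) j.succ.succ
    simp only [app, mk, Matrix.mulVec, dotProduct, Fin.sum_univ_succ, Fin.cons_zero, Fin.cons_succ,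
      mul_zero, zero_add] at h2
    simp only [A, Matrix.mulVec, dotProduct, Fin.sum_univ_succ, Matrix.submatrix_apply]
    exact h2.symm
  have hdet : A.det = 1 := by
    have := s.1.2
    rwa [hA, det_blockM, det_blockM] at this
  refine ⟨⟨⟨A, hdet⟩, fun u v => ?_⟩, Subtype.ext (Subtype.ext hA.symm)⟩
  have h := app_H s (mk 0 0 u) (mk 0 0 v)
  simp only [app, mk, hA, UnitaryOrder.blockM_mulVec, Fin.cons_zero, Fin.cons_succ,
    UnitaryOrder.hermForm_cons, zero_mul, zero_add] at h
  exact h

variable (F) in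
/-- The group of the transvections of the points orthogonal to the first standard vector. -/
noncomputable def orthGroup : Subgroup (Cfsg.PSU 6 F 2) :=
  Subgroup.closure (Q fun v : V => H v (vE F) = 0)

theorem two_iso (x : W) : ∃ s₁ s₂ : W, H₄ s₁ s₁ = 0 ∧ H₄ s₂ s₂ = 0 ∧ x = s₁ + s₂ := by
  classical
  by_cases hx : H₄ x x = 0
  · exact ⟨x, 0, hx, by simp, (add_zero x).symm⟩
  have hxx : H₄ x x = 1 := (trace_zero (by rw [H_self_fixed, add_self])).resolve_left hx
  obtain ⟨i, hi⟩ : ∃ i, x i ≠ 0 := by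
    by_contra! h
    exact hx (by rw [show x = 0 from funext h, H_zero_left])
  obtain ⟨j, hji⟩ : ∃ j : Fin 4, j ≠ i := exists_ne i
  obtain ⟨w, hw, hw0, hw1⟩ := exists_om F
  set a : F := x i * w
  set c : F := if x j = 0 then 1 else x j
  have ha : a ≠ 0 := mul_ne_zero hi hw0
  have hxa : x i + a ≠ 0 := fun e => hw1 (by
    have := (eq_of_add_eq_zero e)
    exact mul_left_cancel₀ hi (by rw [mul_one]; exact this.symm))
  have hc : c ≠ 0 := by simp only [c]; split_ifs <;> simp_all
  set s₁ : W := a • Pi.single i (1 : F) + c • Pi.single j (1 : F)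
  have hs : ∀ k l : Fin 4, H₄ (Pi.single k (1 : F)) (Pi.single l (1 : F)) = if k = l then 1 else 0 := by
    intro k l
    rw [H_eq, Finset.sum_eq_single k (by intro b _ hb; simp [hb]) (by simp)]
    by_cases h : k = l
    · subst h; simp
    · simp [h, Pi.single_eq_of_ne h]
  have h11 : H₄ s₁ s₁ = 0 := by
    simp only [s₁, H_add_left, H_add_right, H_smul_left, H_smul_right, hs, if_true, if_neg hji,
      if_neg hji.symm, mul_zero, add_zero, mul_one, zero_add]
    rw [mul_comm, norm_one ha, mul_comm, norm_one hc, add_self]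
  have hxs : ∀ k : Fin 4, H₄ x (Pi.single k (1 : F)) = x k := by
    intro k
    rw [H_eq, Finset.sum_eq_single k (by intro b _ hb; simp [hb]) (by simp)]
    simp
  have hx1 : H₄ x s₁ = σ a * x i + σ c * x j := by
    simp only [s₁, H_add_right, H_smul_right, hxs]
  have hx2 : H₄ s₁ x = a * σ (x i) + c * σ (x j) := by
    have hsx : ∀ k : Fin 4, H₄ (Pi.single k (1 : F)) x = σ (x k) := fun k => by rw [← hxs, H_flip]
    simp only [s₁, H_add_left, H_smul_left, hsx]
  refine ⟨s₁, x + s₁, h11, ?_, by rw [← add_assoc, add_comm s₁ x, add_assoc, ← two_smul F s₁,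
    two_zero, zero_smul, add_zero]⟩
  rw [H_add_left, H_add_right x x s₁, H_add_right s₁ x s₁, h11, add_zero, hxx, hx1, hx2]
  have e1 : σ a * x i + a * σ (x i) = 1 := by
    simp only [a, sigma_sq]
    have := cube hi
    grind [two_zero (F := F)]
  have e2 : σ c * x j + c * σ (x j) = 0 := by
    simp only [c]
    split_ifs with h
    · simp [h]
    · rw [mul_comm, add_self]
  linear_combination e1 + e2 + two_zero (F := F)

/-- The orthogonal transvections are transitive on the partners. -/
theorem partner_trans {w : F} (hw : w * w = w + 1) {y : V} (hy : H y y = 0) (hyE : H y (vE F) = 1) :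
    ∃ s : SU6, proj 6 F 2 s ∈ orthGroup F ∧ app s (vE F) = vE F ∧ app s (vF w) = y := by
  classical
  -- one transvection
  have step : ∀ (α : F) (t : W), H₄ t t = 0 → (α ≠ 0 ∨ t ≠ 0) →
      ∃ s : SU6, proj 6 F 2 s ∈ orthGroup F ∧ app s (vE F) = vE F ∧
        ∀ a b x, app s (mk a b x) = mk a b x + H (mk a b x) (mk α α t) • mk α α t := by
    intro α t ht hne
    have h0 : mk α α t ≠ 0 := fun e => by
      obtain ⟨e1, -, e2⟩ := mk_inj (e.trans mk_zero.symm)
      exact hne.elim (fun h => h e1) (fun h => h e2)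
    let p : Pt F := ⟨mk α α t, h0, by rw [mk_H, add_self, zero_add, ht]⟩
    have hp : H p.1 (vE F) = 0 := by show H (mk α α t) (vE F) = 0; rw [vE_H, add_self]
    refine ⟨T p, Subgroup.subset_closure ⟨p, hp, rfl⟩, ?_, fun a b x => T_apply p _⟩
    rw [T_apply, H_eq_zero_comm.1 hp, zero_smul, add_zero]
  obtain ⟨a, b, x, rfl⟩ := mk_surj y
  rw [vE_H] at hyE
  obtain ⟨s₁, s₂, h1, h2, hx⟩ := two_iso x
  obtain ⟨g₁, m₁, f₁, a₁⟩ := step 1 s₁ h1 (Or.inl one_ne_zero)
  set α := σ (1 + H₄ s₁ s₂)
  obtain ⟨g₂, m₂, f₂, a₂⟩ := step α s₂ h2 (by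
    by_cases h : s₂ = 0
    · exact Or.inl (by simp [α, h])
    · exact Or.inr h)
  have hab : w + (w + 1) = (1 : F) := by linear_combination w * two_zero (F := F)
  have e1 : app g₁ (vF w) = mk (w + 1) w s₁ := by
    rw [vF, a₁, mk_H, map_one, mul_one, mul_one, H_zero_left, add_zero, hab, one_smul, mk_add,
      zero_add, add_assoc, add_self, add_zero]
  have e2 : app g₂ (mk (w + 1) w s₁) = mk (w + 1 + α) (w + α) x := by
    rw [a₂, mk_H, show (w + 1) * σ α + w * σ α + H₄ s₁ s₂ = 1 by
      simp only [α, qb_qb]; linear_combination (w + w * H₄ s₁ s₂ + H₄ s₁ s₂) * two_zero (F := F),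
      one_smul, mk_add, ← hx]
  have hδ : a + (w + 1 + α) = 0 ∨ a + (w + 1 + α) = 1 := by
    refine trace_zero ?_
    have h4 := hy
    rw [mk_H] at h4
    have h5 : H (mk (w + 1 + α) (w + α) x) (mk (w + 1 + α) (w + α) x) = 0 := by
      rw [← e2, app_H, ← e1, app_H, vF_iso hw]
    rw [mk_H] at h5
    have hb : b = a + 1 := by linear_combination hyE - a * two_zero (F := F)
    rw [hb] at h4
    simp only [map_add, map_one, sigma_sq] at h4 h5 ⊢
    grind [two_zero (F := F)]
  have hb : b = a + 1 := by linear_combination hyE - a * two_zero (F := F)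
  rcases hδ with e | e
  · refine ⟨g₂ * g₁, by rw [map_mul]; exact mul_mem m₂ m₁, by rw [app_mul, f₁, f₂], ?_⟩
    rw [app_mul, e1, e2, hb]
    congr 1
    · exact (eq_of_add_eq_zero e).symm
    · linear_combination -e + (w + α) * two_zero (F := F)
  · obtain ⟨g₃, m₃, f₃, a₃⟩ := step 1 0 (by simp) (Or.inl one_ne_zero)
    refine ⟨g₃ * (g₂ * g₁), by rw [map_mul, map_mul]; exact mul_mem m₃ (mul_mem m₂ m₁),
      by rw [app_mul, app_mul, f₁, f₂, f₃], ?_⟩
    rw [app_mul, app_mul, e1, e2, a₃, mk_H, map_one, mul_one, mul_one, H_zero_right, add_zero,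
      show w + 1 + α + (w + α) = 1 by linear_combination (w + α) * two_zero (F := F), one_smul,
      mk_add, add_zero, hb]
    congr 1
    · linear_combination -e + (w + 1 + α) * two_zero (F := F)
    · linear_combination -e + (w + α) * two_zero (F := F)

/-- An element commuting with the standard transvection comes from an element fixing its vector. -/
theorem normalise {g : Cfsg.PSU 6 F 2} (hg : Commute g (tp (⟨vE F, vE_ne, vE_iso⟩ : Pt F))) :
    ∃ s : SU6, proj 6 F 2 s = g ∧ app s (vE F) = vE F := by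
  let e : Pt F := ⟨vE F, vE_ne, vE_iso⟩
  obtain ⟨s, hs⟩ := proj_surjective (n := 6) (F := F) (q := 2) g
  obtain ⟨c, hc⟩ : ∃ c : F, app s (vE F) = c • vE F := by
    refine (tp_eq_iff e (e.move s)).1 ?_
    rw [← tp_conj, hs, hg.eq, mul_inv_cancel_right]
  have hc0 : c ≠ 0 := fun h => vE_ne (app_injective s (by rw [hc, h, zero_smul, app_zero]))
  let z : SU6 := mkSU (c⁻¹ • LinearMap.id)
    (fun a b => by
      simp only [LinearMap.smul_apply, LinearMap.id_apply, H_smul_left, H_smul_right]
      rw [← mul_assoc, mul_comm (σ c⁻¹) c⁻¹, norm_one (inv_ne_zero hc0), one_mul])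
    (by
      rw [LinearMap.det_smul, LinearMap.det_id, mul_one, Module.finrank_fin_fun]
      linear_combination (c⁻¹ * c⁻¹ * c⁻¹ + 1) * cube (inv_ne_zero hc0))
  have hz : ∀ v, app z v = c⁻¹ • v := fun v => by rw [mkSU_apply]; rfl
  have hsz : proj 6 F 2 (z * s) = g := by
    rw [map_mul, (proj_eq_one_iff z).2 (mem_center_of_scalar hz), one_mul, hs]
  exact ⟨z * s, hsz, by rw [app_mul, hc, hz, smul_smul, inv_mul_cancel₀ hc0, one_smul]⟩

/-- The stabiliser of a point. -/
theorem stab_point (u : Pt F) {g : Cfsg.PSU 6 F 2} (hg : Commute g (tp u)) :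
    g ∈ Subgroup.closure (Q fun v : V => H v u.1 = 0) := by
  classical
  obtain ⟨w, hw, -, -⟩ := exists_frame (F := F)
  obtain ⟨k, hk⟩ := S0283.exists_map_vec (q := 2) (by norm_num) u.2.1 vE_ne u.2.2 vE_iso
  let e : Pt F := ⟨vE F, vE_ne, vE_iso⟩
  have hke : tp (u.move k) = tp e := congrArg tp (Subtype.ext hk)
  suffices h : proj 6 F 2 k * g * (proj 6 F 2 k)⁻¹ ∈ orthGroup F by
    have hmap : orthGroup F ≤ (Subgroup.closure (Q fun v : V => H v u.1 = 0)).map
        (MulAut.conj (proj 6 F 2 k)).toMonoidHom := by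
      rw [orthGroup, MonoidHom.map_closure]
      refine Subgroup.closure_mono ?_
      rintro _ ⟨p, hp, rfl⟩
      refine ⟨tp (p.move k⁻¹), ⟨p.move k⁻¹, ?_, rfl⟩, ?_⟩
      · show H (app k⁻¹ p.1) u.1 = 0
        rw [← app_H k, app_inv', hk]; exact hp
      · show proj 6 F 2 k * tp (p.move k⁻¹) * (proj 6 F 2 k)⁻¹ = tp p
        rw [tp_conj]
        exact congrArg tp (Subtype.ext (app_inv' k p.1))
    obtain ⟨z, hz, hz'⟩ := hmap h
    exact mul_left_cancel (mul_right_cancel hz') ▸ hz
  set g' := proj 6 F 2 k * g * (proj 6 F 2 k)⁻¹ with hg'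
  have hcomm : Commute g' (tp e) := by
    have := hg.map (MulAut.conj (proj 6 F 2 k)).toMonoidHom
    rw [← hke, ← tp_conj]
    exact this
  obtain ⟨s', hsz, hsE⟩ := normalise hcomm
  obtain ⟨m, hm, hmE, hmF⟩ := partner_trans hw (y := app s' (vF w))
    (by rw [app_H, vF_iso hw]) (by have h := app_H s' (vF w) (vE F); rwa [hsE, vF_E] at h)
  obtain ⟨q, hq⟩ := fix_pair hw (s := m⁻¹ * s')
    (by rw [app_mul, hsE]; have h := congrArg (app m⁻¹) hmE; rw [app_inv] at h; exact h.symm)
    (by rw [app_mul, ← hmF, app_inv])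
  have hfin : proj 6 F 2 (m⁻¹ * s') ∈ orthGroup F := by
    rw [← hq]
    exact Subgroup.closure_mono (Set.image_mono fun p hp => hp.1) (gam_mem q (w := w))
  have := mul_mem hm hfin
  rwa [← map_mul, mul_inv_cancel_left, hsz] at this

end Cfsg.Agent.Fischer3Tv
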