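import Cfsg.Agent.Lib.Fischer3Tv.Base

/-!
# The width of a group of type M22
-/

set_option autoImplicit false
set_option linter.unusedSectionVars false
set_option linter.style.haveILetI false

namespace Cfsg.Agent.Fischer3Tv

open Cfsg ClassK Fischer3 Fischer3Rel AutPSU Fischer3Srg

universe u

section space

variable {F : Type} [Field F] [hQ : QField F 2]
include hQ

local notation "V" => Fin 6 → F
local notation "H₆" => Cfsg.hermForm 6 F 2

/-- A totally isotropic subspace has dimension at most three. -/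
theorem finrank_le_three (U : Submodule F V) (hU : ∀ u ∈ U, ∀ v ∈ U, H₆ u v = 0) :
    Module.finrank F U ≤ 3 := by
  by_contra! h
  set b := Module.finBasis F U
  let e : Fin 4 → Fin (Module.finrank F U) := Fin.castLE h
  let Φ : V →ₗ[F] (Fin 4 → F) := LinearMap.pi fun i => Hl (q := 2) (b (e i) : V)
  have hker : U ≤ LinearMap.ker Φ := fun u hu => LinearMap.mem_ker.2 (funext fun i =>
    hU u hu _ (b (e i)).2)
  have hlt : LinearMap.range Φ < ⊤ := by
    refine lt_top_iff_ne_top.2 fun ht => ?_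
    have h1 := Submodule.finrank_mono hker
    have h2 := Φ.finrank_range_add_finrank_ker
    rw [ht, finrank_top, Module.finrank_fin_fun, Module.finrank_fin_fun] at h2
    omega
  obtain ⟨f, hf, hle⟩ := Submodule.exists_le_ker_of_lt_top _ hlt
  set c : Fin 4 → F := fun i => f (Pi.single i 1) with hc
  have hfc : ∀ x : Fin 4 → F, f x = ∑ i, x i * c i := fun x => by
    conv_lhs => rw [← Finset.univ_sum_single x]
    rw [map_sum]
    refine Finset.sum_congr rfl fun i _ => ?_
    rw [hc, show (Pi.single i (x i) : Fin 4 → F) = x i • Pi.single i 1 by simp [← Pi.single_smul],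
      map_smul, smul_eq_mul]
  set z : V := ∑ i, qb (F := F) 2 (c i) • (b (e i) : V) with hz
  have hz0 : z = 0 := eq_zero_of_orth (q := 2) fun v => by
    have h0 : f (Φ v) = 0 := hle ⟨v, rfl⟩
    rw [hfc] at h0
    rw [← h0]
    simp only [hz, Fin.sum_univ_four, H_add_right, H_smul_right, qb_qb, Φ, LinearMap.pi_apply, Hl_apply]
    ring
  refine hf (LinearMap.ext fun x => ?_)
  have hli : LinearIndependent F fun i => ((b (e i) : U) : V) :=
    ((b.linearIndependent.map' U.subtype U.ker_subtype).comp e (Fin.castLE_injective h))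
  have hc0 := Fintype.linearIndependent_iff.1 hli _ hz0
  rw [hfc, LinearMap.zero_apply, Finset.sum_eq_zero fun i _ => ?_]
  rw [(map_eq_zero _).1 (hc0 i), mul_zero]

/-- At most 21 pairwise orthogonal points. -/
theorem orth_points_le (T : Set (Pt F)) (hT : ∀ p ∈ T, ∀ r ∈ T, H₆ p.1 r.1 = 0) :
    (tp '' T).ncard ≤ 21 := by
  haveI := finite_field (F := F) (q := 2)
  set U := Submodule.span F ((fun p : Pt F => p.1) '' T)
  have hU : ∀ u ∈ U, ∀ v ∈ U, H₆ u v = 0 := by
    intro u hu
    have h1 : ∀ w ∈ (fun p : Pt F => p.1) '' T, H₆ u w = 0 := by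
      rintro _ ⟨r, hr, rfl⟩
      induction hu using Submodule.span_induction with
      | mem x hx => obtain ⟨p, hp, rfl⟩ := hx; exact hT p hp r hr
      | zero => exact H_zero_left _
      | add x y _ _ hx hy => rw [H_add_left, hx, hy, add_zero]
      | smul a x _ hx => rw [H_smul_left, hx, mul_zero]
    intro v hv
    induction hv using Submodule.span_induction with
    | mem x hx => exact h1 x hx
    | zero => exact H_zero_right _
    | add x y _ _ hx hy => rw [H_add_right, hx, hy, add_zero]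
    | smul a x _ hx => rw [H_smul_right, hx, mul_zero]
  have h2 : (tp '' T).ncard ≤ (Q fun v : V => v ∈ U).ncard :=
    Set.ncard_le_ncard (Set.image_mono fun p hp =>
      (Submodule.subset_span ⟨p, hp, rfl⟩ : p.1 ∈ U))
  have h3 := card_Q (F := F) (fun v : V => v ∈ U) fun c v _ hv => U.smul_mem c hv
  have h4 : Nat.card {v : V // v ∈ U ∧ v ≠ 0 ∧ H₆ v v = 0} < Nat.card U := by
    classical
    haveI := Fintype.ofFinite F
    simp only [Nat.card_eq_fintype_card]
    refine Fintype.card_lt_of_injective_of_notMem (fun v => (⟨v.1, v.2.1⟩ : U)) (fun v w e => ?_)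
      (b := 0) ?_
    · exact Subtype.ext (congrArg Subtype.val e :)
    · rintro ⟨v, hv⟩
      exact v.2.2.1 (congrArg Subtype.val hv)
  have h5 : Nat.card U = 4 ^ Module.finrank F U := by
    rw [Module.natCard_eq_pow_finrank (K := F), card_four]
  have h6 : Nat.card U ≤ 4 ^ 3 := h5 ▸ Nat.pow_le_pow_right (by norm_num) (finrank_le_three U hU)
  omega

variable (F) in
theorem card_plane : (Q fun v : V => ∃ a b c : F, v = planeVec F a b c).ncard = 21 := by
  classical
  haveI := finite_field (F := F) (q := 2)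
  haveI := Fintype.ofFinite F
  have h := card_Q (F := F) (fun v : V => ∃ a b c : F, v = planeVec F a b c) (by
    rintro k v - ⟨a, b, c, rfl⟩
    exact ⟨k * a, k * b, k * c, by ext i; fin_cases i <;> simp [planeVec]⟩)
  have h' : Nat.card {v : V // (∃ a b c : F, v = planeVec F a b c) ∧ v ≠ 0 ∧ H₆ v v = 0} =
      Nat.card {x : Fin 3 → F // x ≠ 0} := by
    let f : {x : Fin 3 → F // x ≠ 0} →
        {v : V // (∃ a b c : F, v = planeVec F a b c) ∧ v ≠ 0 ∧ H₆ v v = 0} := fun x =>
      ⟨planeVec F (x.1 0) (x.1 1) (x.1 2), ⟨x.1 0, x.1 1, x.1 2, rfl⟩, fun e => x.2 (funext fun i => by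
        fin_cases i
        · simpa [planeVec] using congrFun e 0
        · simpa [planeVec] using congrFun e 2
        · simpa [planeVec] using congrFun e 4), plane_H _ _ _ _ _ _⟩
    refine (Nat.card_congr (Equiv.ofBijective f ⟨?_, ?_⟩)).symm
    · intro x y e
      have e' := congrArg Subtype.val e
      refine Subtype.ext (funext fun i => ?_)
      fin_cases i
      · simpa [f, planeVec] using congrFun e' 0
      · simpa [f, planeVec] using congrFun e' 2
      · simpa [f, planeVec] using congrFun e' 4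
    · rintro ⟨v, ⟨a, b, c, rfl⟩, hv, -⟩
      refine ⟨⟨![a, b, c], fun e => hv ?_⟩, Subtype.ext (by simp [f])⟩
      have e0 := congrFun e 0; have e1 := congrFun e 1; have e2 := congrFun e 2
      simp at e0 e1 e2
      ext i; fin_cases i <;> simp [planeVec, e0, e1, e2]
  rw [h', Nat.card_eq_fintype_card, Fintype.card_subtype_compl, Fintype.card_fun, Fintype.card_fin,
    Fintype.card_subtype_eq, ← Nat.card_eq_fintype_card, card_four] at h
  omega

end space

variable {G : Type u} [Group G] [Finite G] {D : Set G}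

/-- The width is 22. -/
theorem width (hG : IsThreeTranspositionGroup D) (hprim : IsPrimitiveUnderConj D)
    (hM : IsOfTypeM22 G D) : commutingWidth D = 22 := by
  obtain ⟨d, hd, -⟩ := hprim.2.1
  refine le_antisymm (csSup_le ⟨0, ∅, Set.empty_subset _, Set.finite_empty, by simp, Set.ncard_empty _⟩ ?_) ?_
  · rintro n ⟨E, hED, -, hcm, rfl⟩
    rcases E.eq_empty_or_nonempty with rfl | ⟨e, he⟩
    · simp
    obtain ⟨F, _, _, ⟨C⟩⟩ := exists_chart hG hprim hM (hED he)
    haveI : Finite F := finite_field (F := F) (q := 2)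
    have hsub : ∀ y ∈ E \ {e}, y ∈ perp D e := fun y hy => ⟨hED hy.1, hy.2, hcm e he y hy.1⟩
    have h1 : (E \ {e}).ncard ≤ 21 := by
      rw [C.ncard_eq (T := tp '' {p : Pt F | ∃ y : ↥(perp D e), (y : G) ∈ E ∧ p = C.pt y}) hsub
        (Set.image_mono fun _ _ => trivial) fun y => ⟨fun h => ⟨C.pt y, ⟨y, h.1, rfl⟩, rfl⟩, ?_⟩]
      · refine orth_points_le _ ?_
        rintro _ ⟨y, hy, rfl⟩ _ ⟨z, hz, rfl⟩
        exact (C.comm y z).1 (hcm _ hy _ hz)
      · rintro ⟨p, ⟨z, hz, rfl⟩, hp⟩
        rw [C.inj _ _ hp] at hz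
        exact ⟨hz, y.2.2.1⟩
    have h2 := Set.ncard_sdiff_singleton_add_one he (Set.toFinite E)
    omega
  · obtain ⟨F, _, _, ⟨C⟩⟩ := exists_chart hG hprim hM hd
    haveI : Finite F := finite_field (F := F) (q := 2)
    set T := Q fun v : Fin 6 → F => ∃ a b c : F, v = planeVec F a b c
    set P : Set G := {g | ∃ h : g ∈ perp D d, tp (C.pt ⟨g, h⟩) ∈ T}
    have hP : P.ncard = 21 := by
      rw [C.ncard_eq (s := P) (T := T) (fun g hg => hg.1) (Set.image_mono fun _ _ => trivial)
        fun y => ⟨fun h => h.2, fun h => ⟨y.2, h⟩⟩, card_plane]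
    refine le_csSup ⟨D.ncard, ?_⟩ ⟨insert d P, Set.insert_subset hd fun g hg => hg.1.1, Set.toFinite _,
      ?_, ?_⟩
    · rintro n ⟨E, hED, -, -, rfl⟩
      exact Set.ncard_le_ncard hED
    · rintro a (rfl | ⟨ha, ha'⟩) b (rfl | ⟨hb, hb'⟩)
      · exact Commute.refl _
      · exact hb.2.2
      · exact ha.2.2.symm
      · obtain ⟨p, ⟨x, y, z, hp⟩, hpa⟩ := ha'
        obtain ⟨r, ⟨x', y', z', hr⟩, hrb⟩ := hb'
        refine (C.comm ⟨a, ha⟩ ⟨b, hb⟩).2 ?_
        rw [← Chart.orth_tp _ hpa, H_eq_zero_comm, ← Chart.orth_tp _ hrb, hp, hr]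
        exact plane_H _ _ _ _ _ _
    · rw [Set.ncard_insert_of_notMem (fun h => h.1.2.1 rfl), hP]

end Cfsg.Agent.Fischer3Tv
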